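import Cfsg.Agent.SimpleFacts.MinDegExc.Arith

/-!
The two degrees just below the bound for the twisted groups of type E6 do not divide the group orders.
-/

set_option autoImplicit false
set_option linter.unusedVariables false

namespace Cfsg.Agent.SimpleFacts.MinDegTw

open Cfsg.Agent.SimpleFacts.MinDegExc (Bnd)

/-- The degree at distance 1 below the bound, for large `q`. -/
theorem twisted_1 {p a : ℕ} (hp0 : p.Prime) (hbig : 14 ≤ p ^ a) {q k : ℤ} (hq0 : q = (p : ℤ) ^ a)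
    (hk : k = (q ^ 11 - q ^ 8 + q ^ 7 + q ^ 5 - q ^ 4 + q) - 1) (hdvd : k ∣ q ^ 36 * ((q ^ 2 - 1) * (q ^ 5 + 1) * (q ^ 6 - 1) * (q ^ 8 - 1) * (q ^ 9 + 1) * (q ^ 12 - 1))) : False := by
  have hq : (14 : ℤ) ≤ q := by rw [hq0]; exact_mod_cast hbig
  have hp : Bnd k (q ^ 36) 1 := by
    have := Bnd.prime_pow hp0 (j := 1) (Or.inr rfl) (show 1 < p ^ a by omega)
      (k := k) (τ := (((p : ℤ) ^ a) ^ 10 - ((p : ℤ) ^ a) ^ 7 + ((p : ℤ) ^ a) ^ 6 + ((p : ℤ) ^ a) ^ 4 - ((p : ℤ) ^ a) ^ 3 + 1)) (by rw [hk, hq0]; push_cast; ring) 36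
    rw [← hq0] at this
    exact_mod_cast this
  have h1 : Bnd k (q ^ 1 - 1) 1 :=
    Bnd.of_comb (1) (-(q ^ 10) - q ^ 9 - q ^ 8 - q ^ 6 - q ^ 5 - 2 * q ^ 4 - q ^ 3 - q ^ 2 - q ^ 1 - 2) (by rw [hk]; ring)
  have h2 : Bnd k (q ^ 1 + 1) 7 :=
    Bnd.of_comb (-(1)) (q ^ 10 - q ^ 9 + q ^ 8 - 2 * q ^ 7 + 3 * q ^ 6 - 3 * q ^ 5 + 4 * q ^ 4 - 5 * q ^ 3 + 5 * q ^ 2 - 5 * q ^ 1 + 6) (by rw [hk]; ring)
  have h3 : Bnd k (q ^ 2 + q ^ 1 + 1) 2 :=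
    Bnd.of_comb (-(1)) (q ^ 9 - q ^ 8 + q ^ 5 - q ^ 4 + q ^ 3 - q ^ 2 + 1) (by rw [hk]; ring)
  have h4 : Bnd k (q ^ 2 + 1) 3 :=
    Bnd.of_comb (-(1)) (q ^ 9 - q ^ 7 - q ^ 6 + 2 * q ^ 5 + q ^ 4 - q ^ 3 - 2 * q ^ 2 + q ^ 1 + 2) (by rw [hk]; ring)
  have h6 : Bnd k (q ^ 2 - q ^ 1 + 1) 2 :=
    Bnd.of_comb (1) (-(q ^ 9) - q ^ 8 + 2 * q ^ 6 + q ^ 5 - q ^ 4 - 3 * q ^ 3 - q ^ 2 + 2 * q ^ 1 + 3) (by rw [hk]; ring)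
  have h8 : Bnd k (q ^ 4 + 1) 1 :=
    Bnd.of_comb (-(1)) (q ^ 7 - q ^ 4 + q ^ 1) (by rw [hk]; ring)
  have h10 : Bnd k (q ^ 4 - q ^ 3 + q ^ 2 - q ^ 1 + 1) 1 :=
    Bnd.of_comb (-(q ^ 3) - q ^ 1) (q ^ 10 + q ^ 9 + q ^ 8 - q ^ 5 + 1) (by rw [hk]; ring)
  have h12 : Bnd k (q ^ 4 - q ^ 2 + 1) (q ^ 4 - q ^ 2 + 1) := Bnd.refl _ _
  have h18 : Bnd k (q ^ 6 - q ^ 3 + 1) 1 :=
    Bnd.of_comb (-(1)) (q ^ 5 + q ^ 1) (by rw [hk]; ring)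
  have g0 := ((h1).mul h2).congr (a' := (q ^ 2 - 1)) (by ring) rfl
  have g1 := ((h2).mul h10).congr (a' := (q ^ 5 + 1)) (by ring) rfl
  have g2 := ((((h1).mul h2).mul h3).mul h6).congr (a' := (q ^ 6 - 1)) (by ring) rfl
  have g3 := ((((h1).mul h2).mul h4).mul h8).congr (a' := (q ^ 8 - 1)) (by ring) rfl
  have g4 := (((h2).mul h6).mul h18).congr (a' := (q ^ 9 + 1)) (by ring) rfl
  have g5 := ((((((h1).mul h2).mul h3).mul h4).mul h6).mul h12).congr (a' := (q ^ 12 - 1)) (by ring) rfl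
  have hall := ((((((((hp).mul g0).mul g1).mul g2).mul g3).mul g4).mul g5).congr (a' := q ^ 36 * ((q ^ 2 - 1) * (q ^ 5 + 1) * (q ^ 6 - 1) * (q ^ 8 - 1) * (q ^ 9 + 1) * (q ^ 12 - 1))) (by ring) rfl) k dvd_rfl hdvd
  have hpow : ∀ a b : ℕ, a ≤ b → q ^ a ≤ q ^ b := fun a b h => pow_le_pow_right₀ (by linarith) h
  have bR : 0 < ((q ^ 4 - q ^ 2 + 1)) ∧ ((q ^ 4 - q ^ 2 + 1)) ≤ q ^ 4 := by
    constructor <;> nlinarith [hpow 0 1 (by norm_num), hpow 1 2 (by norm_num), hpow 2 3 (by norm_num), hpow 3 4 (by norm_num)]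
  have hC : k ∣ (33882912 : ℤ) * ((q ^ 4 - q ^ 2 + 1)) := hall.trans (dvd_of_eq (by push_cast; ring))
  have hle := Int.le_of_dvd (mul_pos (by norm_num) bR.1) hC
  have hle2 : (33882912 : ℤ) * ((q ^ 4 - q ^ 2 + 1)) ≤ (33882912 : ℤ) * q ^ 4 := mul_le_mul_of_nonneg_left bR.2 (by norm_num)
  have hqn : (67765824 : ℤ) < q ^ 7 :=
    lt_of_lt_of_le (by norm_num) (pow_le_pow_left₀ (by norm_num) hq 7)
  have hlt : (67765824 : ℤ) * q ^ 4 < q ^ 11 := by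
    have := mul_lt_mul_of_pos_right hqn (show (0 : ℤ) < q ^ 4 by positivity)
    linarith [show q ^ 7 * q ^ 4 = q ^ 11 by ring]
  have h8' : 2 * q ^ 8 ≤ q ^ 11 := by
    have := mul_le_mul_of_nonneg_right (show (2 : ℤ) ≤ q ^ 3 by nlinarith [hpow 1 3 (by norm_num)])
      (show (0 : ℤ) ≤ q ^ 8 by positivity)
    linarith [show q ^ 3 * q ^ 8 = q ^ 11 by ring]
  linarith [hle, hle2, hlt, h8', hpow 0 1 (by norm_num), hpow 4 5 (by norm_num), hpow 1 7 (by norm_num)]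

/-- The same for small `q`, by computation. -/
theorem twisted_1_small : ∀ q < 14, 2 ≤ q →
    ¬ (q ^ 11 + q ^ 7 + q ^ 5 + q - q ^ 8 - q ^ 4 - 1) ∣ q ^ 36 * ((q ^ 2 - 1) * (q ^ 5 + 1) * (q ^ 6 - 1) * (q ^ 8 - 1) * (q ^ 9 + 1) * (q ^ 12 - 1)) := by decide +kernel

/-- The degree at distance 2 below the bound, for large `q`. -/
theorem twisted_2 {p a : ℕ} (hp0 : p.Prime) (hbig : 26 ≤ p ^ a) {q k : ℤ} (hq0 : q = (p : ℤ) ^ a)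
    (hk : k = (q ^ 11 - q ^ 8 + q ^ 7 + q ^ 5 - q ^ 4 + q) - 2) (hdvd : k ∣ q ^ 36 * ((q ^ 2 - 1) * (q ^ 5 + 1) * (q ^ 6 - 1) * (q ^ 8 - 1) * (q ^ 9 + 1) * (q ^ 12 - 1))) : False := by
  have hq : (26 : ℤ) ≤ q := by rw [hq0]; exact_mod_cast hbig
  have hp : Bnd k (q ^ 36) 2 := by
    have := Bnd.prime_pow hp0 (j := 2) (Or.inl (by norm_num)) (show 2 < p ^ a by omega)
      (k := k) (τ := (((p : ℤ) ^ a) ^ 10 - ((p : ℤ) ^ a) ^ 7 + ((p : ℤ) ^ a) ^ 6 + ((p : ℤ) ^ a) ^ 4 - ((p : ℤ) ^ a) ^ 3 + 1)) (by rw [hk, hq0]; push_cast; ring) 36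
    rw [← hq0] at this
    exact_mod_cast this
  have h1 : Bnd k (q ^ 1 - 1) (q ^ 1 - 1) := Bnd.refl _ _
  have h2 : Bnd k (q ^ 1 + 1) 8 :=
    Bnd.of_comb (-(1)) (q ^ 10 - q ^ 9 + q ^ 8 - 2 * q ^ 7 + 3 * q ^ 6 - 3 * q ^ 5 + 4 * q ^ 4 - 5 * q ^ 3 + 5 * q ^ 2 - 5 * q ^ 1 + 6) (by rw [hk]; ring)
  have h3 : Bnd k (q ^ 2 + q ^ 1 + 1) 3 :=
    Bnd.of_comb (-(1)) (q ^ 9 - q ^ 8 + q ^ 5 - q ^ 4 + q ^ 3 - q ^ 2 + 1) (by rw [hk]; ring)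
  have h4 : Bnd k (q ^ 2 + 1) 4 :=
    Bnd.of_comb (-(1)) (q ^ 9 - q ^ 7 - q ^ 6 + 2 * q ^ 5 + q ^ 4 - q ^ 3 - 2 * q ^ 2 + q ^ 1 + 2) (by rw [hk]; ring)
  have h6 : Bnd k (q ^ 2 - q ^ 1 + 1) 1 :=
    Bnd.of_comb (1) (-(q ^ 9) - q ^ 8 + 2 * q ^ 6 + q ^ 5 - q ^ 4 - 3 * q ^ 3 - q ^ 2 + 2 * q ^ 1 + 3) (by rw [hk]; ring)
  have h8 : Bnd k (q ^ 4 + 1) 2 :=
    Bnd.of_comb (-(1)) (q ^ 7 - q ^ 4 + q ^ 1) (by rw [hk]; ring)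
  have h10 : Bnd k (q ^ 4 - q ^ 3 + q ^ 2 - q ^ 1 + 1) 11 :=
    Bnd.of_comb (-(q ^ 3) - q ^ 2 - 3 * q ^ 1 - 5) (q ^ 10 + 2 * q ^ 9 + 4 * q ^ 8 + 7 * q ^ 7 + 4 * q ^ 6 - 3 * q ^ 5 - 5 * q ^ 4 + 1) (by rw [hk]; ring)
  have h12 : Bnd k (q ^ 4 - q ^ 2 + 1) 1 :=
    Bnd.of_comb (-(1)) (q ^ 7 + q ^ 5 - q ^ 4 + q ^ 3 - q ^ 2 + q ^ 1 - 1) (by rw [hk]; ring)
  have h18 : Bnd k (q ^ 6 - q ^ 3 + 1) 2 :=
    Bnd.of_comb (-(1)) (q ^ 5 + q ^ 1) (by rw [hk]; ring)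
  have g0 := ((h1).mul h2).congr (a' := (q ^ 2 - 1)) (by ring) rfl
  have g1 := ((h2).mul h10).congr (a' := (q ^ 5 + 1)) (by ring) rfl
  have g2 := ((((h1).mul h2).mul h3).mul h6).congr (a' := (q ^ 6 - 1)) (by ring) rfl
  have g3 := ((((h1).mul h2).mul h4).mul h8).congr (a' := (q ^ 8 - 1)) (by ring) rfl
  have g4 := (((h2).mul h6).mul h18).congr (a' := (q ^ 9 + 1)) (by ring) rfl
  have g5 := ((((((h1).mul h2).mul h3).mul h4).mul h6).mul h12).congr (a' := (q ^ 12 - 1)) (by ring) rfl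
  have hall := ((((((((hp).mul g0).mul g1).mul g2).mul g3).mul g4).mul g5).congr (a' := q ^ 36 * ((q ^ 2 - 1) * (q ^ 5 + 1) * (q ^ 6 - 1) * (q ^ 8 - 1) * (q ^ 9 + 1) * (q ^ 12 - 1))) (by ring) rfl) k dvd_rfl hdvd
  have hpow : ∀ a b : ℕ, a ≤ b → q ^ a ≤ q ^ b := fun a b h => pow_le_pow_right₀ (by linarith) h
  have bR : 0 < ((q ^ 1 - 1) * (q ^ 1 - 1) * (q ^ 1 - 1) * (q ^ 1 - 1)) ∧ ((q ^ 1 - 1) * (q ^ 1 - 1) * (q ^ 1 - 1) * (q ^ 1 - 1)) ≤ q ^ 4 := by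
    have h := pow_le_pow_left₀ (by linarith : (0 : ℤ) ≤ q - 1) (sub_le_self q zero_le_one) 4
    have h' := pow_pos (by linarith : (0 : ℤ) < q - 1) 4
    rw [show ((q ^ 1 - 1) * (q ^ 1 - 1) * (q ^ 1 - 1) * (q ^ 1 - 1)) = (q - 1) ^ 4 by ring]
    exact ⟨h', h⟩
  have hC : k ∣ (3321888768 : ℤ) * ((q ^ 1 - 1) * (q ^ 1 - 1) * (q ^ 1 - 1) * (q ^ 1 - 1)) := hall.trans (dvd_of_eq (by push_cast; ring))
  have hle := Int.le_of_dvd (mul_pos (by norm_num) bR.1) hC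
  have hle2 : (3321888768 : ℤ) * ((q ^ 1 - 1) * (q ^ 1 - 1) * (q ^ 1 - 1) * (q ^ 1 - 1)) ≤ (3321888768 : ℤ) * q ^ 4 := mul_le_mul_of_nonneg_left bR.2 (by norm_num)
  have hqn : (6643777536 : ℤ) < q ^ 7 :=
    lt_of_lt_of_le (by norm_num) (pow_le_pow_left₀ (by norm_num) hq 7)
  have hlt : (6643777536 : ℤ) * q ^ 4 < q ^ 11 := by
    have := mul_lt_mul_of_pos_right hqn (show (0 : ℤ) < q ^ 4 by positivity)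
    linarith [show q ^ 7 * q ^ 4 = q ^ 11 by ring]
  have h8' : 2 * q ^ 8 ≤ q ^ 11 := by
    have := mul_le_mul_of_nonneg_right (show (2 : ℤ) ≤ q ^ 3 by nlinarith [hpow 1 3 (by norm_num)])
      (show (0 : ℤ) ≤ q ^ 8 by positivity)
    linarith [show q ^ 3 * q ^ 8 = q ^ 11 by ring]
  linarith [hle, hle2, hlt, h8', hpow 0 1 (by norm_num), hpow 4 5 (by norm_num), hpow 1 7 (by norm_num)]

/-- The same for small `q`, by computation. -/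
theorem twisted_2_small : ∀ q < 26, 2 ≤ q →
    ¬ (q ^ 11 + q ^ 7 + q ^ 5 + q - q ^ 8 - q ^ 4 - 2) ∣ q ^ 36 * ((q ^ 2 - 1) * (q ^ 5 + 1) * (q ^ 6 - 1) * (q ^ 8 - 1) * (q ^ 9 + 1) * (q ^ 12 - 1)) := by decide +kernel

end Cfsg.Agent.SimpleFacts.MinDegTw
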