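import Cfsg.Agent.SimpleFacts.MinDegTw.E6
import Cfsg.Agent.SimpleFacts.MinDegTw.Arith
import Cfsg.Agent.Lib.Chevalley.Twist.CountE6

/-!
The minimal degree of the twisted groups of type E6.
-/

set_option autoImplicit false

namespace Cfsg.Agent.SimpleFacts.MinDegTw

open Cfsg.Lie Cfsg.Agent.Chevalley.Twist Cfsg.Agent.Chevalley.Twist.E6

variable {K : Type*} [Field K] [Fintype K]

/-- Non-trivial irreducible representations of `²E_6(q)` have degree at least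
`q(q^6-q^3+1)(q^4+1)`. -/
theorem twisted_min (q : ℕ) (hq : IsPrimePow q) (hK : Fintype.card K = q ^ 2) (k : ℕ)
    (ρ : Representation ℂ (twistedE6 K q) (Fin k → ℂ)) (hρ : ρ.IsIrreducible) (hk : 2 ≤ k) :
    q * (q ^ 6 - q ^ 3 + 1) * (q ^ 4 + 1) ≤ k := by
  obtain ⟨θ, hθ⟩ := exists_powq hq two_ne_zero hK
  obtain ⟨X⟩ := E6.exists_setup hq hK
  have hq2 := hq.two_le
  obtain ⟨T, hT⟩ : ∃ T, T = q * (q ^ 6 - q ^ 3 + 1) * (q ^ 4 + 1) := ⟨_, rfl⟩
  rw [← hT]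
  have h36 : q ^ 3 ≤ q ^ 6 := Nat.pow_le_pow_right (by omega) (by norm_num)
  have hT' : T + q ^ 8 + q ^ 4 = q ^ 11 + q ^ 7 + q ^ 5 + q := by
    rw [hT]; zify [h36]; ring
  have hlow := twisted_lower X θ hθ hq k ρ hρ hk
  have hlo : T ≤ k + 2 := by
    rcases hlow with h | h
    · refine le_trans ?_ (Nat.le_add_right k 2)
      refine Nat.le_of_mul_le_mul_left (le_trans ?_ h) (by omega : 0 < q)
      rw [hT]
      zify [h36, show 1 ≤ q by omega]
      nlinarith [pow_le_pow_right₀ (show (1 : ℤ) ≤ q by omega) (show 9 ≤ 12 by norm_num),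
        pow_le_pow_right₀ (show (1 : ℤ) ≤ q by omega) (show 8 ≤ 12 by norm_num),
        pow_le_pow_right₀ (show (1 : ℤ) ≤ q by omega) (show 6 ≤ 9 by norm_num),
        pow_le_pow_right₀ (show (1 : ℤ) ≤ q by omega) (show 2 ≤ 5 by norm_num),
        pow_le_pow_right₀ (show (1 : ℤ) ≤ q by omega) (show 6 ≤ 8 by norm_num),
        mul_le_mul_of_nonneg_right (show (4 : ℤ) ≤ (q : ℤ) ^ 2 by nlinarith)
          (show (0 : ℤ) ≤ (q : ℤ) ^ 10 by positivity)]
    · rw [hT]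
      obtain ⟨m, rfl⟩ : ∃ m, q = m + 1 := ⟨q - 1, by omega⟩
      rw [Nat.add_sub_cancel] at h
      zify [h36] at h ⊢
      nlinarith
  by_contra hlt
  push Not at hlt
  obtain ⟨p, n, hp, -, hpq⟩ := id hq
  have hdvd := MinDegExc.degree_dvd_of ρ hρ (E6.card_group X hq)
  have hj : ∀ j : ℕ, j = 1 ∨ j = 2 → k = q ^ 11 + q ^ 7 + q ^ 5 + q - q ^ 8 - q ^ 4 - j → False := by
    intro j hj hkj
    have hdvd' : k ∣ q ^ 36 * ((q ^ 2 - 1) * (q ^ 5 + 1) * (q ^ 6 - 1) * (q ^ 8 - 1) * (q ^ 9 + 1) *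
        (q ^ 12 - 1)) := by simpa [mul_assoc] using hdvd
    have hj2 : j ≤ 2 := by omega
    have hkz : (k : ℤ) = ((q : ℤ) ^ 11 - q ^ 8 + q ^ 7 + q ^ 5 - q ^ 4 + q) - j := by
      have : k + q ^ 8 + q ^ 4 + j = q ^ 11 + q ^ 7 + q ^ 5 + q := by omega
      have h' : ((k + q ^ 8 + q ^ 4 + j : ℕ) : ℤ) = ((q ^ 11 + q ^ 7 + q ^ 5 + q : ℕ) : ℤ) := by
        rw [this]
      push_cast at h'
      linarith
    have hz := Int.natCast_dvd_natCast.2 hdvd'
    have hsub : ∀ d, ((q ^ d - 1 : ℕ) : ℤ) = (q : ℤ) ^ d - 1 := fun d => by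
      push_cast [Nat.cast_sub (Nat.one_le_pow d q (by omega))]; ring
    push_cast [hsub] at hz
    have hqp : (q : ℤ) = (p : ℤ) ^ n := by rw [← hpq]; push_cast; rfl
    rcases hj with rfl | rfl
    · rcases Nat.lt_or_ge q 14 with hs | hb
      · exact twisted_1_small q (lt_of_lt_of_le hs (by norm_num)) hq2 (hkj ▸ hdvd')
      · exact twisted_1 hp.nat_prime (hpq ▸ hb) hqp (by exact_mod_cast hkz) hz
    · rcases Nat.lt_or_ge q 26 with hs | hb
      · exact twisted_2_small q (lt_of_lt_of_le hs (by norm_num)) hq2 (hkj ▸ hdvd')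
      · exact twisted_2 hp.nat_prime (hpq ▸ hb) hqp (by exact_mod_cast hkz) hz
  rcases (show k + 1 = T ∨ k + 2 = T by omega) with h | h
  · exact hj 1 (Or.inl rfl) (by omega)
  · exact hj 2 (Or.inr rfl) (by omega)

end Cfsg.Agent.SimpleFacts.MinDegTw
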