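import Cfsg.Agent.SimpleFacts.MinDegTw.Rel

/-!
The characters of a radical with the given deficit on its long roots: one at each point of a cell.
-/

set_option autoImplicit false
set_option linter.unusedSectionVars false

namespace Cfsg.Agent.SimpleFacts.MinDegTw

open scoped BigOperators
open Cfsg.Agent.SimpleFacts.MinDegExc (Sys Fam)

variable {K : Type*} [Field K] [Fintype K] {V : Type*} [AddCommGroup V] [Module ℂ V]
variable [FiniteDimensional ℂ V]
variable {S : Sys} {σ : ℕ → ℕ} {θ : K →+* K} {e : ℕ → K} {q : ℕ} {lv : TLvl}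
variable {W : ℕ → K → Module.End ℂ V} {ψ : AddChar K ℂ} {l : K}

/-- The parameter clearing the coordinate `b` with value `β`. -/
def sOf (S : Sys) (σ : ℕ → ℕ) (l : K) (c : Cell) (v : K) (b : ℕ) (β : K) : K :=
  (if σ b = b then l else 1) * (S.sgn K (rb S c.e b) b * β / v)

/-- The unique character with one coordinate. -/
def dlt (lv : TLvl) (x : ℕ) (v : K) : Co lv → K := fun b => if b.1 = x then v else 0

theorem gv_dlt {x : ℕ} (hx : x ∈ lv.R) (v : K) (u : ℕ) :
    gv lv (dlt lv x v) u = if u = x then v else 0 := by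
  by_cases hu : u ∈ lv.R
  · rw [gv_mem _ hu]; rfl
  · rw [gv_not _ hu, if_neg]; rintro rfl; exact hu hx

/-- The deficit on the long roots. -/
def DefT (S : Sys) (σ : ℕ → ℕ) (θ : K →+* K) (q : ℕ) (lv : TLvl) (W : ℕ → K → Module.End ℂ V) : Prop :=
  ∀ b ∈ lv.R, σ b = b → ∀ t : K, t + θ t ≠ 0 →
    LinearMap.trace ℂ V (W b t) = (Module.finrank ℂ V : ℂ) - (q : ℂ) ^ (lv.k + 1)

theorem tg1 (r x : ℕ) : S.sm r x ∈ tgs S σ r x := by simp [tgs]

theorem tg2 (r x : ℕ) : S.sm (σ r) x ∈ tgs S σ r x := by simp [tgs]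

theorem tg3 (r x : ℕ) : S.sm (σ r) (S.sm r x) ∈ tgs S σ r x := by simp [tgs]

namespace TCtx

variable (C : TCtx S σ θ e q lv ψ l W)
include C

theorem cell_facts {c : Cell} (hc : lv.cellChk S σ c = true) :
    c.e ∈ lv.R ∧ σ c.e = c.e ∧ weight σ c.v1 = lv.k ∧ c.v1.Nodup ∧ lv.killChk S σ c = true ∧
      lv.raiseChk S σ c = true ∧ ∀ b ∈ c.v1, b ∈ lv.R ∧ b ≠ c.e ∧ rb S c.e b ∈ lv.L ∧
        (∀ t ∈ tgs S σ (rb S c.e b) c.e, t ∉ lv.R) ∧ S.sm (rb S c.e b) b = c.e ∧
        (σ b = b → σ (rb S c.e b) = rb S c.e b) ∧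
        (σ b ≠ b → S.sm (σ (rb S c.e b)) b ∉ lv.R) ∧
        S.sm (σ (rb S c.e b)) (S.sm (rb S c.e b) b) ∉ lv.R ∧
        ∀ b' ∈ c.v1, b' ≠ b → b' ≠ σ b ∧ (∀ t ∈ tgs S σ (rb S c.e b) b', t ∉ lv.R) ∧
          ∀ t ∈ tgs S σ (rb S c.e b) (σ b'), t ∉ lv.R := by
  simp only [TLvl.cellChk, TLvl.isoChk, TLvl.free, TLvl.inR, Bool.and_eq_true, List.all_eq_true,
    Bool.not_eq_true', beq_iff_eq, beq_eq_false_iff_ne, decide_eq_true_eq, List.contains_iff_mem,
    Bool.or_eq_true, ← Bool.not_eq_true] at hc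
  obtain ⟨h1, h2, h3, h4, h5, h6, h7⟩ := hc
  refine ⟨h1, h2, h4, h5, h6, h7, fun b hb => ?_⟩
  obtain ⟨g1, g2, g3, g4, g5, g6, g7, g8⟩ := h3 b hb
  refine ⟨g1, g2, g3, g4, g5, fun hσ => ?_, fun hσ => ?_, g7, fun b' hb' hne => ?_⟩
  · rw [if_pos hσ] at g6
    simpa using g6
  · rw [if_neg hσ] at g6
    simpa [← Bool.not_eq_true] using g6
  · exact (g8 b' hb').resolve_left hne

theorem ce_fix {c : Cell} (hc : lv.cellChk S σ c = true) {y : Co lv → K} (hy : Adm σ θ e lv y) :
    θ (gv lv y c.e) = gv lv y c.e := by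
  obtain ⟨he, hσ, -⟩ := C.cell_facts hc
  have h := hy c.e he
  rw [hσ, C.efix c.e hσ, one_mul] at h
  exact h.symm

/-- Moves at `v1` keep `e` and the other representatives. -/
theorem tmv_keep {c : Cell} (hc : lv.cellChk S σ c = true) {b : ℕ} (hb : b ∈ c.v1) (s : K)
    (y : Co lv → K) : gv lv (tmv S σ θ e lv (rb S c.e b) s y) c.e = gv lv y c.e ∧
      (∀ b' ∈ c.v1, b' ≠ b →
        gv lv (tmv S σ θ e lv (rb S c.e b) s y) b' = gv lv y b' ∧
        gv lv (tmv S σ θ e lv (rb S c.e b) s y) (σ b') = gv lv y (σ b')) ∧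
      gv lv (tmv S σ θ e lv (rb S c.e b) s y) b = gv lv y b -
        S.sgn K (rb S c.e b) b * (if σ b = b then s + θ s else s) * gv lv y c.e := by
  obtain ⟨he, -, -, -, -, -, hv⟩ := C.cell_facts hc
  obtain ⟨hbR, -, hrL, hte, h1, hfix, hpair, h3, hoth⟩ := hv b hb
  have zero3 : ∀ x ∈ lv.R, (∀ t ∈ tgs S σ (rb S c.e b) x, t ∉ lv.R) →
      gv lv (tmv S σ θ e lv (rb S c.e b) s y) x = gv lv y x := by
    intro x hx ht
    rw [C.gv_tmv hrL s y hx, gv_not _ (ht _ (tg1 (rb S c.e b) x)), gv_not _ (ht _ (tg2 (rb S c.e b) x)),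
      gv_not _ (ht _ (tg3 (rb S c.e b) x))]
    ring
  refine ⟨zero3 _ he hte, fun b' hb' hne => ?_, ?_⟩
  · obtain ⟨-, k1, k2⟩ := hoth b' hb' hne
    exact ⟨zero3 _ (hv b' hb').1 k1, zero3 _ (C.σR (hv b' hb').1) k2⟩
  · rw [C.gv_tmv hrL s y hbR, gv_not _ h3, h1]
    by_cases hσ : σ b = b
    · rw [if_pos hσ, hfix hσ, h1, pr, C.efix _ (hfix hσ)]; ring
    · rw [if_neg hσ, gv_not _ (hpair hσ)]; ring

theorem clear_val {c : Cell} (hc : lv.cellChk S σ c = true) {b : ℕ} (hb : b ∈ c.v1) {v : K}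
    (hv : v ≠ 0) (hvF : θ v = v) {y : Co lv → K} (hye : gv lv y c.e = v) (β : K)
    (hβ : σ b = b → θ β = β) :
    gv lv (tmv S σ θ e lv (rb S c.e b) (sOf S σ l c v b β) y) b = gv lv y b - β := by
  rw [(C.tmv_keep hc hb _ y).2.2, hye, sOf]
  obtain ⟨N, hN⟩ : ∃ N, N = S.sgn K (rb S c.e b) b := ⟨_, rfl⟩
  have hNN : N * N = 1 := hN ▸ S.sgn_sq _ _
  have hNθ : θ N = N := hN ▸ sgn_fix _ _
  rw [← hN]
  by_cases hσ : σ b = b
  · rw [if_pos hσ, if_pos hσ, map_mul, map_div₀, map_mul, hNθ, hβ hσ, hvF]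
    rw [show N * (l * (N * β / v) + θ l * (N * β / v)) * v = (l + θ l) * (N * N) * (β / v * v) by ring,
      C.chr.lam, hNN, one_mul, one_mul, div_mul_cancel₀ _ hv]
  · rw [if_neg hσ, if_neg hσ, one_mul,
      show N * (N * β / v) * v = N * N * (β / v * v) by ring, hNN, one_mul, div_mul_cancel₀ _ hv]

open _root_.Classical in
/-- Clearing coordinates from an invariant sum. -/
theorem peel {M : Type*} [AddCommMonoid M] (f : (Co lv → K) → M) {c : Cell}
    (hc : lv.cellChk S σ c = true) {v : K} (hv : v ≠ 0) (hvF : θ v = v)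
    (hadm : ∀ y, f y ≠ 0 → Adm σ θ e lv y) (Q : (Co lv → K) → Prop) :
    ∀ L : List ℕ, L.Nodup → (∀ b ∈ L, b ∈ c.v1) →
      (∀ b ∈ L, ∀ t y, Q y → Q (tmv S σ θ e lv (rb S c.e b) t y)) →
      (∀ b ∈ L, ∀ t y, Q y → f (tmv S σ θ e lv (rb S c.e b) t y) = f y) →
      ∑ y ∈ Finset.univ.filter (fun y => Q y ∧ gv lv y c.e = v), f y =
        (q ^ weight σ L) • ∑ y ∈ Finset.univ.filter
          (fun y => Q y ∧ gv lv y c.e = v ∧ ∀ b ∈ L, gv lv y b = 0), f y := by
  intro L
  induction L with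
  | nil => intros; simp [weight]
  | cons b L ih =>
    intro hnd hl hQ hf
    rw [ih (List.nodup_cons.1 hnd).2 (fun b' hb' => hl b' (List.mem_cons_of_mem _ hb'))
      (fun b' hb' => hQ b' (List.mem_cons_of_mem _ hb'))
      (fun b' hb' => hf b' (List.mem_cons_of_mem _ hb')),
      show weight σ (b :: L) = (if σ b == b then 1 else 2) + weight σ L by simp [weight],
      pow_add, mul_comm, mul_smul]
    congr 1
    have hb := hl b List.mem_cons_self
    obtain ⟨-, -, -, -, -, -, hv1⟩ := C.cell_facts hc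
    obtain ⟨hbR, -, hrL, -⟩ := hv1 b hb
    obtain ⟨r, hr⟩ : ∃ r, r = rb S c.e b := ⟨_, rfl⟩
    rw [← hr] at hrL
    have keep : ∀ s y, gv lv (tmv S σ θ e lv r s y) c.e = gv lv y c.e ∧
        ∀ b' ∈ L, gv lv (tmv S σ θ e lv r s y) b' = gv lv y b' := fun s y => by
      obtain ⟨k1, k2, -⟩ := C.tmv_keep hc hb s y
      exact hr ▸ ⟨k1, fun b' hb' => (k2 b' (hl b' (List.mem_cons_of_mem _ hb')) fun h =>
        (List.nodup_cons.1 hnd).1 (h ▸ hb')).1⟩
    have hQ' : ∀ t y, Q y → Q (tmv S σ θ e lv r t y) := fun t => hr ▸ hQ b List.mem_cons_self t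
    have hf' : ∀ t y, Q y → f (tmv S σ θ e lv r t y) = f y := fun t => hr ▸ hf b List.mem_cons_self t
    have hinvQ : ∀ t y, Q y → f y = f (tmv S σ θ e lv r t y) := fun t y h => (hf' t y h).symm
    obtain ⟨Sb, hSb⟩ : ∃ Sb, Sb = (if σ b = b then fixSet θ else (Finset.univ : Finset K)) := ⟨_, rfl⟩
    have hcard : Sb.card = q ^ (if σ b == b then 1 else 2) := by
      by_cases hσ : σ b = b
      · rw [hSb, if_pos hσ, if_pos (by simpa using hσ), C.fr.card_fix, pow_one]
      · rw [hSb, if_neg hσ, if_neg (by simpa using hσ), Finset.card_univ, C.fr.card]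
    have hmemS : ∀ β ∈ Sb, σ b = b → θ β = β := fun β hβ hσ => by
      rwa [hSb, if_pos hσ, mem_fixSet] at hβ
    obtain ⟨A, hA⟩ : ∃ A, A = Finset.univ.filter
        (fun y => Q y ∧ gv lv y c.e = v ∧ ∀ b' ∈ L, gv lv y b' = 0) := ⟨_, rfl⟩
    obtain ⟨B, hB⟩ : ∃ B, B = Finset.univ.filter
        (fun y => Q y ∧ gv lv y c.e = v ∧ ∀ b' ∈ b :: L, gv lv y b' = 0) := ⟨_, rfl⟩
    rw [← hA, ← hB, ← Finset.sum_filter_ne_zero (s := A), ← Finset.sum_filter_ne_zero (s := B)]
    have hin : ∀ y ∈ A.filter (fun y => f y ≠ 0), gv lv y b ∈ Sb := fun y hy => by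
      rw [hSb]
      split_ifs with hσ
      · have h := hadm y (Finset.mem_filter.1 hy).2 b hbR
        rw [hσ, C.efix b hσ, one_mul] at h
        rw [mem_fixSet]; exact h.symm
      · exact Finset.mem_univ _
    refine (Finset.sum_bij' (t := Sb ×ˢ B.filter (fun y => f y ≠ 0)) (g := fun p => f p.2)
      (fun y _ => (gv lv y b, tmv S σ θ e lv r (sOf S σ l c v b (gv lv y b)) y))
      (fun p _ => tmv S σ θ e lv r (-sOf S σ l c v b p.1) p.2) ?_ ?_ ?_ ?_ ?_).trans ?_
    · intro y hy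
      have hy' := hin y hy
      simp only [hA, Finset.mem_filter, Finset.mem_univ, true_and] at hy
      obtain ⟨⟨hyQ, hye, hyl⟩, hy0⟩ := hy
      refine Finset.mem_product.2 ⟨hy', ?_⟩
      simp only [hB, Finset.mem_filter, Finset.mem_univ, true_and]
      obtain ⟨k1, k3⟩ := keep (sOf S σ l c v b (gv lv y b)) y
      refine ⟨⟨hQ' _ y hyQ, k1.trans hye, fun b' hb' => ?_⟩, by rwa [hf' _ y hyQ]⟩
      rcases List.mem_cons.1 hb' with rfl | hb'
      · rw [hr, C.clear_val hc hb hv hvF hye _ (fun hσ => hmemS _ hy' hσ), sub_self]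
      · rw [k3 b' hb', hyl b' hb']
    · intro p hp
      simp only [hB, Finset.mem_product, Finset.mem_filter, Finset.mem_univ, true_and] at hp
      obtain ⟨-, ⟨hyQ, hye, hyl⟩, hp0⟩ := hp
      obtain ⟨k1, k3⟩ := keep (-sOf S σ l c v b p.1) p.2
      simp only [hA, Finset.mem_filter, Finset.mem_univ, true_and]
      exact ⟨⟨hQ' _ p.2 hyQ, k1.trans hye, fun b' hb' =>
        (k3 b' hb').trans (hyl b' (List.mem_cons_of_mem _ hb'))⟩, by rwa [hf' _ p.2 hyQ]⟩
    · intro y _; exact C.tmv_inv hrL _ y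
    · intro p hp
      simp only [hB, Finset.mem_product, Finset.mem_filter, Finset.mem_univ, true_and] at hp
      obtain ⟨hp1, ⟨hyQ, hye, hyl⟩, -⟩ := hp
      have hneg : -sOf S σ l c v b p.1 = sOf S σ l c v b (-p.1) := by unfold sOf; split_ifs <;> ring
      have et : gv lv (tmv S σ θ e lv r (-sOf S σ l c v b p.1) p.2) b = p.1 := by
        rw [hneg, hr, C.clear_val hc hb hv hvF hye _ (fun hσ => by rw [map_neg, hmemS _ hp1 hσ]),
          hyl b List.mem_cons_self, zero_sub, neg_neg]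
      show (_, _) = p
      rw [et]
      exact Prod.ext rfl (C.tmv_inv' hrL _ p.2)
    · intro y hy
      simp only [hA, Finset.mem_filter, Finset.mem_univ, true_and] at hy
      exact hinvQ _ y hy.1.1
    · rw [Finset.sum_product]
      simp only [Finset.sum_const, hcard]

open _root_.Classical in
/-- The cleared characters have multiplicities adding up to one. -/
theorem sum_W (hD : DefT S σ θ q lv W) {c : Cell} (hc : lv.cellChk S σ c = true) {v : K}
    (hv : v ≠ 0) (hvF : θ v = v) : ∑ y ∈ Finset.univ.filter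
      (fun y => gv lv y c.e = v ∧ ∀ b ∈ c.v1, gv lv y b = 0), C.fam.m ψ y = 1 := by
  obtain ⟨he, hσ, hw, hnd, -, -, hv1⟩ := C.cell_facts hc
  have h1 := C.peel (C.fam.m ψ) hc hv hvF (fun _ h => C.adm_of_m h) (fun _ => True) c.v1 hnd
    (fun b hb => hb) (fun _ _ _ _ _ => trivial) fun b hb t y _ => C.m_tmv (hv1 b hb).2.2.1 t y
  simp only [true_and, smul_eq_mul, hw] at h1
  have h2 := slice C.fam C.chr C.fr ⟨c.e, he⟩ (fun t ht => C.rel.fix1 c.e he hσ t ht) (hD c.e he hσ)
    hv hvF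
  rw [Finset.filter_congr (q := fun y => gv lv y c.e = v) fun y _ => by rw [gv_mem _ he], h1] at h2
  push_cast at h2
  rw [← mul_assoc, ← pow_succ'] at h2
  have hq : (q : ℂ) ^ (lv.k + 1) ≠ 0 :=
    pow_ne_zero _ (Nat.cast_ne_zero.2 (by have := C.fr.two; omega))
  exact_mod_cast mul_left_cancel₀ hq (h2.trans (mul_one _).symm)

/-- A known zero set forces more zeros in a fixed character. -/
theorem kill_step {c : Cell} {r β : ℕ} (hr : r ∈ lv.L) (hβ : β ∈ lv.R) {w : Co lv → K}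
    (hw : Adm σ θ e lv w)
    (hcond : if σ r = r then S.sm (σ r) (S.sm r β) ∉ lv.R
      else S.sm r β ≠ S.sm (σ r) β ∨ S.sm r β ∉ lv.R)
    (hinv : ∀ s, tmv S σ θ e lv r s w = w) :
    ∀ x ∈ tgs S σ r β ++ (tgs S σ r β).map σ, gv lv w x = 0 := by
  have key : ∀ t ∈ tgs S σ r β, gv lv w t = 0 := by
    have eq : ∀ s, S.sgn K r β * gv lv w (S.sm r β) * s +
        S.sgn K (σ r) β * e r * gv lv w (S.sm (σ r) β) * θ s +
        (-(S.sgn K r β * S.sgn K (σ r) (S.sm r β) * e r * gv lv w (S.sm (σ r) (S.sm r β)))) *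
          (s * θ s) = 0 := by
      intro s
      have h := congrArg (fun z => gv lv z β) (hinv s)
      simp only [C.gv_tmv hr s w hβ, pr] at h
      linear_combination -h
    by_cases hσ : σ r = r
    · rw [if_pos hσ] at hcond
      have h0 := eq l
      rw [hσ] at hcond
      rw [hσ, gv_not _ hcond, C.efix r hσ] at h0
      have h1 : gv lv w (S.sm r β) = 0 := by
        have : S.sgn K r β * gv lv w (S.sm r β) * (l + θ l) = 0 := by linear_combination h0
        rw [C.chr.lam, mul_one, mul_eq_zero] at this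
        exact this.resolve_left (S.sgn_ne r β)
      simp [tgs, hσ, h1, gv_not _ hcond]
    · obtain ⟨h1, h2, h3⟩ := C.fr.quad_zero eq
      have e0 : e r ≠ 0 := fun h => by
        have := C.ee r; rw [h, mul_zero] at this; exact zero_ne_one this
      simp only [mul_eq_zero, neg_eq_zero, S.sgn_ne, e0, false_or] at h1 h2 h3
      simp [tgs, h1, h2, h3]
  intro x hx
  rcases List.mem_append.1 hx with hx | hx
  · exact key x hx
  obtain ⟨t, ht, rfl⟩ := List.mem_map.1 hx
  by_cases htR : t ∈ lv.R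
  · rw [hw t htR, key t ht, map_zero, mul_zero]
  · rcases (C.stab' hr hβ).1 t ht with h | h
    · rw [h, C.σn, gv_not _ C.n_not]
    · exact absurd h htR

open _root_.Classical in
/-- Only the character with one coordinate is left. -/
theorem m_W (hD : DefT S σ θ q lv W) {c : Cell} (hc : lv.cellChk S σ c = true) {v : K}
    (hv : v ≠ 0) (hvF : θ v = v) {y : Co lv → K} (hye : gv lv y c.e = v)
    (hy : ∀ b ∈ c.v1, gv lv y b = 0) :
    C.fam.m ψ y = if y = dlt lv c.e v then 1 else 0 := by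
  obtain ⟨U, hU⟩ : ∃ U, U = Finset.univ.filter
      (fun y : Co lv → K => gv lv y c.e = v ∧ ∀ b ∈ c.v1, gv lv y b = 0) := ⟨_, rfl⟩
  have hsum : ∑ z ∈ U, C.fam.m ψ z = 1 := hU ▸ C.sum_W hD hc hv hvF
  obtain ⟨w, hw, hw1⟩ := Finset.exists_ne_zero_of_sum_ne_zero (by rw [hsum]; exact one_ne_zero)
  have huniq : ∀ z ∈ U, C.fam.m ψ z ≠ 0 → z = w := by
    intro z hz hz0
    by_contra hne
    have h2 : C.fam.m ψ z + C.fam.m ψ w ≤ ∑ x ∈ U, C.fam.m ψ x := by
      rw [← Finset.sum_pair hne]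
      exact Finset.sum_le_sum_of_subset fun x hx => by
        rcases Finset.mem_insert.1 hx with rfl | hx
        exacts [hz, (Finset.mem_singleton.1 hx) ▸ hw]
    omega
  have hwm : C.fam.m ψ w = 1 :=
    le_antisymm (hsum ▸ Finset.single_le_sum (fun x _ => Nat.zero_le _) hw) (by omega)
  have hwU : gv lv w c.e = v ∧ ∀ b ∈ c.v1, gv lv w b = 0 := by
    have := hw; rw [hU, Finset.mem_filter] at this; exact this.2
  have hwA := C.adm_of_m hw1
  obtain ⟨he, -, -, -, hkill, -, hv1⟩ := C.cell_facts hc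
  have loop : ∀ (ks : List (ℕ × ℕ)) (Z : List ℕ), lv.killOK S σ c ks Z = true →
      (∀ x ∈ Z, gv lv w x = 0) → ∀ x ∈ TLvl.killSet S σ c ks Z, gv lv w x = 0 := by
    intro ks
    induction ks with
    | nil => intro Z _ hZ; exact hZ
    | cons p ks ih =>
      obtain ⟨r, β⟩ := p
      intro Z hok hZ
      simp only [TLvl.killOK, TLvl.inR, Bool.and_eq_true, List.all_eq_true, Bool.or_eq_true,
        Bool.not_eq_true', List.contains_iff_mem, ← Bool.not_eq_true] at hok
      obtain ⟨⟨hrL, hβR, hpres, hcase⟩, hrest⟩ := hok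
      refine ih _ hrest fun x hx => ?_
      rcases List.mem_append.1 hx with hx | hx
      swap
      · exact hZ x hx
      refine C.kill_step (c := c) hrL hβR hwA ?_ (fun s => huniq _ ?_ ?_) x hx
      · by_cases hσ : σ r = r
        · rw [if_pos hσ]
          rw [if_pos (by simpa using hσ)] at hcase
          simpa [← Bool.not_eq_true] using hcase
        · rw [if_neg hσ]
          rw [if_neg (by simpa using hσ)] at hcase
          simpa [← Bool.not_eq_true] using hcase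
      · have hfree : ∀ b ∈ c.e :: c.v1, b ∈ lv.R → gv lv (tmv S σ θ e lv r s w) b = gv lv w b := by
          intro b hb hbR
          have hz : ∀ t ∈ tgs S σ r b, gv lv w t = 0 := fun t ht => by
            rcases hpres b hb t ht with h | h
            · exact gv_not _ h
            · exact hZ t h
          rw [C.gv_tmv hrL s w hbR, hz _ (tg1 r b), hz _ (tg2 r b), hz _ (tg3 r b)]
          ring
        rw [hU, Finset.mem_filter]
        refine ⟨Finset.mem_univ _, (hfree _ List.mem_cons_self he).trans hwU.1, fun b hb => ?_⟩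
        exact (hfree b (List.mem_cons_of_mem _ hb) (hv1 b hb).1).trans (hwU.2 b hb)
      · rw [C.m_tmv hrL, hwm]; exact one_ne_zero
  simp only [TLvl.killChk, Bool.and_eq_true, List.all_eq_true, Bool.or_eq_true, beq_iff_eq,
    List.contains_iff_mem] at hkill
  have hwd : w = dlt lv c.e v := by
    refine ext_gv fun x hx => ?_
    rw [gv_dlt he]
    split_ifs with hxe
    · rw [hxe, hwU.1]
    · refine loop _ _ hkill.1 (fun z hz => ?_) x ((hkill.2 x hx).resolve_left hxe)
      rcases List.mem_append.1 hz with hz | hz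
      · exact hwU.2 z hz
      · obtain ⟨b, hb, rfl⟩ := List.mem_map.1 hz
        rw [hwA b (hv1 b hb).1, hwU.2 b hb, map_zero, mul_zero]
  have hyU : y ∈ U := by rw [hU, Finset.mem_filter]; exact ⟨Finset.mem_univ _, hye, hy⟩
  split_ifs with hy'
  · rw [hy', ← hwd, hwm]
  · by_contra h
    exact hy' ((huniq y hyU h).trans hwd)

theorem supp_step {c : Cell} {b : ℕ} (hrL : rb S c.e b ∈ lv.L) {supp : List ℕ} {z : Co lv → K} (s : K)
    (hz : ∀ x ∈ lv.R, gv lv z x ≠ 0 → x ∈ supp) :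
    ∀ x ∈ lv.R, gv lv (tmv S σ θ e lv (rb S c.e b) s z) x ≠ 0 → x ∈ lv.supStep S σ c supp b := by
  intro x hx hne
  simp only [TLvl.supStep, List.mem_filter, Bool.or_eq_true, List.contains_iff_mem, List.any_eq_true]
  refine ⟨hx, ?_⟩
  by_contra hcon
  push Not at hcon
  have h0 : ∀ u, u ∉ supp → gv lv z u = 0 := fun u hu => by
    by_cases huR : u ∈ lv.R
    · by_contra h; exact hu (hz u huR h)
    · exact gv_not _ huR
  refine hne ?_
  rw [C.gv_tmv hrL s z hx, h0 _ hcon.1, h0 _ (hcon.2 _ (tg1 (rb S c.e b) x)),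
    h0 _ (hcon.2 _ (tg2 (rb S c.e b) x)), h0 _ (hcon.2 _ (tg3 (rb S c.e b) x))]
  ring

open _root_.Classical in
/-- A pair coordinate vanishes with its long coordinate and the coordinates of `Z`. -/
theorem forced (hD : DefT S σ θ q lv W) {c : Cell} (hc : lv.cellChk S σ c = true) {b : ℕ}
    {Z : List ℕ} (hF : lv.forcedChk S σ c b Z = true) {y : Co lv → K} (hm : C.fam.m ψ y ≠ 0)
    (hye : gv lv y c.e ≠ 0) (hg : gv lv y (gOf S σ c b) = 0) (hZ : ∀ z ∈ Z, gv lv y z = 0) :
    gv lv y b = 0 := by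
  obtain ⟨v, hvdef⟩ : ∃ v, v = gv lv y c.e := ⟨_, rfl⟩
  rw [← hvdef] at hye
  have hvF : θ v = v := hvdef ▸ C.ce_fix hc (C.adm_of_m hm)
  simp only [TLvl.forcedChk, TLvl.inR, Bool.and_eq_true, Bool.not_eq_true', beq_iff_eq,
    beq_eq_false_iff_ne, List.contains_iff_mem] at hF
  obtain ⟨hb, hσb, hgR, -, hge, hg1, hg2, hg3, hsup⟩ := hF
  obtain ⟨g, hgdef⟩ : ∃ g, g = gOf S σ c b := ⟨_, rfl⟩
  rw [← hgdef] at hgR hge hg1 hg2 hg3 hsup hg
  obtain ⟨he, -, -, -, -, -, hv1⟩ := C.cell_facts hc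
  obtain ⟨hbR, hbe, hrL, -, -, -, -, -, -⟩ := hv1 b hb
  -- clearing a coordinate
  have step : ∀ x ∈ c.v1, ∀ z : Co lv → K, C.fam.m ψ z ≠ 0 → gv lv z c.e = v →
      ∃ s z', z = tmv S σ θ e lv (rb S c.e x) s z' ∧ C.fam.m ψ z' ≠ 0 ∧ gv lv z' c.e = v ∧
        gv lv z' x = 0 ∧ (∀ x' ∈ c.v1, x' ≠ x → gv lv z' x' = gv lv z x') ∧
        (x ≠ b → gv lv z' b = gv lv z b) := by
    intro x hx z hz hze
    obtain ⟨hxR, -, hxL, -⟩ := hv1 x hx
    obtain ⟨k1, k2, -⟩ := C.tmv_keep hc hx (sOf S σ l c v x (gv lv z x)) z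
    refine ⟨-sOf S σ l c v x (gv lv z x), _, (C.tmv_inv hxL _ z).symm, by rwa [C.m_tmv hxL],
      k1.trans hze, ?_, fun x' hx' hne => (k2 x' hx' hne).1, fun hne => (k2 b hb (Ne.symm hne)).1⟩
    rw [C.clear_val hc hx hye hvF hze _ fun hσ => ?_, sub_self]
    have h := C.adm_of_m hz x hxR
    rw [hσ, C.efix x hσ, one_mul] at h
    exact h.symm
  -- the invariant
  let Good : List ℕ → List ℕ → Prop := fun proc supp => ∀ z : Co lv → K, C.fam.m ψ z ≠ 0 →
    gv lv z c.e = v → (∀ x ∈ c.v1, x ∉ proc → gv lv z x = 0) →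
      (gv lv z g = 0 → gv lv z b = 0) ∧ ∀ x ∈ lv.R, gv lv z x ≠ 0 → x ∈ supp
  have base : Good [b] (lv.supStep S σ c [c.e] b) := by
    intro z hz hze hzero
    obtain ⟨s, z', hzz, hz', hze', hzb', hoth, -⟩ := step b hb z hz hze
    have hd : z' = dlt lv c.e v := by
      have := C.m_W hD hc hye hvF hze' fun x hx => by
        by_cases hxb : x = b
        · rw [hxb, hzb']
        · rw [hoth x hx hxb]; exact hzero x hx (by simp [hxb])
      by_contra hne
      rw [if_neg hne] at this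
      exact hz' this
    refine ⟨fun h0 => ?_, ?_⟩
    · have hs : s = 0 := by
        rw [hzz, C.gv_tmv hrL s z' hgR, hd] at h0
        simp only [gv_dlt he, hge, hg1, hg2, hg3, if_false, if_true, mul_zero, sub_zero, zero_add,
          mul_eq_zero, pr, map_eq_zero, hye, or_false] at h0
        have e0 : e (rb S c.e b) ≠ 0 := fun h => by
          have := C.ee (rb S c.e b); rw [h, mul_zero] at this; exact zero_ne_one this
        simp only [S.sgn_ne, e0, false_or, or_self] at h0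
        exact h0
      rw [hzz, hs, (C.tmv_keep hc hb 0 z').2.2, hzb']
      simp
    · rw [hzz]
      refine C.supp_step hrL s fun x hx hne => ?_
      rw [hd, gv_dlt he] at hne
      simp only [ne_eq, ite_eq_right_iff, Classical.not_imp] at hne
      simp [hne.1]
  have grow : ∀ (L proc supp : List ℕ), (∀ x ∈ L, x ∈ c.v1 ∧ x ≠ b) → Good proc supp →
      lv.supOK S σ c g L supp = true → ∀ z : Co lv → K, C.fam.m ψ z ≠ 0 → gv lv z c.e = v →
        (∀ x ∈ c.v1, x ∉ proc → x ∉ L → gv lv z x = 0) → gv lv z g = 0 → gv lv z b = 0 := by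
    intro L
    induction L with
    | nil => intro proc supp _ hG _ z hz hze hzero; exact (hG z hz hze fun x hx hp => hzero x hx hp (by simp)).1
    | cons x L ih =>
      intro proc supp hL hG hok
      simp only [TLvl.supOK, Bool.and_eq_true, List.all_eq_true, Bool.or_eq_true, Bool.not_eq_true',
        TLvl.inR, List.contains_iff_mem, ← Bool.not_eq_true] at hok
      obtain ⟨hgx, hrest⟩ := hok
      obtain ⟨hx, hxb⟩ := hL x List.mem_cons_self
      obtain ⟨-, -, hxL, -⟩ := hv1 x hx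
      refine fun z hz hze hzero => ih (x :: proc) _ (fun u hu => hL u (List.mem_cons_of_mem _ hu)) ?_
        hrest z hz hze fun u hu hp hl => hzero u hu (fun h => hp (List.mem_cons_of_mem _ h)) fun h => by
          rcases List.mem_cons.1 h with rfl | h
          · exact hp List.mem_cons_self
          · exact hl h
      intro z hz hze hzero
      obtain ⟨s, z', hzz, hz', hze', hzx', hoth, hkb⟩ := step x hx z hz hze
      obtain ⟨hP, hS⟩ := hG z' hz' hze' fun u hu hp => by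
        by_cases hux : u = x
        · rw [hux, hzx']
        · rw [hoth u hu hux]; exact hzero u hu (by simp [hux, hp])
      refine ⟨fun h0 => ?_, hzz ▸ C.supp_step hxL s hS⟩
      rw [← hkb hxb]
      refine hP ?_
      have hz0 : ∀ t ∈ tgs S σ (rb S c.e x) g, gv lv z' t = 0 := fun t ht => by
        rcases hgx t ht with h | h
        · exact gv_not _ h
        · by_contra hne
          exact h (hS t (by by_contra hR; exact hne (gv_not _ hR)) hne)
      rw [hzz, C.gv_tmv hxL s z' hgR, hz0 _ (tg1 (rb S c.e x) g), hz0 _ (tg2 (rb S c.e x) g),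
        hz0 _ (tg3 (rb S c.e x) g)] at h0
      simpa using h0
  refine grow _ [b] _ (fun x hx => ?_) base hsup y hm hvdef.symm (fun x hx hp hl => ?_) hg
  · simp only [List.mem_filter, Bool.and_eq_true, Bool.not_eq_true', beq_eq_false_iff_ne] at hx
    exact ⟨hx.1, hx.2.1⟩
  · refine hZ x ?_
    simp only [List.mem_singleton] at hp
    by_contra hxZ
    exact hl (List.mem_filter.2 ⟨hx, by simp [hp, hxZ]⟩)

end TCtx

end Cfsg.Agent.SimpleFacts.MinDegTw
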