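import Cfsg.Agent.SimpleFacts.MinDegTw.Cells

/-!
The sums over the cells: the dimension and the trace of the root of the complement.
-/

set_option autoImplicit false
set_option linter.unusedSectionVars false

namespace Cfsg.Agent.SimpleFacts.MinDegTw

open scoped BigOperators
open Cfsg.Agent.SimpleFacts.MinDegExc (Sys Fam)

variable {K : Type*} [Field K] [Fintype K] {V : Type*} [AddCommGroup V] [Module ℂ V]
variable [FiniteDimensional ℂ V]
variable {S : Sys} {σ : ℕ → ℕ} {θ : K →+* K} {e : ℕ → K} {q : ℕ} {lv : TLvl}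
variable {W : ℕ → K → Module.End ℂ V} {ψ : AddChar K ℂ} {l : K}

/-- The coordinates above the cell vanish. -/
def Above (lv : TLvl) (c : Cell) (y : Co lv → K) : Prop :=
  ∀ x ∈ lv.R, lv.key c.e < lv.key x → gv lv y x = 0

open _root_.Classical in
/-- The characters of one cell. -/
noncomputable def cellSet (θ : K →+* K) (lv : TLvl) (c : Cell) (v : K) : Finset (Co lv → K) :=
  Finset.univ.filter fun y => Above lv c y ∧ gv lv y c.e = v

/-- The number of characters in the cells. -/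
def TLvl.cnt (σ : ℕ → ℕ) (lv : TLvl) (q : ℕ) : ℕ :=
  (q - 1) * (lv.cells.map fun c => q ^ weight σ (lv.low c)).sum

/-- The number of those fixed by `a`. -/
def TLvl.fixCnt (S : Sys) (σ : ℕ → ℕ) (lv : TLvl) (a q : ℕ) : ℕ :=
  (q - 1) * (lv.cells.map fun c => if lv.moved S a c.e then 0 else q ^ weight σ (lv.low c)).sum

open _root_.Classical in
/-- Zero and the cells. -/
noncomputable def cover (θ : K →+* K) (lv : TLvl) : Finset (Co lv → K) :=
  insert 0 (((Finset.univ : Finset (Fin lv.cells.length)) ×ˢ (fixSet θ).erase 0).biUnion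
    fun p => cellSet θ lv (lv.cells[p.1]) p.2)

namespace TCtx

variable (C : TCtx S σ θ e q lv ψ l W)
include C

open _root_.Classical in
theorem card_ne : ((fixSet θ).erase 0).card = q - 1 := by
  rw [Finset.card_erase_of_mem (by rw [mem_fixSet, map_zero]), C.fr.card_fix]

open _root_.Classical in
/-- The sum over one cell. -/
theorem sum_cell (hD : DefT S σ θ q lv W) {M : Type*} [AddCommMonoid M] (f : (Co lv → K) → M)
    (hf0 : ∀ y, C.fam.m ψ y = 0 → f y = 0) {c : Cell} (hc : lv.cellChk S σ c = true) {v : K}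
    (hv : v ≠ 0) (hvF : θ v = v)
    (hup : ∀ b ∈ c.v1, b ∈ lv.low c ∨ lv.key c.e < lv.key b)
    (hf : ∀ b ∈ lv.low c, ∀ t y, f (tmv S σ θ e lv (rb S c.e b) t y) = f y) :
    ∑ y ∈ cellSet θ lv c v, f y = (q ^ weight σ (lv.low c)) • f (dlt lv c.e v) := by
  obtain ⟨he, -, -, hnd, -, hraise, hv1⟩ := C.cell_facts hc
  simp only [TLvl.raiseChk, TLvl.inR, List.all_eq_true, Bool.or_eq_true, Bool.not_eq_true',
    Nat.blt_eq, List.contains_iff_mem, ← Bool.not_eq_true] at hraise
  have hsub : ∀ b ∈ lv.low c, b ∈ c.v1 := fun b hb => (List.mem_filter.1 hb).1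
  have hmv : ∀ b ∈ lv.low c, ∀ t y, Above lv c y → Above lv c (tmv S σ θ e lv (rb S c.e b) t y) := by
    intro b hb t y hy x hx hlt
    have h0 : ∀ u ∈ tgs S σ (rb S c.e b) x, gv lv y u = 0 := fun u hu => by
      by_cases huR : u ∈ lv.R
      · exact hy u huR (hlt.trans ((hraise b hb x hx u hu).resolve_left fun h => h huR))
      · exact gv_not _ huR
    rw [C.gv_tmv (hv1 b (hsub b hb)).2.2.1 t y hx, hy x hx hlt, h0 _ (tg1 _ x), h0 _ (tg2 _ x),
      h0 _ (tg3 _ x)]
    ring
  rw [cellSet, C.peel f hc hv hvF (fun y hy => C.adm_of_m fun h => hy (hf0 y h)) (Above lv c) _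
    (hnd.filter _) hsub hmv (fun b hb t y _ => hf b hb t y)]
  congr 1
  refine Finset.sum_eq_single_of_mem (dlt lv c.e v) ?_ ?_
  · simp only [Finset.mem_filter, Finset.mem_univ, true_and]
    refine ⟨fun x _ hlt => ?_, ?_, fun b hb => ?_⟩
    · rw [gv_dlt he, if_neg]; rintro rfl; exact lt_irrefl _ hlt
    · rw [gv_dlt he, if_pos rfl]
    · rw [gv_dlt he, if_neg (hv1 b (hsub b hb)).2.1]
  · intro y hy hne
    simp only [Finset.mem_filter, Finset.mem_univ, true_and] at hy
    obtain ⟨hQ, hye, hb⟩ := hy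
    refine hf0 y ?_
    rw [C.m_W hD hc hv hvF hye fun b hbv => ?_, if_neg hne]
    rcases hup b hbv with h | h
    · exact hb b h
    · exact hQ b (hv1 b hbv).1 h

theorem dlt_m (hD : DefT S σ θ q lv W) {c : Cell} (hc : lv.cellChk S σ c = true) {v : K}
    (hv : v ≠ 0) (hvF : θ v = v) : C.fam.m ψ (dlt lv c.e v) = 1 := by
  obtain ⟨he, -, -, -, -, -, hv1⟩ := C.cell_facts hc
  rw [C.m_W hD hc hv hvF (by rw [gv_dlt he, if_pos rfl])
    (fun b hb => by rw [gv_dlt he, if_neg (hv1 b hb).2.1]), if_pos rfl]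

theorem cells_chk (hchk : lv.chk S σ = true) : ∀ c ∈ lv.cells, lv.cellChk S σ c = true := by
  simp only [TLvl.chk, Bool.and_eq_true, List.all_eq_true] at hchk
  exact hchk.2.2

theorem up_of {c : Cell} (hup : lv.upChk S σ c = true) :
    ∀ b ∈ c.v1, b ∈ lv.low c ∨ lv.key c.e < lv.key b := by
  intro b hb
  simp only [TLvl.upChk, List.all_eq_true, Bool.or_eq_true, Bool.and_eq_true, Nat.blt_eq] at hup
  rcases hup b hb with h | ⟨h, -⟩
  · exact Or.inl (List.mem_filter.2 ⟨hb, by simpa [Nat.blt_eq] using h⟩)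
  · exact Or.inr h

open _root_.Classical in
/-- The sets of the cells are disjoint and avoid zero. -/
theorem cells_disj (hchk : lv.chk S σ = true) :
    ((Finset.univ : Finset (Fin lv.cells.length)) ×ˢ (fixSet θ).erase 0 :
      Set (Fin lv.cells.length × K)).PairwiseDisjoint
        (fun p => cellSet θ lv (lv.cells[p.1]) p.2) := by
  have hord : lv.cells.Pairwise fun c d => lv.key c.e < lv.key d.e := by
    simp only [TLvl.chk, TLvl.ordChk, Bool.and_eq_true, decide_eq_true_eq] at hchk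
    exact hchk.2.1
  intro p hp p' hp' hne
  simp only [Set.mem_prod, Finset.mem_coe, Finset.mem_univ, true_and, Finset.mem_erase] at hp hp'
  refine Finset.disjoint_left.2 fun y h1 h2 => hne ?_
  simp only [cellSet, Finset.mem_filter, Finset.mem_univ, true_and] at h1 h2
  rcases lt_trichotomy p.1 p'.1 with h | h | h
  · have hlt := List.pairwise_iff_get.1 hord p.1 p'.1 h
    have he := (C.cell_facts (C.cells_chk hchk (lv.cells[p'.1]) (List.getElem_mem _))).1
    exact absurd (h2.2.symm.trans (h1.1 _ he hlt)) hp'.1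
  · exact Prod.ext h (h1.2.symm.trans
      ((congrArg (fun i : Fin lv.cells.length => gv lv y (lv.cells[i]).e) h).trans h2.2))
  · have hlt := List.pairwise_iff_get.1 hord p'.1 p.1 h
    have he := (C.cell_facts (C.cells_chk hchk (lv.cells[p.1]) (List.getElem_mem _))).1
    exact absurd (h1.2.symm.trans (h2.1 _ he hlt)) hp.1

open _root_.Classical in
theorem sum_cover (hchk : lv.chk S σ = true) {M : Type*} [AddCommMonoid M] (f : (Co lv → K) → M) :
    ∑ y ∈ cover θ lv, f y =
      f 0 + (lv.cells.map fun c => ∑ v ∈ (fixSet θ).erase 0, ∑ y ∈ cellSet θ lv c v, f y).sum := by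
  rw [cover, Finset.sum_insert, Finset.sum_biUnion (by rw [Finset.coe_product]; exact C.cells_disj hchk), Finset.sum_product]
  · congr 1
    exact Fin.sum_univ_fun_getElem lv.cells
      fun c => ∑ v ∈ (fixSet θ).erase 0, ∑ y ∈ cellSet θ lv c v, f y
  · simp only [Finset.mem_biUnion, Finset.mem_product, Finset.mem_univ, true_and,
      Finset.mem_erase, cellSet, Finset.mem_filter]
    rintro ⟨p, ⟨hp, -⟩, -, h⟩
    rw [gv_zero] at h
    exact hp h.symm

open _root_.Classical in
theorem sum_cnt (hD : DefT S σ θ q lv W) (hchk : lv.chk S σ = true)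
    (hup : ∀ c ∈ lv.cells, ∀ b ∈ c.v1, b ∈ lv.low c ∨ lv.key c.e < lv.key b) :
    ∑ y ∈ cover θ lv, C.fam.m ψ y = C.fam.m ψ 0 + lv.cnt σ q := by
  rw [C.sum_cover hchk, TLvl.cnt, ← List.sum_map_mul_left]
  congr 1
  refine congrArg List.sum (List.map_congr_left fun c hc => ?_)
  have hcc := C.cells_chk hchk c hc
  rw [Finset.sum_congr rfl (g := fun _ => q ^ weight σ (lv.low c)) fun v hv => ?_, Finset.sum_const,
    C.card_ne, smul_eq_mul]
  rw [Finset.mem_erase, mem_fixSet] at hv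
  rw [C.sum_cell hD (C.fam.m ψ) (fun y hy => hy) hcc hv.1 hv.2 (hup c hc)
    (fun b hb t y => C.m_tmv
      ((C.cell_facts hcc).2.2.2.2.2.2 b (List.mem_filter.1 hb).1).2.2.1 t y),
    C.dlt_m hD hcc hv.1 hv.2, smul_eq_mul, mul_one]

/-- The lower bound for the degree. -/
theorem le_finrank (hD : DefT S σ θ q lv W) (hchk : lv.chk S σ = true)
    (hup : ∀ c ∈ lv.cells, ∀ b ∈ c.v1, b ∈ lv.low c ∨ lv.key c.e < lv.key b) :
    C.fam.m ψ 0 + lv.cnt σ q ≤ Module.finrank ℂ V := by
  classical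
  rw [← C.sum_cnt hD hchk hup, ← C.fam.sum_m C.chr.ne]
  exact Finset.sum_le_sum_of_subset (Finset.subset_univ _)

open _root_.Classical in
/-- Every character that occurs is zero or in a cell. -/
theorem complete (hD : DefT S σ θ q lv W) (hchk : lv.chk S σ = true)
    (hup : ∀ c ∈ lv.cells, lv.upChk S σ c = true) (he0 : lv.e0Chk S σ = true) {y : Co lv → K}
    (hy : y ∉ cover θ lv) : C.fam.m ψ y = 0 := by
  by_contra hm
  simp only [cover, Finset.mem_insert, Finset.mem_biUnion, Finset.mem_product, Finset.mem_univ,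
    true_and, not_or, not_exists, not_and] at hy
  obtain ⟨hy0, hy⟩ := hy
  have hA := C.adm_of_m hm
  simp only [TLvl.e0Chk, List.all_eq_true] at he0
  -- some long coordinate is non-zero
  have hlong : ∃ i : Fin lv.cells.length, gv lv y (lv.cells[i]).e ≠ 0 := by
    by_contra hno
    push Not at hno
    have hfix : ∀ x ∈ lv.R, σ x = x → gv lv y x = 0 := by
      intro x hx hσ
      have h := he0 x hx
      rw [if_pos (by simpa using hσ)] at h
      simp only [List.any_eq_true, beq_iff_eq] at h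
      obtain ⟨c, hc, rfl⟩ := h
      obtain ⟨i, hi, hci⟩ := List.getElem_of_mem hc
      rw [← hci]; exact hno ⟨i, hi⟩
    obtain ⟨x0, hx0⟩ := Function.ne_iff.1 hy0
    have hσ : σ x0.1 ≠ x0.1 := fun h => hx0 (by
      have := hfix x0.1 x0.2 h
      rwa [gv_mem _ x0.2] at this)
    have h := he0 x0.1 x0.2
    rw [if_neg (by simpa using hσ)] at h
    simp only [List.any_eq_true] at h
    obtain ⟨⟨i, r, b, g, Z⟩, -, hb⟩ := h
    cases hcell : lv.cells[i]? with
    | none => rw [hcell] at hb; simp at hb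
    | some c =>
      rw [hcell] at hb
      simp only [Bool.and_eq_true, Bool.or_eq_true, beq_iff_eq, List.all_eq_true,
        List.contains_iff_mem, TLvl.inR, Bool.not_eq_true', ← Bool.not_eq_true] at hb
      obtain ⟨hbx, hrL, hrb, hF, ⟨h3, htz⟩, hZ⟩ := hb
      obtain ⟨hi, rfl⟩ := List.getElem?_eq_some_iff.1 hcell
      have hcc := C.cells_chk hchk _ (List.getElem_mem hi)
      obtain ⟨he, hσe, -⟩ := C.cell_facts hcc
      have hb0 : gv lv y b ≠ 0 := by
        rcases hbx with rfl | rfl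
        · rwa [gv_mem _ x0.2]
        · rw [hA x0.1 x0.2, gv_mem _ x0.2]
          refine mul_ne_zero (fun h => ?_) ((map_ne_zero θ).2 hx0)
          have := C.ee x0.1; rw [h, mul_zero] at this; exact zero_ne_one this
      have e0 : e r ≠ 0 := fun h => by
        have := C.ee r; rw [h, mul_zero] at this; exact zero_ne_one this
      have hlongzero : ∀ u, (u ∉ lv.R ∨ σ u = u) → gv lv y u = 0 := by
        intro u hu
        by_cases huR : u ∈ lv.R
        · exact hfix u huR (hu.resolve_left fun h => h huR)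
        · exact gv_not _ huR
      obtain ⟨s, hs⟩ := C.fr.exists_lin_ne
        (a := S.sgn K r (lv.cells[i]).e * gv lv y b)
        (b := S.sgn K (σ r) (lv.cells[i]).e * e r * gv lv y (S.sm (σ r) (lv.cells[i]).e))
        (mul_ne_zero (S.sgn_ne _ _) hb0)
      obtain ⟨z, hz⟩ : ∃ z, z = tmv S σ θ e lv r s y := ⟨_, rfl⟩
      have hze : gv lv z (lv.cells[i]).e ≠ 0 := by
        rw [hz, C.gv_tmv hrL s y he, hfix _ he hσe,
          hlongzero (S.sm (σ r) (S.sm r (lv.cells[i]).e)) h3, hrb]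
        intro h0
        refine hs ?_
        simp only [pr] at h0
        linear_combination -h0
      have hkeep : ∀ u ∈ gOf S σ (lv.cells[i]) b :: b :: Z, u ∈ lv.R →
          gv lv z u = gv lv y u := by
        intro u hu huR
        rw [hz, C.gv_tmv hrL s y huR, hlongzero _ (htz u hu _ (tg1 r u)),
          hlongzero _ (htz u hu _ (tg2 r u)), hlongzero _ (htz u hu _ (tg3 r u))]
        ring
      have hF' := hF
      simp only [TLvl.forcedChk, TLvl.inR, Bool.and_eq_true, Bool.not_eq_true', beq_iff_eq,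
        List.contains_iff_mem] at hF'
      obtain ⟨hbv, -, hgR, hgfix, -⟩ := hF'
      have hbR := ((C.cell_facts hcc).2.2.2.2.2.2 b hbv).1
      refine hb0 ?_
      rw [← hkeep b (by simp) hbR]
      refine C.forced hD hcc hF (y := z) ?_ hze ?_ fun u hu => ?_
      · rw [hz, C.m_tmv hrL]; exact hm
      · rw [hkeep _ (by simp) hgR]; exact hfix _ hgR hgfix
      · rw [hkeep u (by simp [hu]) (hZ u hu).1]; exact hfix u (hZ u hu).1 (hZ u hu).2
  -- the highest one
  obtain ⟨i, hi, hmax⟩ := Finset.exists_max_image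
    (Finset.univ.filter fun i : Fin lv.cells.length => gv lv y (lv.cells[i]).e ≠ 0)
    (fun i => lv.key (lv.cells[i]).e) ⟨hlong.choose, Finset.mem_filter.2 ⟨Finset.mem_univ _, hlong.choose_spec⟩⟩
  simp only [Finset.mem_filter, Finset.mem_univ, true_and] at hi
  obtain ⟨c, hcdef⟩ : ∃ c, c = lv.cells[i] := ⟨_, rfl⟩
  have hcm : c ∈ lv.cells := hcdef ▸ List.getElem_mem _
  have hcc := C.cells_chk hchk c hcm
  rw [← hcdef] at hi hmax
  obtain ⟨v, hvdef⟩ : ∃ v, v = gv lv y c.e := ⟨_, rfl⟩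
  have hv0 : v ≠ 0 := hvdef ▸ hi
  have hvF : θ v = v := hvdef ▸ C.ce_fix hcc hA
  have hlongabove : ∀ x ∈ lv.R, σ x = x → lv.key c.e < lv.key x → gv lv y x = 0 := by
    intro x hx hσ hlt
    have h := he0 x hx
    rw [if_pos (by simpa using hσ)] at h
    simp only [List.any_eq_true, beq_iff_eq] at h
    obtain ⟨d, hd, rfl⟩ := h
    obtain ⟨j, hj, hdj⟩ := List.getElem_of_mem hd
    by_contra hne
    have := hmax ⟨j, hj⟩ (by simp [Fin.getElem_fin, hdj, hne])
    simp only [Fin.getElem_fin, hdj] at this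
    omega
  have hQ1 : ∀ b ∈ c.v1, lv.key c.e < lv.key b → gv lv y b = 0 := by
    intro b hb hlt
    have h := hup c hcm
    simp only [TLvl.upChk, List.all_eq_true, Bool.or_eq_true, Bool.and_eq_true, Nat.blt_eq,
      beq_iff_eq, List.any_eq_true, TLvl.inR, List.contains_iff_mem] at h
    obtain ⟨-, h'⟩ := (h b hb).resolve_left (by omega)
    rcases h' with h' | ⟨⟨b', Z⟩, -, hbb, hF, hgk, hZ⟩
    · exact hlongabove b ((C.cell_facts hcc).2.2.2.2.2.2 b hb).1 h' hlt
    · have hF' := hF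
      simp only [TLvl.forcedChk, TLvl.inR, Bool.and_eq_true, Bool.not_eq_true', beq_iff_eq,
        List.contains_iff_mem] at hF'
      exact C.forced hD hcc hF hm (hvdef ▸ hv0) (hlongabove _ hF'.2.2.1 hF'.2.2.2.1 hgk)
        fun u hu => hlongabove u (hZ u hu).1 (hZ u hu).2.1 (hZ u hu).2.2
  obtain ⟨he, -, -, hnd, -, -, hv1⟩ := C.cell_facts hcc
  have hup' := C.up_of (hup c hcm)
  have hsub : ∀ b ∈ lv.low c, b ∈ c.v1 := fun b hb => (List.mem_filter.1 hb).1
  have hcell := C.sum_cell hD (C.fam.m ψ) (fun y hy => hy) hcc hv0 hvF hup'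
    (fun b hb t y => C.m_tmv (hv1 b (hsub b hb)).2.2.1 t y)
  rw [C.dlt_m hD hcc hv0 hvF, smul_eq_mul, mul_one] at hcell
  obtain ⟨Q1, hQ1def⟩ : ∃ Q1 : (Co lv → K) → Prop, ∀ y, Q1 y ↔
      ∀ b ∈ c.v1, lv.key c.e < lv.key b → gv lv y b = 0 := ⟨_, fun _ => Iff.rfl⟩
  have hwide : ∑ y ∈ Finset.univ.filter (fun y => Q1 y ∧ gv lv y c.e = v), C.fam.m ψ y =
      q ^ weight σ (lv.low c) := by
    rw [C.peel (C.fam.m ψ) hcc hv0 hvF (fun _ h => C.adm_of_m h) Q1 (lv.low c) (hnd.filter _) hsub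
      (fun b hb t z hz => (hQ1def _).2 fun b' hb' hlt => by
        have hne : b' ≠ b := by
          rintro rfl
          have := (List.mem_filter.1 hb).2
          simp only [Nat.blt_eq] at this
          omega
        rw [((C.tmv_keep hcc (hsub b hb) t z).2.1 b' hb' hne).1]
        exact (hQ1def z).1 hz b' hb' hlt)
      (fun b hb t y _ => C.m_tmv (hv1 b (hsub b hb)).2.2.1 t y)]
    rw [smul_eq_mul]
    convert mul_one _ using 2
    rw [← C.sum_W hD hcc hv0 hvF]
    refine Finset.sum_congr (Finset.filter_congr fun z _ => ?_) fun _ _ => rfl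
    constructor
    · rintro ⟨h1, h2, h3⟩
      exact ⟨h2, fun b hb => (hup' b hb).elim (h3 b) ((hQ1def z).1 h1 b hb)⟩
    · rintro ⟨h2, h3⟩
      exact ⟨(hQ1def z).2 fun b hb _ => h3 b hb, h2, fun b hb => h3 b (hsub b hb)⟩
  have hsubset : cellSet θ lv c v ⊆ Finset.univ.filter (fun y => Q1 y ∧ gv lv y c.e = v) := fun z hz => by
    simp only [cellSet, Finset.mem_filter, Finset.mem_univ, true_and] at hz ⊢
    exact ⟨(hQ1def z).2 fun b hb hlt => hz.1 b (hv1 b hb).1 hlt, hz.2⟩
  have hdiff := Finset.sum_sdiff (f := C.fam.m ψ) hsubset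
  rw [hcell, hwide, Nat.add_eq_right, Finset.sum_eq_zero_iff] at hdiff
  refine hm (hdiff y (Finset.mem_sdiff.2 ⟨?_, ?_⟩))
  · simp only [Finset.mem_filter, Finset.mem_univ, true_and]
    exact ⟨(hQ1def y).2 hQ1, hvdef.symm⟩
  · have hvmem : v ∈ (fixSet θ).erase 0 := by
      rw [Finset.mem_erase, mem_fixSet]; exact ⟨hv0, hvF⟩
    exact hcdef ▸ hy (i, v) hvmem

open _root_.Classical in
/-- The degree. -/
theorem finrank_eq (hD : DefT S σ θ q lv W) (hchk : lv.chk S σ = true)
    (hup : ∀ c ∈ lv.cells, lv.upChk S σ c = true) (he0 : lv.e0Chk S σ = true) :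
    Module.finrank ℂ V = C.fam.m ψ 0 + lv.cnt σ q := by
  rw [← C.fam.sum_m C.chr.ne, ← C.sum_cnt hD hchk fun c hc => C.up_of (hup c hc)]
  exact (Finset.sum_subset (Finset.subset_univ _) fun y _ hy => C.complete hD hchk hup he0 hy).symm

/-- The trace of `a` on a line of a cell. -/
theorem trace_dlt (hD : DefT S σ θ q lv W) {a : ℕ} {c : Cell} (hc : lv.cellChk S σ c = true)
    (haL : a ∈ lv.L) (hσa : σ a = a)
    (hph : lv.moved S a c.e = false → c.ph.1 ∈ lv.L ∧ c.ph.2 ∈ lv.L ∧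
      ∀ r ∈ [c.ph.1, c.ph.2], ∀ x ∈ lv.R, c.e ∉ tgs S σ r x)
    {t : K} (ht : t + θ t ≠ 0)
    (hcr : lv.moved S a c.e = false → ∃ u v,
      W c.ph.1 u * W c.ph.2 v = W a t * (W c.ph.2 v * W c.ph.1 u))
    {v : K} (hv : v ≠ 0) (hvF : θ v = v) :
    LinearMap.trace ℂ V (W a t * C.fam.P ψ (dlt lv c.e v)) = if lv.moved S a c.e then 0 else 1 := by
  classical
  have hψ := C.chr.ne
  obtain ⟨he, -⟩ := C.cell_facts hc
  have hm := C.dlt_m hD hc hv hvF
  by_cases hmv : lv.moved S a c.e = true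
  · rw [if_pos hmv]
    refine (C.moves (ψ := ψ) haL t).trace_moved hψ fun h => ?_
    simp only [TLvl.moved, List.any_eq_true, beq_iff_eq] at hmv
    obtain ⟨b, hb, hbe⟩ := hmv
    have h' := congrArg (fun z => gv lv z b) h
    have hne : b ≠ c.e := by
      rintro rfl
      exact (C.stab' haL he).2.1 (by rw [hbe, hbe]; exact he)
    have h3 : S.sm (σ a) (S.sm a b) ∉ lv.R := by rw [hσa]; exact (C.stab' haL hb).2.1
    simp only [C.gv_tmv haL t _ hb, gv_not _ h3] at h'
    simp only [gv_dlt he, if_neg hne] at h'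
    rw [hσa, hbe, if_pos rfl, pr, C.efix a hσa] at h'
    have : S.sgn K a b * (t + θ t) * v = 0 := by linear_combination -h'
    simp [S.sgn_ne, ht, hv] at this
  rw [if_neg hmv]
  rw [Bool.not_eq_true] at hmv
  obtain ⟨hr, hs, hfree⟩ := hph hmv
  have hfix : ∀ r ∈ [c.ph.1, c.ph.2], ∀ u : K, Commute (W r u) (C.fam.P ψ (dlt lv c.e v)) := by
    intro r hrm u
    have hrL : r ∈ lv.L := by
      simp only [List.mem_cons, List.not_mem_nil, or_false] at hrm
      rcases hrm with rfl | rfl <;> assumption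
    refine (C.moves hrL u).commute hψ (ext_gv fun x hx => ?_)
    have h0 : ∀ w ∈ tgs S σ r x, gv lv (dlt lv c.e v) w = 0 := fun w hw => by
      rw [gv_dlt he, if_neg]; rintro rfl; exact hfree r hrm x hx hw
    rw [C.gv_tmv hrL u _ hx, h0 _ (tg1 r x), h0 _ (tg2 r x), h0 _ (tg3 r x)]
    ring
  obtain ⟨u, w, hrel⟩ := hcr hmv
  have hca : Commute (W a t) (C.fam.P ψ (dlt lv c.e v)) := by
    refine (C.moves haL t).commute hψ (ext_gv fun x hx => ?_)
    have hnm : S.sm a x ≠ c.e := fun h => by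
      rw [Bool.eq_false_iff] at hmv
      exact hmv (List.any_eq_true.2 ⟨x, hx, beq_iff_eq.2 h⟩)
    have h3 : S.sm (σ a) (S.sm a x) ∉ lv.R := by rw [hσa]; exact (C.stab' haL hx).2.1
    rw [C.gv_tmv haL t _ hx, gv_not _ h3, hσa, gv_dlt he, gv_dlt he, if_neg hnm]
    ring
  have hW : ∀ r ∈ lv.L, ∀ u, W r (-u) * W r u = 1 := fun r hr u => by
    have := C.W_inv (List.mem_append_right lv.R hr) (-u)
    rwa [neg_neg] at this
  rw [MinDegExc.phase (C.fam.P_idem hψ _) (by rw [C.fam.trace_P hψ, hm, Nat.cast_one])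
    (hfix _ List.mem_cons_self u) (hfix _ (by simp) w) hca (hW _ hr u) (hW _ hs w) hrel,
    C.fam.trace_P hψ, hm, Nat.cast_one]

open _root_.Classical in
/-- The trace of `a` on the fixed space. -/
theorem trace_fixed (hD : DefT S σ θ q lv W) (hchk : lv.chk S σ = true)
    (hup : ∀ c ∈ lv.cells, lv.upChk S σ c = true) (he0 : lv.e0Chk S σ = true) {a : ℕ}
    (ha : lv.actChk S σ a = true) {t : K} (ht : t + θ t ≠ 0)
    (hcr : ∀ c ∈ lv.cells, lv.moved S a c.e = false → ∃ u v,
      W c.ph.1 u * W c.ph.2 v = W a t * (W c.ph.2 v * W c.ph.1 u))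
    (hcomm : ∀ c ∈ lv.cells, ∀ b ∈ lv.low c, ∀ s, Commute (W a t) (W (rb S c.e b) s)) :
    LinearMap.trace ℂ V (W a t) = LinearMap.trace ℂ V (W a t * C.fam.P ψ 0) +
      (lv.fixCnt S σ a q : ℂ) := by
  simp only [TLvl.actChk, Bool.and_eq_true, Bool.or_eq_true, List.all_eq_true, beq_iff_eq,
    Bool.not_eq_true', List.contains_iff_mem, ← Bool.not_eq_true] at ha
  obtain ⟨haL, hσa, hc'⟩ := ha
  rw [C.fam.trace_eq C.chr.ne, ← Finset.sum_subset (Finset.subset_univ (cover θ lv)) fun y _ hy => by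
    rw [C.P_zero (C.complete hD hchk hup he0 hy), mul_zero, map_zero],
    C.sum_cover hchk, TLvl.fixCnt, ← List.sum_map_mul_left, Nat.cast_list_sum, List.map_map]
  congr 1
  refine congrArg List.sum (List.map_congr_left fun c hc => ?_)
  have hcc := C.cells_chk hchk c hc
  have hph : lv.moved S a c.e = false → c.ph.1 ∈ lv.L ∧ c.ph.2 ∈ lv.L ∧
      ∀ r ∈ [c.ph.1, c.ph.2], ∀ x ∈ lv.R, c.e ∉ tgs S σ r x := fun hm => by
    obtain ⟨-, h⟩ := hc' c hc
    exact h.resolve_left (by rw [hm]; exact Bool.false_ne_true)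
  rw [Finset.sum_congr rfl (g := fun _ => ((q ^ weight σ (lv.low c) : ℕ) : ℂ) *
    if lv.moved S a c.e then 0 else 1) fun v hv => ?_, Finset.sum_const, C.card_ne]
  · by_cases hm : lv.moved S a c.e = true <;> simp [hm]
  rw [Finset.mem_erase, mem_fixSet] at hv
  rw [C.sum_cell hD (fun y => LinearMap.trace ℂ V (W a t * C.fam.P ψ y))
    (fun y hy => by rw [C.P_zero hy, mul_zero, map_zero]) hcc hv.1 hv.2 (C.up_of (hup c hc))
    (fun b hb s y => by
      have hrL := ((C.cell_facts hcc).2.2.2.2.2.2 b (List.mem_filter.1 hb).1).2.2.1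
      exact (C.moves hrL s).trace_shift C.chr.ne (C.W_inv (List.mem_append_right _ hrL) s)
        (hcomm c hc b hb s) y),
    C.trace_dlt hD hcc haL hσa hph ht (hcr c hc) hv.1 hv.2, nsmul_eq_mul]

end TCtx

end Cfsg.Agent.SimpleFacts.MinDegTw
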