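import Cfsg.Agent.SimpleFacts.MinDegTw.TopPol
import Cfsg.Agent.SimpleFacts.MinDegTw.Sums

/-!
A non-trivial representation is either large, or the two lower levels bound its dimension.
-/

set_option autoImplicit false
set_option linter.unusedSectionVars false

namespace Cfsg.Agent.SimpleFacts.MinDegTw

open scoped BigOperators
open Cfsg.Agent.SimpleFacts.MinDegExc (Sys Fam res res_mul res_one res_val trace_res finrank_range)

variable {K : Type*} [Field K] [Fintype K] {G : Type*} [Group G]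
variable {V : Type*} [AddCommGroup V] [Module ℂ V] [FiniteDimensional ℂ V]
variable {S : Sys} {σ : ℕ → ℕ} {θ : K →+* K} {e : ℕ → K} {q : ℕ} {X : ℕ → K → G}
variable {H : Subgroup G} {ρ : H →* Module.End ℂ V} {ψ : AddChar K ℂ} {l : K} {P : TTop}

/-- The subgroup of the fixed products at some roots. -/
def Hgen (σ : ℕ → ℕ) (θ : K →+* K) (e : ℕ → K) (X : ℕ → K → G) (L : List ℕ) : Subgroup G :=
  Subgroup.closure {g | ∃ r ∈ L, ∃ t, g = zel σ θ e X r t}

theorem zel_mem_Hgen {L : List ℕ} {r : ℕ} (h : r ∈ L) (t : K) :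
    zel σ θ e X r t ∈ Hgen σ θ e X L := Subgroup.subset_closure ⟨r, h, t, rfl⟩

/-- The second level. -/
structure LowOK (S : Sys) (σ : ℕ → ℕ) (θ : K →+* K) (e : ℕ → K) (X : ℕ → K → G) (P : TTop)
    (lv2 : TLvl) : Prop where
  chk : lv2.chk S σ = true
  sub : ∀ r ∈ lv2.R ++ lv2.L, r ∈ P.lv.L
  comm : ∀ x ∈ lv2.R, ∀ y ∈ lv2.R, cm S x y = true
  up : ∀ c ∈ lv2.cells, ∀ b ∈ c.v1, b ∈ lv2.low c ∨ lv2.key c.e < lv2.key b
  conn : ∀ b ∈ lv2.R, σ b = b → Conn θ X (Hgen σ θ e X P.lv.L) P.a b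

/-- The first level. -/
structure LvlOK (S : Sys) (σ : ℕ → ℕ) (P : TTop) : Prop where
  chk : P.lv.chk S σ = true
  up : ∀ c ∈ P.lv.cells, P.lv.upChk S σ c = true
  e0 : P.lv.e0Chk S σ = true
  act : P.lv.actChk S σ P.a = true
  ph : ∀ c ∈ P.lv.cells, P.lv.moved S P.a c.e = false →
    pairsTo S σ c.ph.1 c.ph.2 P.a = true ∧ σ c.ph.2 ≠ c.ph.2
  b0 : ∃ b ∈ P.lv.R, σ b = b
  wt : weight σ P.rep = P.lv.k + 1

namespace TopCtx

variable (Z : TopCtx S σ θ e q X H ψ l P)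
include Z

open _root_.Classical in
theorem card_fix0 : ((fixSet θ).erase 0).card = q - 1 := by
  rw [Finset.card_erase_of_mem (by rw [mem_fixSet, map_zero]), Z.fr.card_fix]

open _root_.Classical in
theorem split0 (A : Module.End ℂ V) : LinearMap.trace ℂ V A =
    LinearMap.trace ℂ V (A * Z.Ec ρ 0) +
      ∑ c ∈ (fixSet θ).erase 0, LinearMap.trace ℂ V (A * Z.Ec ρ c) := by
  rw [Z.split (ρ := ρ) A, Finset.add_sum_erase _ (fun c => LinearMap.trace ℂ V (A * Z.Ec ρ c))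
    (by rw [mem_fixSet, map_zero])]

theorem trel_lvl : TRel S σ θ e P.lv (Wof σ θ e X (resHom ρ (Z.Ec ρ 0))) := by
  obtain ⟨hth, hσth, hcth, hheis, -, hb, -, -⟩ := Z.z_facts
  obtain ⟨G1, hG1⟩ : ∃ G1, G1 = Subgroup.centralizer (Set.range (X P.th)) := ⟨_, rfl⟩
  have hthG : ∀ u, X P.th u ∈ G1 := fun u => by
    rw [hG1, Subgroup.mem_centralizer_iff]
    rintro _ ⟨v, rfl⟩
    exact (Z.T.commute_self P.th v u).eq
  obtain ⟨N, hN⟩ : ∃ N : Subgroup G1, N =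
      { carrier := {g | ∃ u, (g : G) = X P.th u}
        one_mem' := ⟨0, by rw [Z.T.zero]; rfl⟩
        mul_mem' := by
          rintro a b ⟨u, hu⟩ ⟨v, hv⟩
          exact ⟨u + v, by rw [Z.T.add, Subgroup.coe_mul, hu, hv]⟩
        inv_mem' := by
          rintro a ⟨u, hu⟩
          exact ⟨-u, by rw [← Z.T.inv', Subgroup.coe_inv, hu]⟩ } := ⟨_, rfl⟩
  have memN : ∀ g : G1, g ∈ N ↔ ∃ u, (g : G) = X P.th u := fun g => by rw [hN]; rfl
  have hnorm : N.Normal := ⟨fun n hn g => by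
    obtain ⟨u, hu⟩ := (memN n).1 hn
    refine (memN _).2 ⟨u, ?_⟩
    have hg := g.2
    simp only [hG1, Subgroup.mem_centralizer_iff] at hg
    have := hg _ ⟨u, rfl⟩
    rw [Subgroup.coe_mul, Subgroup.coe_mul, Subgroup.coe_inv, hu, ← this, mul_inv_cancel_right]⟩
  refine trel_of Z.T hb G1 (centH ρ (Z.Ec ρ 0)) (QuotientGroup.mk' N) (resHom ρ (Z.Ec ρ 0))
    (fun r hr t => ?_) (fun r hr t => mem_centH ρ (Z.zH r t) (Z.comm_Ec hr t 0))
    (fun g h g1 h1 g2 h2 hgh => ?_) (fun x hx y hy t u hx' hy' => ?_)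
  · rw [hG1, Subgroup.mem_centralizer_iff]
    rintro _ ⟨v, rfl⟩
    rcases hr with rfl | hr
    · rw [Z.T.out _ _ le_rfl, one_mul, mul_one]
    · have := hcth r hr
      simp only [cmz, Bool.and_eq_true] at this
      exact (Z.T.comm_cm this.1 t v).eq.symm
  · rw [QuotientGroup.mk'_apply, QuotientGroup.mk'_apply, QuotientGroup.eq, memN] at hgh
    obtain ⟨u, hu⟩ := hgh
    have hu' : g⁻¹ * h = X P.th u := hu
    obtain ⟨hgH, cg⟩ := g2
    obtain ⟨hhH, ch⟩ := h2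
    have hufix : θ u = u := Z.twfix u (hu' ▸ mul_mem (inv_mem hgH) hhH)
    have hz : zel σ θ e X P.th (l * u) = X P.th u := by
      rw [Z.T.zel_fix hσth, map_mul, hufix, ← add_mul, Z.chr.lam, one_mul]
    have he : ρ ⟨h, hhH⟩ = ρ ⟨g, hgH⟩ * Wof σ θ e X ρ P.th (l * u) := by
      rw [Z.W0_eq, ← map_mul]
      exact congrArg ρ (Subtype.ext (by
        show h = g * zel σ θ e X P.th (l * u)
        rw [hz, ← hu', mul_inv_cancel_left]))
    show res (Z.Ec ρ 0) (ρ ⟨g, hgH⟩) = res (Z.Ec ρ 0) (ρ ⟨h, hhH⟩)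
    refine MinDegExc.res_eq_of_mul_eq cg ch ?_
    rw [he, mul_assoc, Z.th_mul_Ec, zero_mul, AddChar.map_zero_eq_one, one_smul]
  · show _ * _ = _ * _
    rw [← map_mul, ← map_mul, QuotientGroup.mk'_apply, QuotientGroup.mk'_apply, QuotientGroup.eq,
      memN]
    rcases hheis x hx y hy with h | ⟨hxn, hyn, hsm⟩
    · refine ⟨0, ?_⟩
      rw [Z.T.zero, Subgroup.coe_mul, Subgroup.coe_inv, Subgroup.coe_mul, Subgroup.coe_mul,
        ← (Z.T.comm_cm h t u).eq, inv_mul_cancel]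
    · have e1 := Z.T.rg.conj x (List.mem_range.2 hxn) y (List.mem_range.2 hyn)
        (by rw [hsm]; exact hth.ne) (by rw [hsm]; exact List.mem_range.2 hth) t u
      rw [hsm] at e1
      have hc : X P.th (S.sgn K x y * t * u) * (X y u * X x t) =
          (X y u * X x t) * X P.th (S.sgn K x y * t * u) := by
        have := mul_mem hy' hx'
        simp only [hG1, Subgroup.mem_centralizer_iff] at this
        exact this _ ⟨_, rfl⟩
      refine ⟨-(S.sgn K x y * t * u), ?_⟩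
      rw [Subgroup.coe_mul, Subgroup.coe_inv, Subgroup.coe_mul, Subgroup.coe_mul, e1, hc,
        inv_mul_eq_iff_eq_mul, mul_assoc (X y u * X x t), ← Z.T.add, add_neg_cancel, Z.T.zero,
        mul_one]

theorem tctx_lvl : TCtx S σ θ e q P.lv ψ l (Z.Wc ρ 0) where
  fr := Z.fr
  chr := Z.chr
  ee := Z.T.ee
  θe := Z.T.θe
  efix := Z.T.efix
  sm_out := Z.T.sm_out
  σn := Z.T.σn _ le_rfl
  base := Z.z_facts.2.2.2.2.2.1
  rel := by
    have h := Z.trel_lvl (ρ := ρ)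
    rw [Wof_res] at h
    exact h

/-- Either large, or bounded below by the two levels. -/
theorem main (L1 : LvlOK S σ P) {lv2 : TLvl} (L2 : LowOK S σ θ e X P lv2)
    (hne : ∃ t, Wof σ θ e X ρ P.th t ≠ 1)
    (num : (q : ℂ) ^ (P.lv.k + 1) -
        ((q : ℂ) - 1) * (q : ℂ) ^ (weight σ (P.rep.filter fun b => P.free.contains b) + 1) -
        (P.lv.cnt σ q : ℂ) + (P.lv.fixCnt S σ P.a q : ℂ) = (q : ℂ) ^ (lv2.k + 1)) :
    2 * (q - 1) * (q + 1) * q ^ (P.lv.k + 1) ≤ q * Module.finrank ℂ V ∨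
      lv2.cnt σ q + P.lv.cnt σ q + (q - 1) * q ^ (P.lv.k + 1) ≤ Module.finrank ℂ V := by
  classical
  obtain ⟨hth, hσth, -, -, -, -, hσa, haL⟩ := Z.z_facts
  have hψ := Z.chr.ne
  have hq2 := Z.fr.two
  have hqC : (q : ℂ) ≠ 0 := Nat.cast_ne_zero.2 (by omega)
  have hqq : ((q - 1 : ℕ) : ℂ) = (q : ℂ) - 1 := by
    push_cast [Nat.cast_sub (show 1 ≤ q by omega)]; rfl
  obtain ⟨k, hk⟩ : ∃ k, k = Module.finrank ℂ V := ⟨_, rfl⟩
  obtain ⟨χ, hχdef⟩ : ∃ χ, χ = LinearMap.trace ℂ V (Wof σ θ e X ρ P.th l) := ⟨_, rfl⟩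
  obtain ⟨μ, hμdef⟩ : ∃ μ, μ = (Z.zfam (ρ := ρ)).m ψ (fun _ => (1 : K)) := ⟨_, rfl⟩
  have hμ1 := Z.mu_eq (ρ := ρ) one_ne_zero (map_one θ)
  rw [← hμdef, ← hk, ← hχdef] at hμ1
  have hm : ∀ c : K, c ≠ 0 → θ c = c → ((Z.zfam (ρ := ρ)).m ψ fun _ => c) = μ := fun c hc hcF => by
    have h := mul_left_cancel₀ hqC ((Z.mu_eq (ρ := ρ) hc hcF).trans
      (by rw [← hk, ← hχdef, hμ1]))
    exact_mod_cast h
  obtain ⟨f, hf⟩ : ∃ f, f = Module.finrank ℂ (LinearMap.range (Z.Ec ρ 0)) := ⟨_, rfl⟩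
  have hfk : k = f + (q - 1) * μ := by
    have h := Z.split0 (ρ := ρ) 1
    simp only [one_mul, LinearMap.trace_one] at h
    rw [← hk, Finset.sum_congr rfl (g := fun _ => (μ : ℂ)) fun c hc => by
      rw [Finset.mem_erase, mem_fixSet] at hc
      rw [← hm c hc.1 hc.2]
      exact (Z.zfam (ρ := ρ)).trace_P hψ _,
      Finset.sum_const, Z.card_fix0, ← finrank_range (Z.Ec_idem (ρ := ρ) 0), ← hf,
      nsmul_eq_mul] at h
    exact_mod_cast h
  have hkC : (k : ℂ) = (f : ℂ) + ((q : ℂ) - 1) * (μ : ℂ) := by rw [hfk]; push_cast [hqq]; ring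
  have hμ0 : μ ≠ 0 := by
    intro h0
    obtain ⟨t, ht⟩ := hne
    refine ht ?_
    rw [← mul_one (Wof σ θ e X ρ P.th t), ← (Z.zfam (ρ := ρ)).sum_P hψ, Finset.mul_sum]
    refine Finset.sum_congr rfl fun y _ => ?_
    rw [show y = fun _ => y () from funext fun u => by cases u; rfl]
    show Wof σ θ e X ρ P.th t * Z.Ec ρ (y ()) = Z.Ec ρ (y ())
    by_cases hy : y () = 0
    · rw [hy, Z.th_mul_Ec, zero_mul, AddChar.map_zero_eq_one, one_smul]
    · by_cases hyF : θ (y ()) = y ()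
      · rw [show Z.Ec ρ (y ()) = 0 from
          MinDegExc.Fam.P_eq_zero _ ((hm _ hy hyF).trans h0), mul_zero]
      · rw [Z.Ec_zero hyF, mul_zero]
  obtain ⟨w, hw⟩ : ∃ w, w = P.lv.k + 1 := ⟨_, rfl⟩
  rw [← hw] at num ⊢
  have hpol : ∀ c : K, c ≠ 0 → θ c = c →
      q ^ w * (Z.tctx_pol (ρ := ρ) c).fam.m ψ 0 = μ := fun c hc hcF => by
    rw [hw, ← L1.wt, Z.pol_m hc, hm c hc hcF]
  obtain ⟨ν, hν⟩ : ∃ ν, ν = (Z.tctx_pol (ρ := ρ) (1 : K)).fam.m ψ 0 := ⟨_, rfl⟩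
  have hμν : q ^ w * ν = μ := hν ▸ hpol 1 one_ne_zero (map_one θ)
  -- radical elements on the fixed space of the centre
  have hdef : ∀ b ∈ P.lv.R, σ b = b → ∀ t : K, t + θ t ≠ 0 →
      LinearMap.trace ℂ _ (Z.Wc ρ 0 b t) = (f : ℂ) - (μ : ℂ) := by
    intro b hb hσb t ht
    show LinearMap.trace ℂ _ (res _ _) = _
    rw [trace_res (E := Z.Ec ρ 0) (Z.Ec_idem 0)
      (Z.comm_Ec (Or.inr (List.mem_append_left _ hb)) t 0)]
    have h := Z.split0 (ρ := ρ) (Wof σ θ e X ρ b t)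
    rw [Z.trace_chi (Or.inl ⟨hb, hσb⟩) ht, ← hχdef, Finset.sum_eq_zero fun c hc =>
      Z.trace_rad hb hσb (Finset.ne_of_mem_erase hc) ht, add_zero] at h
    linear_combination -h + hkC + hμ1
  have C1 := Z.tctx_lvl (ρ := ρ)
  have hcase : ν = 1 ∨ 2 ≤ ν := by
    rcases Nat.eq_zero_or_pos ν with h | h
    · rw [h, mul_zero] at hμν; exact absurd hμν.symm hμ0
    · omega
  rcases hcase with hν1 | hν2
  swap
  · left
    obtain ⟨b, hb, hσb⟩ := L1.b0
    have hfam : Fam (ι := Unit) fun _ t => Z.Wc ρ 0 b t :=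
      ⟨fun _ => C1.rel.zero _ (List.mem_append_left _ hb),
        fun _ => C1.rel.add _ (List.mem_append_left _ hb), fun _ _ t u => C1.rel.ab b hb b hb t u⟩
    have hsum : (q - 1) * μ ≤ q * f := by
      have h1 : ∀ c : K, c ≠ 0 → θ c = c → q * hfam.m ψ (fun _ => c) = μ := fun c hc hcF => by
        have h := slice hfam Z.chr Z.fr () (D := (μ : ℂ))
          (fun t ht => C1.rel.fix1 b hb hσb t ht)
          (fun t ht => by rw [hdef b hb hσb t ht, hf]) hc hcF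
        rw [Finset.sum_eq_single_of_mem (fun _ => c) (by simp) (fun y hy hne => by
          exfalso
          refine hne (funext fun u => ?_)
          simp only [Finset.mem_filter, Finset.mem_univ, true_and] at hy
          cases u
          exact hy)] at h
        exact_mod_cast h
      rw [hf, ← hfam.sum_m hψ, Finset.mul_sum]
      refine le_trans (le_of_eq ?_) (Finset.sum_le_sum_of_subset
        (Finset.subset_univ (((fixSet θ).erase 0).image fun c _ => c)))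
      rw [Finset.sum_image fun c _ d _ h => congrFun h (),
        Finset.sum_congr rfl (g := fun _ => μ) fun c hc => by
          rw [Finset.mem_erase, mem_fixSet] at hc
          exact h1 c hc.1 hc.2,
        Finset.sum_const, Z.card_fix0, smul_eq_mul]
    rw [← hk, hfk]
    calc 2 * (q - 1) * (q + 1) * q ^ w
        = (q - 1) * (q ^ w * 2) + q * ((q - 1) * (q ^ w * 2)) := by ring
      _ ≤ (q - 1) * (q ^ w * ν) + q * ((q - 1) * (q ^ w * ν)) := by gcongr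
      _ ≤ q * (f + (q - 1) * μ) := by rw [hμν, mul_add]; gcongr
  right
  subst hν1
  rw [mul_one] at hμν
  have hD : DefT S σ θ q P.lv (Z.Wc ρ 0) := fun b hb hσb t ht => by
    rw [hdef b hb hσb t ht, ← hμν, hf, hw]; push_cast; rfl
  have hν' : ∀ c : K, c ≠ 0 → θ c = c → (Z.tctx_pol (ρ := ρ) c).fam.m ψ 0 = 1 := fun c hc hcF =>
    Nat.eq_of_mul_eq_mul_left (pow_pos (by omega) _) ((hpol c hc hcF).trans (by rw [mul_one, hμν]))
  -- the root of the complement on the fixed space of the centre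
  have hta : ∀ t : K, t + θ t ≠ 0 → LinearMap.trace ℂ _ (Z.Wc ρ 0 P.a t) = (f : ℂ) - (μ : ℂ) +
      ((q : ℂ) - 1) * (q : ℂ) ^ (weight σ (P.rep.filter fun b => P.free.contains b) + 1) := by
    intro t ht
    show LinearMap.trace ℂ _ (res _ _) = _
    rw [trace_res (E := Z.Ec ρ 0) (Z.Ec_idem 0)
      (Z.comm_Ec (Or.inr (List.mem_append_right _ haL)) t 0)]
    have h := Z.split0 (ρ := ρ) (Wof σ θ e X ρ P.a t)
    rw [Z.trace_chi (Or.inr rfl) ht, ← hχdef, Finset.sum_congr rfl (g := fun _ =>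
      -((q : ℂ) ^ (weight σ (P.rep.filter fun b => P.free.contains b) + 1))) fun c hc => by
      rw [Finset.mem_erase, mem_fixSet] at hc
      exact Z.trace_a hc.1 hc.2 (hν' c hc.1 hc.2) ht,
      Finset.sum_const, Z.card_fix0, nsmul_eq_mul, hqq] at h
    linear_combination -h + hkC + hμ1
  obtain ⟨m0, hm0⟩ : ∃ m0, m0 = C1.fam.m ψ 0 := ⟨_, rfl⟩
  have hf0 : f = m0 + P.lv.cnt σ q := by
    rw [hf, hm0]; exact C1.finrank_eq hD L1.chk L1.up L1.e0
  have hact := L1.act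
  simp only [TLvl.actChk, Bool.and_eq_true, Bool.or_eq_true, List.all_eq_true, beq_iff_eq,
    Bool.not_eq_true', beq_eq_false_iff_ne, List.contains_iff_mem, ← Bool.not_eq_true] at hact
  obtain ⟨-, -, hc'⟩ := hact
  have hP0 : ∀ t : K, t + θ t ≠ 0 → LinearMap.trace ℂ _ (Z.Wc ρ 0 P.a t * C1.fam.P ψ 0) =
      (m0 : ℂ) - (q : ℂ) ^ (lv2.k + 1) := by
    intro t ht
    have hcomm : ∀ c ∈ P.lv.cells, ∀ b ∈ P.lv.low c, ∀ s,
        Commute (Z.Wc ρ 0 P.a t) (Z.Wc ρ 0 (rb S c.e b) s) := by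
      intro c hc b hb s
      obtain ⟨⟨h1, h2, h3, h4⟩, -⟩ := And.intro ((hc' c hc).1 b hb) trivial
      have hrL := ((C1.cell_facts (C1.cells_chk L1.chk c hc)).2.2.2.2.2.2 b
        (List.mem_filter.1 hb).1).2.2.1
      have han := (C1.base'.2.1 _ haL).1
      have hrn := (C1.base'.2.1 _ hrL).1
      have hσrn := (C1.base'.2.1 _ (C1.base'.2.1 _ hrL).2).1
      have hz : cmz S σ P.a (rb S c.e b) = true := by
        simp only [cmz, Bool.and_eq_true, hσa, cm_iff]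
        exact ⟨⟨han, hrn, h1, h3⟩, ⟨han, hσrn, h2, h4⟩, ⟨han, hrn, h1, h3⟩, ⟨han, hσrn, h2, h4⟩⟩
      show res _ _ * res _ _ = res _ _ * res _ _
      have ca := Z.comm_Ec (ρ := ρ) (Or.inr (List.mem_append_right _ haL)) t 0
      have cr := Z.comm_Ec (ρ := ρ) (Or.inr (List.mem_append_right _ hrL)) s 0
      rw [← res_mul ca cr, ← res_mul cr ca, (Z.W0_cmz hz t s).eq]
    have hcr : ∀ c ∈ P.lv.cells, P.lv.moved S P.a c.e = false → ∃ u v,
        Z.Wc ρ 0 c.ph.1 u * Z.Wc ρ 0 c.ph.2 v =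
          Z.Wc ρ 0 P.a t * (Z.Wc ρ 0 c.ph.2 v * Z.Wc ρ 0 c.ph.1 u) := by
      intro c hc hmv
      obtain ⟨hp, hσp⟩ := L1.ph c hc hmv
      obtain ⟨hp1, hp2, -⟩ := (hc' c hc).2.resolve_left (by rw [hmv]; exact Bool.false_ne_true)
      refine ⟨1, S.sgn K c.ph.1 c.ph.2 * t, ?_⟩
      have c1 := Z.comm_Ec (ρ := ρ) (Or.inr (List.mem_append_right _ hp1)) 1 0
      have c2 := Z.comm_Ec (ρ := ρ) (Or.inr (List.mem_append_right _ hp2))
        (S.sgn K c.ph.1 c.ph.2 * t) 0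
      have ca := Z.comm_Ec (ρ := ρ) (Or.inr (List.mem_append_right _ haL)) t 0
      show res _ _ * res _ _ = res _ _ * (res _ _ * res _ _)
      rw [← res_mul c1 c2, ← res_mul c2 c1, ← res_mul ca (c2.mul_left c1)]
      congr 1
      rw [Z.W0_pair hp, if_neg hσp]
      congr 2
      linear_combination t * S.sgn_sq (F := K) c.ph.1 c.ph.2
    have h := C1.trace_fixed hD L1.chk L1.up L1.e0 L1.act ht hcr hcomm
    rw [hta t ht] at h
    rw [← num, ← hμν] at *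
    push_cast [hf0] at h ⊢
    linear_combination -h
  -- the second level
  have h2L : ∀ r, (r = S.n ∨ r ∈ lv2.R ++ lv2.L) → ∀ t,
      Commute (Z.Wc ρ 0 r t) (C1.fam.P ψ 0) := by
    intro r hr t
    rcases hr with rfl | hr
    · rw [C1.rel.out t]; exact Commute.one_left _
    · exact C1.commute_fixed (L2.sub r hr) t
  obtain ⟨ρ1, hρ1⟩ : ∃ ρ1, ρ1 = resHom ρ (Z.Ec ρ 0) := ⟨_, rfl⟩
  have hW1 : Wof σ θ e X ρ1 = Z.Wc ρ 0 := by rw [hρ1, Wof_res]; rfl
  have hmem : ∀ r, (r = S.n ∨ r ∈ P.lv.R ++ P.lv.L) → ∀ t,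
      Commute (Z.Wc ρ 0 r t) (C1.fam.P ψ 0) →
      zel σ θ e X r t ∈ centH ρ1 (C1.fam.P ψ 0) := fun r hr t hc =>
    mem_centH ρ1 (mem_centH ρ (Z.zH r t) (Z.comm_Ec hr t 0)) (by rw [hW1]; exact hc)
  have hsub : ∀ r, (r = S.n ∨ r ∈ lv2.R ++ lv2.L) → r = S.n ∨ r ∈ P.lv.R ++ P.lv.L :=
    fun r hr => hr.imp_right fun h => List.mem_append_right _ (L2.sub r h)
  have hchk2 := L2.chk
  simp only [TLvl.chk, Bool.and_eq_true] at hchk2
  have hrel : TRel S σ θ e lv2 (Wof σ θ e X (resHom ρ1 (C1.fam.P ψ 0))) :=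
    trel_of Z.T hchk2.1 ⊤ _ (Subgroup.subtype ⊤) _
      (fun r _ t => Subgroup.mem_top _)
      (fun r hr t => hmem r (hsub r hr) t (h2L r hr t))
      (fun g h g1 h1 g2 h2 e1 => congrArg _ (Subtype.ext e1))
      (fun x hx y hy t u hx' hy' => Z.T.comm_cm (L2.comm x hx y hy) t u)
  have hgen : Hgen σ θ e X P.lv.L ≤ centH ρ1 (C1.fam.P ψ 0) := by
    refine (Subgroup.closure_le _).2 ?_
    rintro _ ⟨r, hr, t, rfl⟩
    exact hmem r (Or.inr (List.mem_append_right _ hr)) t (C1.commute_fixed hr t)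
  have hD2 : DefT S σ θ q lv2 (Wof σ θ e X (resHom ρ1 (C1.fam.P ψ 0))) := by
    intro b hb hσb t ht
    have hbL := L2.sub b (List.mem_append_left _ hb)
    rw [← Z.T.trace_conn Z.fr (resHom ρ1 (C1.fam.P ψ 0)) hσa hσb ((L2.conn b hb hσb).mono hgen)
      Z.lam_ne ht (hgen (zel_mem_Hgen haL l)) (hgen (zel_mem_Hgen hbL t)), Wof_res, hW1,
      trace_res (E := C1.fam.P ψ 0) (C1.fam.P_idem hψ 0) (C1.commute_fixed haL l),
      hP0 l Z.lam_ne, hm0]
    rfl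
  have C2 : TCtx S σ θ e q lv2 ψ l (Wof σ θ e X (resHom ρ1 (C1.fam.P ψ 0))) :=
    ⟨Z.fr, Z.chr, Z.T.ee, Z.T.θe, Z.T.efix, Z.T.sm_out, Z.T.σn _ le_rfl, hchk2.1, hrel⟩
  have h2 := C2.le_finrank hD2 L2.chk L2.up
  have h3 : lv2.cnt σ q ≤ m0 := by
    rw [hm0]; exact le_trans (Nat.le_add_left _ _) h2
  rw [← hk, hfk, hf0, ← hμν]
  omega

end TopCtx

end Cfsg.Agent.SimpleFacts.MinDegTw
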