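import Cfsg.Agent.SimpleFacts.MinDegTw.Data
import Cfsg.Agent.SimpleFacts.MinDegTw.Main
import Cfsg.Agent.SimpleFacts.MinDegExc.Data.E6Chk

/-! The checks of the radicals for the twisted group of type E6, by kernel computation. -/

set_option autoImplicit false

namespace Cfsg.Agent.SimpleFacts.MinDegTw.Data

open Cfsg.Agent.SimpleFacts.MinDegExc (Sys)

theorem z_chk : top.zChk sys sig = true := by decide +kernel

theorem p_chk : top.polChk sys sig = true := by decide +kernel

theorem lv1_chk : lv1.chk sys sig = true := by decide +kernel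

theorem lv1_up : (lv1.cells.all fun c => lv1.upChk sys sig c) = true := by decide +kernel

theorem lv1_e0 : lv1.e0Chk sys sig = true := by decide +kernel

theorem lv1_act : lv1.actChk sys sig 60 = true := by decide +kernel

theorem lv1_ph : (lv1.cells.all fun c => lv1.moved sys 60 c.e ||
    (pairsTo sys sig c.ph.1 c.ph.2 60 && !(sig c.ph.2 == c.ph.2))) = true := by decide +kernel

theorem lv2_chk : lv2.chk sys sig = true := by decide +kernel

theorem lv2_rest : (((lv2.R ++ lv2.L).all fun r => lv1.L.contains r) &&
    ((lv2.R.all fun x => lv2.R.all fun y => cm sys x y) &&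
    lv2.cells.all fun c => c.v1.all fun b =>
      (lv2.low c).contains b || Nat.blt (lv2.key c.e) (lv2.key b))) = true := by decide +kernel

theorem rep_wt : weight sig top.rep = 10 ∧
    weight sig (top.rep.filter fun b => top.free.contains b) = 6 := by decide +kernel

theorem lv1_exps : lv1.cells.map (fun c => (lv1.moved sys 60 c.e, weight sig (lv1.low c))) =
    [(false, 0), (false, 1), (false, 3), (false, 4), (true, 5), (true, 6), (true, 8), (true, 9)] := by
  decide +kernel

theorem lv2_exps : lv2.cells.map (fun c => weight sig (lv2.low c)) = [0, 2, 4] := by decide +kernel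

/-- The identities of the system with the permutation. -/
noncomputable def symChk : Bool :=
  (List.range 72).all fun r => Nat.blt (sys.ng r) 72 && (Nat.blt (sig r) 72 && ((sig (sig r) == r) &&
    ((sys.ng (sig r) == sig (sys.ng r)) &&
    ((sig r == r || ((sys.sm r (sig r) == 72) && !(sig r == sys.ng r))) &&
    (List.range 72).all fun s => Nat.ble (sys.sm r s) 72 &&
      (sys.sm (sig r) (sig s) == sig (sys.sm r s))))))

theorem sym_ok : symChk = true := by decide +kernel

theorem noComm_ok : ((List.range 72).all fun r => TwistMult.E6.rho r == r ||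
    Cfsg.Agent.Chevalley.Twist.noComm Cfsg.Agent.Chevalley.Data.E6.tab r (TwistMult.E6.rho r)) = true := by
  decide +kernel

theorem steps_ok : (([(71, 46, 1), (71, 47, 2), (71, 51, 6), (71, 53, 8), (71, 63, 18), (71, 65, 20),
      (71, 69, 24), (71, 70, 25), (63, 60, 25)] : List (ℕ × ℕ × ℕ)).all fun p =>
      adj1 sys p.2.2 p.1 p.2.1 && (sig p.2.2 == p.2.2)) &&
    ((([(39, 14, 41), (44, 15, 45)] : List (ℕ × ℕ × ℕ)).all fun p =>
      adj2 sys sig p.2.1 60 p.2.2 p.1 &&
        ((sys.sg (sig p.2.1) (sig 60) == sys.sg (sys.ng (sig p.2.1)) (sig p.2.2)) &&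
        (lv1.L.contains p.2.1 && lv1.L.contains (sys.ng p.2.1)))) &&
    (((lv1.R.filter fun b => sig b == b).all fun b =>
      [46, 47, 51, 53, 63, 65, 69, 70].contains b) &&
    ((lv2.R.filter fun b => sig b == b).all fun b => [39, 44, 60].contains b))) = true := by
  decide +kernel

end Cfsg.Agent.SimpleFacts.MinDegTw.Data
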