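import Cfsg.Agent.SimpleFacts.MinDegExc.Coord
import Cfsg.Agent.SimpleFacts.MinDegExc.Orbit
import Cfsg.Agent.SimpleFacts.MinDegOrth.Steps
import Cfsg.Agent.Lib.Chevalley.Twist.CountE6

/-!
A field of q ^ 2 elements with its involution: characters, fixed elements and norm sums.
-/

set_option autoImplicit false
set_option linter.unusedSectionVars false

namespace Cfsg.Agent.SimpleFacts.MinDegTw

open scoped BigOperators
open Cfsg.Agent.SimpleFacts.MinDegExc (Fam dotp)

variable {K : Type*} [Field K] [Fintype K] {q : ℕ} {θ : K →+* K}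

/-- The involution `t ↦ t ^ q`. -/
structure Fr (θ : K →+* K) (q : ℕ) : Prop where
  two : 2 ≤ q
  card : Fintype.card K = q ^ 2
  pow : ∀ t, θ t = t ^ q

theorem Fr.inv (h : Fr θ q) (t : K) : θ (θ t) = t := by
  rw [h.pow, h.pow, ← pow_mul, ← sq, ← h.card, FiniteField.pow_card]

/-- The fixed elements. -/
noncomputable def fixSet (θ : K →+* K) : Finset K :=
  open _root_.Classical in Finset.univ.filter fun t => θ t = t

theorem mem_fixSet {t : K} : t ∈ fixSet θ ↔ θ t = t := by
  classical
  simp [fixSet]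

theorem Fr.card_fix (h : Fr θ q) : (fixSet θ).card = q := by
  classical
  have h1 := Cfsg.Agent.Chevalley.Twist.card_powfix (n := 2) h.two h.card
  rw [Nat.card_eq_fintype_card, Fintype.card_subtype] at h1
  refine (congrArg Finset.card ?_).trans h1
  ext t
  simp [fixSet, h.pow]

open _root_.Classical in
/-- Few roots of a binomial. -/
theorem Fr.card_root_le (h : Fr θ q) (a : K) :
    (Finset.univ.filter fun t : K => θ t + a * t = 0).card ≤ q := by
  open Polynomial in
  have hd : (X ^ q + C a * X : K[X]).natDegree = q := by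
    rw [natDegree_add_eq_left_of_natDegree_lt] <;> rw [natDegree_X_pow]
    exact lt_of_le_of_lt ((natDegree_C_mul_le a X).trans natDegree_X_le) (by have := h.two; omega)
  refine le_trans (Finset.card_le_card (t := (X ^ q + C a * X : K[X]).roots.toFinset) ?_)
    ((Multiset.toFinset_card_le _).trans (hd ▸ card_roots' _))
  intro t ht
  rw [Finset.mem_filter] at ht
  rw [Multiset.mem_toFinset, mem_roots fun e => by rw [e, natDegree_zero] at hd; have := h.two; omega,
    IsRoot]
  simp [← h.pow, ht.2]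

/-- The map `t ↦ a θ t + b t` vanishes only if both coefficients do. -/
theorem Fr.lin_zero (h : Fr θ q) {a b : K} (hab : ∀ t, a * t + b * θ t = 0) : a = 0 ∧ b = 0 := by
  classical
  by_cases hb : b = 0
  · exact ⟨by have := hab 1; simpa [hb] using this, hb⟩
  have h1 := h.card_root_le (a / b)
  rw [Finset.filter_true_of_mem (fun t _ => by field_simp; linear_combination hab t),
    Finset.card_univ, h.card] at h1
  have := h.two
  nlinarith

theorem Fr.exists_lin_ne (h : Fr θ q) {a b : K} (ha : a ≠ 0) : ∃ t, a * t + b * θ t ≠ 0 := by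
  by_contra hc
  push Not at hc
  exact ha (h.lin_zero hc).1

open _root_.Classical in
/-- The same with a norm term. -/
theorem Fr.quad_zero (h : Fr θ q) {a b c : K}
    (habc : ∀ t, a * t + b * θ t + c * (t * θ t) = 0) : a = 0 ∧ b = 0 ∧ c = 0 := by
  suffices hc : c = 0 by
    subst hc
    obtain ⟨h1, h2⟩ := h.lin_zero (a := a) (b := b) fun t => by simpa using habc t
    exact ⟨h1, h2, rfl⟩
  by_contra hc
  open Polynomial in
  obtain ⟨P, hP⟩ : ∃ P : K[X], P = C c * X ^ (q + 1) + (C b * X ^ q + C a * X) := ⟨_, rfl⟩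
  have hlt : ((C b * X ^ q + C a * X : Polynomial K)).natDegree < q + 1 := by
    refine Nat.lt_succ_of_le ((natDegree_add_le _ _).trans (max_le (natDegree_C_mul_X_pow_le b q) ?_))
    exact le_trans ((natDegree_C_mul_le a X).trans natDegree_X_le) (by have := h.two; omega)
  have hd : P.natDegree = q + 1 := by
    rw [hP, natDegree_add_eq_left_of_natDegree_lt] <;> rw [natDegree_C_mul_X_pow _ _ hc]
    exact hlt
  have hsub : (Finset.univ : Finset K) ⊆ P.roots.toFinset := fun t _ => by
    rw [Multiset.mem_toFinset, mem_roots fun e => by rw [e, natDegree_zero] at hd; omega, IsRoot, hP]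
    simp only [eval_add, eval_mul, eval_C, eval_pow, eval_X]
    rw [pow_succ, ← h.pow]
    linear_combination habc t
  have := (Finset.card_le_card hsub).trans ((Multiset.toFinset_card_le _).trans (hd ▸ card_roots' _))
  rw [Finset.card_univ, h.card] at this
  have := h.two
  nlinarith

/-- An element of trace one. -/
theorem Fr.exists_lam (h : Fr θ q) : ∃ l : K, l + θ l = 1 := by
  obtain ⟨t, ht⟩ := h.exists_lin_ne (a := (1 : K)) (b := 1) one_ne_zero
  simp only [one_mul] at ht
  refine ⟨t / (t + θ t), ?_⟩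
  rw [map_div₀, map_add, h.inv, add_comm (θ t) t, ← add_div, div_self ht]

open _root_.Classical in
/-- The elements of trace zero. -/
theorem Fr.card_T0 (h : Fr θ q) {l : K} (hl : l + θ l = 1) :
    (Finset.univ.filter fun t : K => t + θ t = 0).card = q := by
  have e1 := Finset.card_eq_sum_card_fiberwise (f := fun t : K => t + θ t) (s := Finset.univ)
    (t := fixSet θ) (fun t _ => by
      rw [Finset.mem_coe, mem_fixSet, map_add, h.inv, add_comm])
  rw [Finset.card_univ, h.card, Finset.sum_congr rfl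
    (g := fun _ => (Finset.univ.filter fun t : K => t + θ t = 0).card) fun u hu => ?_,
    Finset.sum_const, h.card_fix, smul_eq_mul, sq] at e1
  · exact (Nat.eq_of_mul_eq_mul_left (by have := h.two; omega) e1).symm
  rw [mem_fixSet] at hu
  refine Finset.card_bij' (fun t _ => t - u * l) (fun t _ => t + u * l) ?_ ?_ ?_ ?_
  · intro t ht
    simp only [Finset.mem_filter, Finset.mem_univ, true_and] at ht ⊢
    rw [map_sub, map_mul, hu]; linear_combination ht - u * hl
  · intro t ht
    simp only [Finset.mem_filter, Finset.mem_univ, true_and] at ht ⊢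
    rw [map_add, map_mul, hu]; linear_combination ht + u * hl
  · intro t _; ring
  · intro t _; ring

/-- An additive character invariant under the involution. -/
structure Chr (θ : K →+* K) (ψ : AddChar K ℂ) (l : K) : Prop where
  lam : l + θ l = 1
  ne : ψ ≠ 1
  tr : ∀ t, ψ t = ψ (l * (t + θ t))

theorem Chr.theta {ψ : AddChar K ℂ} {l : K} (C : Chr θ ψ l) (h : Fr θ q) (t : K) :
    ψ (θ t) = ψ t := by rw [C.tr, h.inv, add_comm, ← C.tr]

/-- Trace zero elements times fixed elements are in the kernel. -/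
theorem Chr.fix_T0 {ψ : AddChar K ℂ} {l : K} (C : Chr θ ψ l) {c t : K} (hc : θ c = c)
    (ht : t + θ t = 0) : ψ (c * t) = 1 := by
  rw [C.tr, map_mul θ, hc, ← mul_add, ht, mul_zero, mul_zero, AddChar.map_zero_eq_one]

theorem exists_chr (h : Fr θ q) : ∃ ψ l, Chr θ ψ l := by
  obtain ⟨l, hl⟩ := h.exists_lam
  obtain ⟨ψ1, h1⟩ := MinDegOrth.exists_psi_ne (F := K)
  obtain ⟨a, ha⟩ := AddChar.ne_one_iff.1 h1
  let ψ : AddChar K ℂ :=
    { toFun := fun x => ψ1 (a * (x + θ x))
      map_zero_eq_one' := by simp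
      map_add_eq_mul' := fun x y => by
        rw [← AddChar.map_add_eq_mul, map_add]; congr 1; ring }
  refine ⟨ψ, l, hl, AddChar.ne_one_iff.2 ⟨l, ?_⟩, fun t => ?_⟩
  · show ψ1 (a * (l + θ l)) ≠ 1
    rwa [hl, mul_one]
  · show ψ1 (a * (t + θ t)) = ψ1 (a * (l * (t + θ t) + θ (l * (t + θ t))))
    congr 1
    rw [map_mul, map_add, h.inv]
    linear_combination (-(a * (t + θ t))) * hl

/-- `κ ↦ ψ (c κ)` determines `c`. -/
theorem Chr.inj {ψ : AddChar K ℂ} {l : K} (C : Chr θ ψ l) {c d : K}
    (h : ∀ t, ψ (c * t) = ψ (d * t)) : c = d := by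
  by_contra hne
  obtain ⟨u, hu⟩ := AddChar.ne_one_iff.1 C.ne
  have h1 := h (u / (c - d))
  refine hu ?_
  have e : c * (u / (c - d)) = u + d * (u / (c - d)) := by
    field_simp [sub_ne_zero.2 hne]; ring
  rw [e, AddChar.map_add_eq_mul] at h1
  refine mul_right_cancel₀ (b := ψ (d * (u / (c - d)))) ?_ (by rw [h1, one_mul])
  intro h0
  have := AddChar.map_add_eq_mul ψ (d * (u / (c - d))) (-(d * (u / (c - d))))
  rw [add_neg_cancel, AddChar.map_zero_eq_one, h0, zero_mul] at this
  exact one_ne_zero this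

open _root_.Classical in
/-- The sum over the norms. -/
theorem Chr.norm_sum {ψ : AddChar K ℂ} {l : K} (C : Chr θ ψ l) (h : Fr θ q) {κ : K}
    (hκ : θ κ = κ) (hκ0 : κ ≠ 0) : ∑ s : K, ψ (l * (κ * (s * θ s))) = -(q : ℂ) := by
  have hN : ∀ s : K, θ (s * θ s) = s * θ s := fun s => by rw [map_mul, h.inv, mul_comm]
  obtain ⟨m, rfl⟩ : ∃ m, q = m + 1 := ⟨q - 1, by have := h.two; omega⟩
  have hsum : ((fixSet θ).erase 0).card = m := by
    rw [Finset.card_erase_of_mem (by rw [mem_fixSet, map_zero]), h.card_fix]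
    rfl
  have hle : ∀ n ∈ (fixSet θ).erase 0,
      (((Finset.univ : Finset K).erase 0).filter fun s => s * θ s = n).card ≤ m + 2 := by
    intro n hn
    open Polynomial in
    have hd : (X ^ (m + 2) - Polynomial.C n : K[X]).natDegree = m + 2 := natDegree_X_pow_sub_C
    refine le_trans (Finset.card_le_card (t := (X ^ (m + 2) - Polynomial.C n : K[X]).roots.toFinset) ?_)
      ((Multiset.toFinset_card_le _).trans (hd ▸ card_roots' _))
    intro s hs
    rw [Finset.mem_filter] at hs
    rw [Multiset.mem_toFinset, mem_roots fun e => by rw [e, natDegree_zero] at hd; omega, IsRoot]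
    simp only [eval_sub, eval_pow, eval_X, eval_C, sub_eq_zero]
    rw [← hs.2, h.pow, pow_succ' s (m + 1)]
  have hmem : ∀ s ∈ (Finset.univ : Finset K).erase 0, s * θ s ∈ (fixSet θ).erase 0 := fun s hs => by
    rw [Finset.mem_erase, mem_fixSet]
    exact ⟨mul_ne_zero (Finset.ne_of_mem_erase hs)
      ((map_ne_zero θ).2 (Finset.ne_of_mem_erase hs)), hN s⟩
  have htot := Finset.card_eq_sum_card_fiberwise (f := fun s : K => s * θ s)
    (s := (Finset.univ : Finset K).erase 0) (t := (fixSet θ).erase 0) hmem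
  have hall : ∀ n ∈ (fixSet θ).erase 0,
      (((Finset.univ : Finset K).erase 0).filter fun s => s * θ s = n).card = m + 2 := by
    refine (Finset.sum_eq_sum_iff_of_le hle).1 ?_
    rw [← htot, Finset.sum_const, hsum, Finset.card_erase_of_mem (Finset.mem_univ _),
      Finset.card_univ, h.card, smul_eq_mul]
    have : (m + 1) ^ 2 = m * (m + 2) + 1 := by ring
    omega
  rw [← Finset.add_sum_erase _ _ (Finset.mem_univ (0 : K)),
    ← Finset.sum_fiberwise_of_maps_to (s := (Finset.univ : Finset K).erase 0) hmem,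
    Finset.sum_congr rfl (g := fun n => ((m + 2 : ℕ) : ℂ) * ψ (l * (κ * n))) fun n hn => by
      rw [Finset.sum_congr rfl (g := fun _ => ψ (l * (κ * n))) fun s hs => by
        rw [(Finset.mem_filter.1 hs).2],
        Finset.sum_const, hall n hn, nsmul_eq_mul],
    ← Finset.mul_sum, Finset.sum_erase_eq_sub (by rw [mem_fixSet, map_zero]),
    zero_mul, mul_zero, mul_zero, AddChar.map_zero_eq_one]
  have hz : ∑ n ∈ fixSet θ, ψ (l * (κ * n)) = 0 := by
    obtain ⟨u, hu⟩ := AddChar.ne_one_iff.1 C.ne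
    obtain ⟨b, hb⟩ : ∃ b, b = κ⁻¹ * (u + θ u) := ⟨_, rfl⟩
    have hbf : θ b = b := by rw [hb, map_mul, map_inv₀, hκ, map_add, h.inv, add_comm]
    have hb1 : ψ (l * (κ * b)) ≠ 1 := by
      rwa [hb, mul_inv_cancel_left₀ hκ0, ← C.tr]
    have e : ψ (l * (κ * b)) * ∑ n ∈ fixSet θ, ψ (l * (κ * n)) =
        ∑ n ∈ fixSet θ, ψ (l * (κ * n)) := by
      rw [Finset.mul_sum]
      refine Finset.sum_bij' (fun n _ => b + n) (fun n _ => n - b) ?_ ?_ ?_ ?_ ?_
      · intro n hn; rw [mem_fixSet] at hn ⊢; rw [map_add, hbf, hn]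
      · intro n hn; rw [mem_fixSet] at hn ⊢; rw [map_sub, hbf, hn]
      · intro n _; ring
      · intro n _; ring
      · intro n _; rw [← AddChar.map_add_eq_mul]; congr 1; ring
    by_contra h0
    exact hb1 (mul_right_cancel₀ h0 (e.trans (one_mul _).symm))
  rw [hz]
  push_cast; ring

variable {V : Type*} [AddCommGroup V] [Module ℂ V] [FiniteDimensional ℂ V]
variable {ι : Type*} [Fintype ι] [DecidableEq ι] {W : ι → K → Module.End ℂ V}

open _root_.Classical in
/-- The slice sums of a family trivial on the trace zero parameters of a coordinate. -/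
theorem slice (h : Fam W) {ψ : AddChar K ℂ} {l : K} (C : Chr θ ψ l) (hq : Fr θ q) (e : ι) {D : ℂ}
    (h1 : ∀ t : K, t + θ t = 0 → W e t = 1)
    (hD : ∀ t : K, t + θ t ≠ 0 → LinearMap.trace ℂ V (W e t) = (Module.finrank ℂ V : ℂ) - D)
    {c : K} (hc : c ≠ 0) (hcF : θ c = c) :
    (q : ℂ) * ((∑ y ∈ Finset.univ.filter (fun y : ι → K => y e = c), h.m ψ y : ℕ) : ℂ) = D := by
  have hψ := C.ne
  have hp := AddChar.IsPrimitive.of_ne_one hψ
  obtain ⟨S0, hS0⟩ : ∃ S, S = Finset.univ.filter fun t : K => t + θ t = 0 := ⟨_, rfl⟩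
  have lhs : ∑ t : K, ψ (-(c * t)) * LinearMap.trace ℂ V (W e t) = (q : ℂ) * D := by
    have z1 : ∑ t : K, ψ (-(c * t)) = 0 := by
      rw [Finset.sum_congr rfl (g := fun t => ψ (t * -c)) fun t _ => by congr 1; ring,
        AddChar.sum_mulShift _ hp, if_neg (neg_ne_zero.2 hc), Nat.cast_zero]
    have z2 : ∀ t ∈ S0, ψ (-(c * t)) = 1 := fun t ht => by
      rw [hS0, Finset.mem_filter] at ht
      rw [← mul_neg]
      exact C.fix_T0 hcF (by rw [map_neg]; linear_combination -ht.2)
    rw [← Finset.sum_add_sum_compl S0, Finset.sum_congr rfl (g := fun _ =>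
        (Module.finrank ℂ V : ℂ)) fun t ht => by
      rw [z2 t ht, one_mul, h1 t (by rw [hS0, Finset.mem_filter] at ht; exact ht.2),
        LinearMap.trace_one],
      Finset.sum_congr rfl (s₁ := S0ᶜ) (g := fun t => ψ (-(c * t)) *
        ((Module.finrank ℂ V : ℂ) - D)) fun t ht => by
      rw [hD t (by rw [Finset.mem_compl, hS0, Finset.mem_filter] at ht
                   exact fun h0 => ht ⟨Finset.mem_univ _, h0⟩)],
      ← Finset.sum_mul]
    have z3 : ∑ t ∈ S0ᶜ, ψ (-(c * t)) = -(q : ℂ) := by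
      have := Finset.sum_add_sum_compl S0 fun t => ψ (-(c * t))
      rw [z1, Finset.sum_congr rfl z2, Finset.sum_const, hS0, hq.card_T0 C.lam, nsmul_eq_mul,
        mul_one] at this
      rw [hS0]; linear_combination this
    rw [z3, Finset.sum_const, hS0, hq.card_T0 C.lam, nsmul_eq_mul]
    ring
  rw [Finset.sum_congr rfl fun t _ => by rw [h.trace_X hψ, Finset.mul_sum], Finset.sum_comm] at lhs
  refine mul_left_cancel₀ (Nat.cast_ne_zero.2 (by have := hq.two; omega : q ≠ 0)) ?_
  rw [← lhs, ← mul_assoc, ← Nat.cast_mul, ← sq, ← hq.card, Nat.cast_sum, Finset.mul_sum,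
    Finset.sum_filter]
  refine Finset.sum_congr rfl fun y _ => ?_
  rw [Finset.sum_congr rfl (g := fun t => (h.m ψ y : ℂ) * ψ (t * (y e - c))) fun t _ => by
    rw [mul_left_comm, ← AddChar.map_add_eq_mul]; congr 2; ring,
    ← Finset.mul_sum, AddChar.sum_mulShift _ hp]
  by_cases hy : y e = c
  · rw [if_pos hy, if_pos (sub_eq_zero.2 hy), mul_comm]
  · rw [if_neg hy, if_neg (fun e' => hy (sub_eq_zero.1 e')), Nat.cast_zero, mul_zero]

end Cfsg.Agent.SimpleFacts.MinDegTw
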