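import Cfsg.Agent.SimpleFacts.MinDegTw.Top
import Cfsg.Agent.SimpleFacts.MinDegExc.Data.E6
import Cfsg.Agent.Lib.TwistMult.E6Data

/-! Generated data of the radicals used for the twisted group of type E6. -/

set_option autoImplicit false

namespace Cfsg.Agent.SimpleFacts.MinDegTw.Data

open Cfsg.Agent.SimpleFacts.MinDegExc (Sys)

/-- The system of root sums. -/
noncomputable def sys : Sys := MinDegExc.Data.tE6.sys

/-- The graph permutation. -/
def sig (r : ℕ) : ℕ := bif Nat.blt r 72 then TwistMult.E6.rho r else r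

/-- The order on the orbits. -/
def keyL : List ℕ :=
  [1800, 2001, 2202, 2403, 2604, 2403, 2606, 2807, 2808, 3009, 3210, 3011, 3212, 3413, 3614, 3815, 2604, 2807, 3018, 3009, 3220, 3421, 3210, 3421, 3624, 3825, 3212, 3427, 3628, 3829, 3413, 3628, 3832, 3614, 3829, 3815, 4236, 4237, 4438, 4239, 4440, 4641, 4237, 4440, 4644, 4845, 4246, 4447, 4648, 4849, 4648, 4851, 5052, 5053, 5254, 5455, 4236, 4438, 4641, 4845, 5060, 4849, 5052, 5263, 5254, 5465, 5666, 5455, 5666, 5869, 6070, 6271]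

/-- The first level. -/
def lv1 : TLvl where
  R := [46, 47, 48, 49, 50, 51, 52, 53, 54, 55, 61, 62, 63, 64, 65, 66, 67, 68, 69, 70]
  L := [60, 36, 38, 41, 45, 56, 57, 58, 59, 12, 27, 31, 34, 13, 28, 32, 37, 14, 29, 39, 40, 15, 42, 43, 44, 26, 30, 33, 35, 11]
  k := 9
  key x := keyL.getD x 0
  cells := [⟨46, [47, 48, 49, 51, 52, 63], [(14, 55), (14, 66), (14, 69), (29, 66), (29, 69), (37, 65), (39, 69)], [(48, [47]), (49, [47]), (52, [51])], (36, 59)⟩, 
    ⟨47, [46, 48, 49, 53, 54, 65], [(13, 55), (13, 66), (13, 70), (28, 66), (28, 70), (32, 70), (40, 63)], [(48, [53]), (49, [65]), (54, [53])], (36, 59)⟩, 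
    ⟨51, [46, 48, 52, 53, 55, 69], [(12, 54), (12, 66), (12, 70), (28, 66), (28, 70), (40, 63), (60, 47)], [(52, [69]), (55, [53])], (36, 59)⟩, 
    ⟨53, [47, 48, 51, 54, 55, 70], [(12, 52), (12, 66), (12, 69), (29, 66), (29, 69), (37, 65), (60, 46)], [(54, [70]), (55, [70])], (36, 59)⟩, 
    ⟨63, [46, 49, 52, 65, 66, 69], [(12, 54), (12, 55), (12, 70), (13, 55), (13, 70), (41, 51), (44, 47)], [(66, [65])], (0, 0)⟩, 
    ⟨65, [47, 49, 54, 63, 66, 70], [(12, 52), (12, 55), (12, 69), (14, 55), (14, 69), (38, 53), (44, 46)], [(66, [70])], (0, 0)⟩, 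
    ⟨69, [51, 52, 55, 63, 66, 70], [(13, 49), (13, 54), (13, 65), (15, 54), (15, 65), (36, 53), (39, 46)], [], (0, 0)⟩, 
    ⟨70, [53, 54, 55, 65, 66, 69], [(14, 49), (14, 52), (14, 63), (15, 52), (15, 63), (36, 51), (11, 63)], [], (0, 0)⟩]
  e0 := [(0, 40, 48, 53, [47]), (0, 41, 49, 65, [47]), (0, 45, 52, 69, [51]), (1, 45, 54, 70, [53]), (2, 41, 55, 70, [53]), (4, 40, 66, 70, [65])]

/-- The second level. -/
def lv2 : TLvl where
  R := [39, 40, 41, 43, 44, 45, 58, 59, 60]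
  L := [14, 15, 29, 33, 34, 35, 36, 37, 38, 42, 56, 57]
  k := 4
  key x := keyL.getD x 0
  cells := [⟨39, [40, 41], [(15, 45), (15, 60), (36, 44)], [], (0, 0)⟩, 
    ⟨44, [40, 45], [(14, 41), (14, 60), (38, 39)], [], (0, 0)⟩, 
    ⟨60, [41, 45], [(29, 40), (29, 44), (37, 39)], [], (0, 0)⟩]
  e0 := []

/-- The polarisation. -/
def pv : TLvl where
  R := [46, 47, 49, 52, 61, 62, 63, 65, 66, 68]
  L := [38, 41, 57, 58, 60]
  k := 0
  key x := keyL.getD x 0
  cells := []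
  e0 := []

/-- The radical with its centre. -/
def top : TTop where
  th := 71
  a := 60
  lv := lv1
  pv := pv
  rep := [46, 47, 49, 52, 63, 65, 66]
  free := [46, 47, 49, 52]
  xb := 66
  ph := (38, 58)

end Cfsg.Agent.SimpleFacts.MinDegTw.Data
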