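import Cfsg.Agent.SimpleFacts.MinDegTw.Check
import Cfsg.Agent.SimpleFacts.TwistedSubfield.Basic
import Cfsg.Agent.SimpleFacts.MinDegExc.Common
import Cfsg.Agent.Lib.TwistMult.E6Elts
import Cfsg.Agent.Lib.Chevalley.Twist.SimpleE6

/-!
The root elements of a twisted group of type E6 and the lower bound of a non-trivial representation.
-/

set_option autoImplicit false
set_option linter.unusedSectionVars false

namespace Cfsg.Agent.SimpleFacts.MinDegTw

open Cfsg.Lie Cfsg.Agent.Chevalley Cfsg.Agent.Chevalley.Table Cfsg.Agent.Chevalley.Cert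
  Cfsg.Agent.Chevalley.Group Cfsg.Agent.Chevalley.Unip Cfsg.Agent.Chevalley.Borel
  Cfsg.Agent.Chevalley.Twist Cfsg.Agent.Chevalley.Twist.E6 Cfsg.Agent.SimpleFacts.TwistedSubfield
  Cfsg.Agent.Chevalley.Weyl Cfsg.Agent.Chevalley.NormalForm Cfsg.Agent.Chevalley.FieldAut
  Cfsg.Agent.SimpleFacts.ChevalleySubfield Cfsg.Agent.SimpleFacts.SubfieldOvergroup

open Cfsg.Agent.SimpleFacts.MinDegExc (IsRG Sys gx gx_val)

variable {K : Type*} [Field K] [Fintype K] {q : ℕ} {hK : Fintype.card K = q ^ 2}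

/-- The root elements, `1` outside the roots. -/
noncomputable def rootX (K : Type*) [Field K] (r : ℕ) (t : K) : GL chevE6.Idx K :=
  (MinDegExc.gx (F := K) hC r t : GL chevE6.Idx K)

/-- The signs of the endomorphism. -/
noncomputable def eTw (X : Setup (K := K) hK) (r : ℕ) : K := if r < 72 then X.S.act r 1 else 1

theorem rootX_eq {r : ℕ} (hr : r < 72) (t : K) : rootX K r t = xg hC r t :=
  MinDegExc.gx_val hC (lt72 hr) t

theorem sig_eq {r : ℕ} (hr : r < 72) : Data.sig r = gr r := by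
  show Data.sig r = Types.GAut.tabE6.ρ r
  rw [(TwistMult.E6.rho_ok r hr).2.2.1, Data.sig, show Nat.blt r 72 = true by rw [Nat.blt_eq]; exact hr]
  rfl

theorem sig_big {r : ℕ} (hr : 72 ≤ r) : Data.sig r = r := by
  rw [Data.sig, show Nat.blt r 72 = false by rw [Bool.eq_false_iff, Ne, Nat.blt_eq]; omega]
  rfl

theorem sym_facts {r : ℕ} (hr : r < 72) : Data.sys.ng r < 72 ∧ Data.sig r < 72 ∧
    Data.sig (Data.sig r) = r ∧ Data.sys.ng (Data.sig r) = Data.sig (Data.sys.ng r) ∧
    (Data.sig r ≠ r → Data.sys.sm r (Data.sig r) = 72 ∧ Data.sig r ≠ Data.sys.ng r) ∧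
    ∀ s < 72, Data.sys.sm r s ≤ 72 ∧
      Data.sys.sm (Data.sig r) (Data.sig s) = Data.sig (Data.sys.sm r s) := by
  have h := Data.sym_ok
  simp only [Data.symChk, List.all_eq_true, List.mem_range, Bool.and_eq_true, Bool.or_eq_true,
    Bool.not_eq_true', Nat.blt_eq, Nat.ble_eq, beq_iff_eq, beq_eq_false_iff_ne] at h
  obtain ⟨h1, h2, h3, h4, h5, h6⟩ := h r hr
  exact ⟨h1, h2, h3, h4, fun hne => h5.resolve_left hne, h6⟩

theorem sys_n : Data.sys.n = 72 := rfl

theorem sm_big {r s : ℕ} (h : 72 ≤ r ∨ 72 ≤ s) : Data.sys.sm r s = 72 := by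
  show (bif Nat.blt r 72 && Nat.blt s 72 then _ else 72) = 72
  rcases h with h | h
  · rw [show Nat.blt r 72 = false by rw [Bool.eq_false_iff, Ne, Nat.blt_eq]; omega]; rfl
  · rw [show Nat.blt s 72 = false by rw [Bool.eq_false_iff, Ne, Nat.blt_eq]; omega, Bool.and_false]
    rfl

variable (X : Setup (K := K) hK) (θ : K →+* K) (hθ : ∀ t, θ t = t ^ q)

theorem eTw_eq {r : ℕ} (hr : r < 72) : eTw X r = X.S.act r 1 := if_pos hr

include hθ in
theorem act_eTw {r : ℕ} (hr : r < 72) (t : K) : X.S.act r t = eTw X r * θ t := by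
  obtain ⟨-, c, -, -, hc, -⟩ := act_facts X θ hθ r (lt72 hr)
  rw [eTw_eq X hr, hc, hc, map_one, mul_one]

include hθ in
theorem θ_eTw (r : ℕ) : θ (eTw X r) = eTw X r := by
  rw [eTw]
  split_ifs with hr
  · obtain ⟨-, c, hcf, -, hc, -⟩ := act_facts X θ hθ r (lt72 hr)
    rw [hc, map_one, mul_one, hcf]
  · exact map_one θ

include hθ in
theorem eTw_sq (r : ℕ) : eTw X r * eTw X r = 1 := by
  by_cases hr : r < 72
  swap
  · rw [eTw, if_neg hr, mul_one]
  suffices h : ∀ r < chevE6.nroots, X.S.act r 1 * X.S.act r 1 = 1 by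
    rw [eTw_eq X hr]; exact h r (lt72 hr)
  refine Root.simple_induction hC (fun i hi => ?_) fun r hr i hi ih => ?_
  · rw [X.S.act_simple i hi, map_one, mul_one]
  · have h1 := ((img_n1 X.S hi).mul (img_xg X.S hr (Data.E6.tab.eta i r : K))).mul (img_n1 X.S hi).inv
    rw [ng_conj_x hC hi hr, ng_conj_x hC (X.S.π_lt i hi) (X.S.ρ_lt r hr)] at h1
    have h2 := (img_xg X.S (hC.reflect_lt hi hr) _).unique h1
    rw [ρ_reflect X.S hi hr] at h2
    have h3 := xg_injective hC (hC.reflect_lt (X.S.π_lt i hi) (X.S.ρ_lt r hr)) h2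
    rw [Root.eta_cast_sq] at h3
    obtain ⟨-, c, -, -, hc, -⟩ := act_facts X θ hθ r hr
    rw [h3, hc, map_intCast θ, show ∀ a b : K, a * (c * b) * (a * (c * b)) = a * a * (b * b) * (c * c)
      from fun a b => by ring, Root.eta_cast_sq, Root.eta_cast_sq, one_mul, one_mul]
    rwa [hc, map_one, mul_one] at ih

include hθ in
theorem eTw_fix {r : ℕ} (hσ : Data.sig r = r) : eTw X r = 1 := by
  by_cases hr : r < 72
  · have hg : gr r = r := (sig_eq hr).symm.trans hσ
    have h := (img_fixed_iff X hr hg 1).1 ((long_iff X θ hθ hr hg 1).2 (map_one θ))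
    rw [eTw_eq X hr, h]
  · rw [eTw, if_neg hr]

include hθ in
theorem eTw_sig (r : ℕ) : eTw X (Data.sig r) = eTw X r := by
  by_cases hr : r < 72
  · obtain ⟨-, hσr, -⟩ := sym_facts hr
    obtain ⟨-, c, -, -, -, hinv⟩ := act_facts X θ hθ r (lt72 hr)
    have h := hinv 1
    rw [← sig_eq hr, act_eTw X θ hθ hσr, act_eTw X θ hθ hr, map_one, mul_one, θ_eTw X θ hθ] at h
    calc eTw X (Data.sig r) = eTw X (Data.sig r) * eTw X r * eTw X r := by
          rw [mul_assoc, eTw_sq X θ hθ, mul_one]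
      _ = eTw X r := by rw [h, one_mul]
  · rw [sig_big (not_lt.1 hr)]

theorem rg_rootX : IsRG Data.sys (List.range 72) (rootX K) := by
  have h := MinDegExc.isRG_hom (F := K) hC MinDegExc.Data.e6_link
    (Subgroup.subtype (chevE6.group K)) (P := List.range 72)
    (fun r hr => lt72 (List.mem_range.1 hr))
  exact h

include hθ in
theorem esum_tw {r s : ℕ} (hr : r < 72) (hs : s < 72) (hne : Data.sys.sm r s ≠ 72) :
    eTw X (Data.sys.sm r s) * Data.sys.sgn K r s =
      Data.sys.sgn K (Data.sig r) (Data.sig s) * eTw X r * eTw X s := by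
  obtain ⟨-, hσr, hrr, -, -, hsym⟩ := sym_facts hr
  obtain ⟨-, hσs, -⟩ := sym_facts hs
  obtain ⟨hle, hσu⟩ := hsym s hs
  obtain ⟨u, hu⟩ : ∃ u, u = Data.sys.sm r s := ⟨_, rfl⟩
  rw [← hu] at hle hσu hne ⊢
  have hu72 : u < 72 := lt_of_le_of_ne hle hne
  obtain ⟨-, hσu72, hσσu, -⟩ := sym_facts hu72
  have hne' : Data.sig u ≠ 72 := hσu72.ne
  have e1 := (rg_rootX (K := K)).conj r (List.mem_range.2 hr) s (List.mem_range.2 hs)
    (by rw [← hu]; exact hne) (by rw [← hu]; exact List.mem_range.2 hu72) 1 1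
  have e2 := (rg_rootX (K := K)).conj _ (List.mem_range.2 hσr) _ (List.mem_range.2 hσs)
    (by rw [hσu]; exact hne') (by rw [hσu]; exact List.mem_range.2 hσu72) (eTw X r) (eTw X s)
  rw [← hu] at e1
  rw [hσu] at e2
  simp only [rootX_eq hr, rootX_eq hs, rootX_eq hu72, rootX_eq hσr, rootX_eq hσs,
    rootX_eq hσu72] at e1 e2
  have i1 := (img_xg X.S (lt72 hr) (1 : K)).mul (img_xg X.S (lt72 hs) (1 : K))
  have i2 := (img_xg X.S (lt72 hu72) (Data.sys.sgn K r s * 1 * 1)).mul
    ((img_xg X.S (lt72 hs) (1 : K)).mul (img_xg X.S (lt72 hr) (1 : K)))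
  rw [← e1] at i2
  simp only [ρ_eq_gr X, ← sig_eq hr, ← sig_eq hs, ← sig_eq hu72, act_eTw X θ hθ hr,
    act_eTw X θ hθ hs, act_eTw X θ hθ hu72, map_one, mul_one] at i1 i2
  have e3 := i1.unique i2
  rw [e2] at e3
  have e4 := xg_injective hC (lt72 hσu72) (mul_right_cancel e3)
  rw [sgn_fix] at e4
  exact e4.symm

include hθ in
theorem tw_E6 : Tw Data.sys Data.sig θ (eTw X) (rootX K) where
  rg := rg_rootX
  out r t hr := by
    rw [rootX, MinDegExc.gx, dif_neg (by rw [nroots_eq]; exact not_lt.2 hr)]; rfl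
  sm_le r s := by
    by_cases h : r < 72 ∧ s < 72
    · exact ((sym_facts h.1).2.2.2.2.2 s h.2).1
    · exact (sm_big (by omega)).le
  sm_out r := sm_big (Or.inr le_rfl)
  θθ t := TwistedSubfield.theta2 θ hθ hK t
  σn r hr := sig_big hr
  σlt r hr := (sym_facts hr).2.1
  σσ r := by
    by_cases hr : r < 72
    · exact (sym_facts hr).2.2.1
    · rw [sig_big (not_lt.1 hr), sig_big (not_lt.1 hr)]
  σng r hr := (sym_facts hr).2.2.2.1
  ng_lt r hr := (sym_facts hr).1
  σsm r s hr hs := ((sym_facts hr).2.2.2.2.2 s hs).2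
  ee := eTw_sq X θ hθ
  θe := θ_eTw X θ hθ
  eσ := eTw_sig X θ hθ
  efix r h := eTw_fix X θ hθ h
  esum r s hr hs h := esum_tw X θ hθ hr hs h
  orth r hr h := (sym_facts hr).2.2.2.2.1 h

include hθ in
theorem zel_mem (r : ℕ) (t : K) : zel Data.sig θ (eTw X) (rootX K) r t ∈ twistedE6 K q := by
  have T := tw_E6 X θ hθ
  by_cases hr : r < 72
  swap
  · rw [T.zel_out r t (not_lt.1 hr)]; exact one_mem _
  have hn := Data.noComm_ok
  simp only [List.all_eq_true, List.mem_range, Bool.or_eq_true, beq_iff_eq] at hn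
  have hm := TwistMult.E6.oel_mem X hr (fun h => (hn r hr).resolve_left h) t
  have hσ : Data.sig r = TwistMult.E6.rho r := by
    rw [sig_eq hr]; exact (TwistMult.E6.rho_ok r hr).2.2.1
  have hσr := (sym_facts hr).2.1
  rw [zel, rootX_eq hr, rootX_eq hσr, pr, ← act_eTw X θ hθ hr, hσ]
  rw [TwistMult.E6.oel] at hm
  split at hm
  · next h => rw [h, ← xg_add hC]; exact hm
  · exact hm

include X hθ in
/-- A non-trivial representation is large or bounded below by the levels. -/
theorem twisted_lower (hq : IsPrimePow q) (k : ℕ)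
    (ρ : Representation ℂ (twistedE6 K q) (Fin k → ℂ)) (hρ : ρ.IsIrreducible) (hk : 2 ≤ k) :
    2 * (q - 1) * (q + 1) * q ^ 10 ≤ q * k ∨
      (q - 1) * (2 + q + q ^ 2 + q ^ 3 + 2 * q ^ 4 + q ^ 5 + q ^ 6 + q ^ 8 + q ^ 9 + q ^ 10) ≤ k := by
  classical
  have T := tw_E6 X θ hθ
  have fr : Fr θ q := ⟨hq.two_le, hK, hθ⟩
  obtain ⟨ψ, l, hc⟩ := exists_chr fr
  obtain ⟨hsteps, hpairs, hlong1, hlong2⟩ : _ ∧ _ ∧ _ ∧ _ := by
    have h := Data.steps_ok
    simp only [Bool.and_eq_true, List.all_eq_true, List.mem_filter, and_imp, beq_iff_eq,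
      List.contains_iff_mem, decide_eq_true_eq] at h
    exact h
  have hstep : ∀ u v r, (u, v, r) ∈ ([(71, 46, 1), (71, 47, 2), (71, 51, 6), (71, 53, 8),
      (71, 63, 18), (71, 65, 20), (71, 69, 24), (71, 70, 25), (63, 60, 25)] : List (ℕ × ℕ × ℕ)) →
      Conn θ (rootX K) (twistedE6 K q) u v := fun u v r hm => by
    obtain ⟨h1, h2⟩ := hsteps _ hm
    exact T.conn_fixed h1 h2 hc.lam fun x _ t => zel_mem X θ hθ x t
  have Z : TopCtx Data.sys Data.sig θ (eTw X) q (rootX K) (twistedE6 K q) ψ l Data.top := by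
    refine ⟨T, fr, hc, Data.z_chk, Data.p_chk, zel_mem X θ hθ, fun u hu => ?_, fun b hb => ?_⟩
    · have hu' : rootX K 71 u ∈ twistedE6 K q := hu
      rw [rootX_eq (by norm_num)] at hu'
      exact (long_iff X θ hθ (by norm_num) (by decide +kernel) u).1 hu'
    · rcases hb with ⟨hb1, hb2⟩ | rfl
      · have := hlong1 b hb1 hb2
        simp only [List.mem_cons, List.not_mem_nil, or_false] at this
        rcases this with rfl | rfl | rfl | rfl | rfl | rfl | rfl | rfl
        exacts [hstep 71 46 1 (by simp), hstep 71 47 2 (by simp), hstep 71 51 6 (by simp),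
          hstep 71 53 8 (by simp), hstep 71 63 18 (by simp), hstep 71 65 20 (by simp),
          hstep 71 69 24 (by simp), hstep 71 70 25 (by simp)]
      · exact (hstep 71 63 18 (by simp)).trans fr (hstep 63 60 25 (by simp))
  have L1 : LvlOK Data.sys Data.sig Data.top := by
    refine ⟨Data.lv1_chk, List.all_eq_true.1 Data.lv1_up, Data.lv1_e0, Data.lv1_act, fun c hc hm => ?_,
      ⟨46, by decide, by decide⟩, Data.rep_wt.1⟩
    have h := Data.lv1_ph
    simp only [List.all_eq_true, Bool.or_eq_true, Bool.and_eq_true, Bool.not_eq_true',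
      beq_eq_false_iff_ne] at h
    exact (h c hc).resolve_left (fun h' => by rw [show Data.lv1.moved Data.sys 60 c.e = _ from hm] at h'; exact Bool.false_ne_true h')
  have L2 : LowOK Data.sys Data.sig θ (eTw X) (rootX K) Data.top Data.lv2 := by
    have h := Data.lv2_rest
    simp only [List.all_eq_true, Bool.or_eq_true, Bool.and_eq_true, Nat.blt_eq,
      List.contains_iff_mem] at h
    refine ⟨Data.lv2_chk, h.1, h.2.1, h.2.2, fun b hb1 hb2 => ?_⟩
    have := hlong2 b hb1 hb2
    have hpair : ∀ v r m, (v, r, m) ∈ ([(39, 14, 41), (44, 15, 45)] : List (ℕ × ℕ × ℕ)) →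
        Conn θ (rootX K) (Hgen Data.sig θ (eTw X) (rootX K) Data.top.lv.L) Data.top.a v := by
      intro v r m hm
      obtain ⟨h1, h2, h3, h4⟩ := hpairs _ hm
      have h1' := h1
      simp only [adj2, Bool.and_eq_true] at h1'
      refine T.conn_pair fr h1 (by decide) (T.e_ng h1'.1 h2) fun x hx t => ?_
      rcases hx with rfl | rfl
      exacts [zel_mem_Hgen h3 t, zel_mem_Hgen h4 t]
    simp only [List.mem_cons, List.not_mem_nil, or_false] at this
    rcases this with rfl | rfl | rfl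
    · exact hpair 39 14 41 (by simp)
    · exact hpair 44 15 45 (by simp)
    · exact Conn.trans fr (hpair 39 14 41 (by simp)) (hpair 39 14 41 (by simp)).symm
  have hsimp := (E6.isSimple X hq).1
  have hinj : Function.Injective (ρ : twistedE6 K q →* Module.End ℂ (Fin k → ℂ)) := by
    obtain ⟨g, hg⟩ := MinDegExc.exists_ne_one ρ hρ hk
    have hker : (MonoidHom.toHomUnits (ρ : twistedE6 K q →* Module.End ℂ (Fin k → ℂ))).ker = ⊥ :=
      (MonoidHom.normal_ker _).eq_bot_or_eq_top.resolve_right fun htop => hg (by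
        have h1 : g ∈ (MonoidHom.toHomUnits (ρ : twistedE6 K q →* Module.End ℂ (Fin k → ℂ))).ker := by
          rw [htop]; exact Subgroup.mem_top g
        exact congrArg Units.val (MonoidHom.mem_ker.1 h1))
    exact fun a b hab => (MonoidHom.ker_eq_bot_iff _).1 hker (Units.ext hab)
  have hne : ∃ t, Wof Data.sig θ (eTw X) (rootX K)
      (ρ : twistedE6 K q →* Module.End ℂ (Fin k → ℂ)) Data.top.th t ≠ 1 := by
    refine ⟨l, fun h => ?_⟩
    rw [Wof_eq _ (zel_mem X θ hθ _ l)] at h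
    have h1 := congrArg Subtype.val (hinj (h.trans (map_one _).symm))
    have h2 : zel Data.sig θ (eTw X) (rootX K) 71 l = 1 := h1
    rw [T.zel_fix (by decide), hc.lam, rootX_eq (by norm_num), ← xg_zero (F := K) hC 71] at h2
    exact one_ne_zero (xg_injective hC (lt72 (by norm_num)) h2)
  have hcnt : ∀ lv : TLvl, lv.cnt Data.sig q =
      (q - 1) * ((lv.cells.map fun c => weight Data.sig (lv.low c)).map (q ^ ·)).sum := fun lv => by
    rw [TLvl.cnt, List.map_map]; rfl
  have hfix : Data.top.lv.fixCnt Data.sys Data.sig Data.top.a q = (q - 1) *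
      ((Data.lv1.cells.map fun c => (Data.lv1.moved Data.sys 60 c.e, weight Data.sig (Data.lv1.low c))).map
        fun p => if p.1 then 0 else q ^ p.2).sum := by
    rw [TLvl.fixCnt, List.map_map]; rfl
  have hc1 : Data.top.lv.cnt Data.sig q =
      (q - 1) * (1 + q + q ^ 3 + q ^ 4 + q ^ 5 + q ^ 6 + q ^ 8 + q ^ 9) := by
    have h : Data.lv1.cells.map (fun c => weight Data.sig (Data.lv1.low c)) =
        [0, 1, 3, 4, 5, 6, 8, 9] := by
      have := congrArg (List.map Prod.snd) Data.lv1_exps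
      rw [List.map_map] at this
      exact this
    show Data.lv1.cnt Data.sig q = _
    rw [hcnt, h]
    simp only [List.map_cons, List.map_nil, List.sum_cons, List.sum_nil]
    ring
  have hf1 : Data.top.lv.fixCnt Data.sys Data.sig Data.top.a q =
      (q - 1) * (1 + q + q ^ 3 + q ^ 4) := by
    rw [hfix, Data.lv1_exps]
    simp only [List.map_cons, List.map_nil, List.sum_cons, List.sum_nil]
    norm_num
    left
    ring
  have num : (q : ℂ) ^ (Data.top.lv.k + 1) -
      ((q : ℂ) - 1) * (q : ℂ) ^ (weight Data.sig (Data.top.rep.filter fun b => Data.top.free.contains b) + 1) -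
      (Data.top.lv.cnt Data.sig q : ℂ) + (Data.top.lv.fixCnt Data.sys Data.sig Data.top.a q : ℂ) =
        (q : ℂ) ^ (Data.lv2.k + 1) := by
    rw [Data.rep_wt.2, hc1, hf1, show Data.top.lv.k = 9 from rfl, show Data.lv2.k = 4 from rfl]
    push_cast [Nat.cast_sub (show 1 ≤ q from hq.one_lt.le)]
    ring
  have h := Z.main (ρ := (ρ : twistedE6 K q →* Module.End ℂ (Fin k → ℂ))) L1 L2 hne num
  rw [Module.finrank_fintype_fun_eq_card, Fintype.card_fin, show Data.top.lv.k = 9 from rfl] at h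
  rcases h with h | h
  · exact Or.inl h
  · right
    refine le_trans (le_of_eq ?_) h
    rw [hc1, hcnt, Data.lv2_exps]
    simp only [List.map_cons, List.map_nil, List.sum_cons, List.sum_nil]
    ring

end Cfsg.Agent.SimpleFacts.MinDegTw
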