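import Cfsg.Agent.SimpleFacts.MinDegTw.GRoot

/-!
Identities between the fixed products: conjugations, commutators and a root with three factors.
-/

set_option autoImplicit false
set_option linter.unusedSectionVars false

namespace Cfsg.Agent.SimpleFacts.MinDegTw

open Cfsg.Agent.SimpleFacts.MinDegExc (Sys IsRG)

variable {K : Type*} [Field K] {G : Type*} [Group G]
variable {S : Sys} {σ : ℕ → ℕ} {θ : K →+* K} {e : ℕ → K} {X : ℕ → K → G}

/-- No sum of the two roots. -/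
def cm (S : Sys) (r s : ℕ) : Bool :=
  Nat.blt r S.n && (Nat.blt s S.n && ((S.sm r s == S.n) && !(s == S.ng r)))

/-- No sum of members of the two orbits. -/
def cmz (S : Sys) (σ : ℕ → ℕ) (r s : ℕ) : Bool :=
  cm S r s && (cm S r (σ s) && (cm S (σ r) s && cm S (σ r) (σ s)))

/-- The root `v = r + u`, with `u` and `v` conjugate along `r`. -/
def adj1 (S : Sys) (r u v : ℕ) : Bool :=
  Nat.blt r S.n && (Nat.blt u S.n && (Nat.blt v S.n && ((S.sm r u == v) && ((S.sm (S.ng r) v == u) &&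
    ((S.sg r u == S.sg (S.ng r) v) && (cm S (S.ng r) u && cm S v u))))))

/-- Conjugate along the orbit of `r` through `m`. -/
def adj2 (S : Sys) (σ : ℕ → ℕ) (r u m v : ℕ) : Bool :=
  adj1 S r u m && (adj1 S (σ r) m v && (cm S (S.ng r) (σ r) && cm S (S.ng r) (S.ng (σ r))))

/-- Two orbits pairing to a fixed root. -/
def pairsTo (S : Sys) (σ : ℕ → ℕ) (p b u : ℕ) : Bool :=
  Nat.blt p S.n && (Nat.blt b S.n && ((σ u == u) && (Nat.blt u S.n && ((S.sm p b == u) &&
    (if σ b == b then σ p == p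
    else ((S.sm (σ p) (σ b) == u) && (cm S p (σ b) && (cm S (σ p) b &&
      (cm S p u && cm S (σ p) u))))) && (cm S b u && cm S (σ b) u)))))

/-- The fixed root `a` moves the orbit of `B` to that of `A`, and `A`, `σ B` pair to `th`. -/
def threeChk (S : Sys) (σ : ℕ → ℕ) (a B A th : ℕ) : Bool :=
  Nat.blt a S.n && (Nat.blt B S.n && (Nat.blt A S.n && (Nat.blt th S.n && ((σ a == a) &&
    ((σ th == th) && ((S.sm a B == A) && ((S.sm a (σ B) == σ A) && ((S.sm A (σ B) == th) &&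
    (cm S A B && (cm S (σ A) (σ B) && (cm S th B && (cm S th (σ B) && cm S th (σ A)))))))))))))

theorem cm_iff {r s : ℕ} : cm S r s = true ↔ r < S.n ∧ s < S.n ∧ S.sm r s = S.n ∧ s ≠ S.ng r := by
  simp [cm, Nat.blt_eq, beq_eq_false_iff_ne]

namespace Tw

variable (T : Tw S σ θ e X)
include T

theorem comm_cm {r s : ℕ} (h : cm S r s = true) (t u : K) : Commute (X r t) (X s u) := by
  obtain ⟨h1, h2, h3, h4⟩ := cm_iff.1 h
  exact T.comm h1 h2 h4 h3 t u

theorem comm_zel {r s : ℕ} (h : cmz S σ r s = true) (t u : K) :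
    Commute (zel σ θ e X r t) (zel σ θ e X s u) := by
  simp only [cmz, Bool.and_eq_true] at h
  obtain ⟨h1, h2, h3, h4⟩ := h
  exact ((T.comm_cm h1 _ _).mul_left (T.comm_cm h3 _ _)).mul_right
    ((T.comm_cm h2 _ _).mul_left (T.comm_cm h4 _ _))

theorem conj1 {r u v : ℕ} (h : adj1 S r u v = true) (t a : K) :
    X r t * X u a = X v (S.sgn K r u * t * a) * (X u a * X r t) := by
  simp only [adj1, Bool.and_eq_true, Nat.blt_eq, beq_iff_eq] at h
  obtain ⟨hr, hu, hv, h1, -, -, -, -⟩ := h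
  have := T.rg.conj r (List.mem_range.2 hr) u (List.mem_range.2 hu) (by rw [h1]; exact hv.ne)
    (by rw [h1]; exact List.mem_range.2 hv) t a
  rwa [h1] at this

/-- Conjugation along a root. -/
theorem adj_conj {r u v : ℕ} (h : adj1 S r u v = true) {t a : K} (ht : t ≠ 0) :
    X (S.ng r) (-t⁻¹) * X r t * X u a =
      X v (S.sgn K r u * t * a) * (X (S.ng r) (-t⁻¹) * X r t) := by
  have h0 := h
  simp only [adj1, Bool.and_eq_true, Nat.blt_eq, beq_iff_eq] at h
  obtain ⟨hr, hu, hv, h1, h2, h3, h4, h5⟩ := h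
  have e1 := T.conj1 h0 t a
  have e2 : X (S.ng r) (-t⁻¹) * X v (S.sgn K r u * t * a) =
      X u (-a) * (X v (S.sgn K r u * t * a) * X (S.ng r) (-t⁻¹)) := by
    have := T.rg.conj (S.ng r) (List.mem_range.2 (T.ng_lt r hr)) v (List.mem_range.2 hv)
      (by rw [h2]; exact hu.ne) (by rw [h2]; exact List.mem_range.2 hu) (-t⁻¹) (S.sgn K r u * t * a)
    rw [h2, show S.sgn K (S.ng r) v = S.sgn K r u by simp [Sys.sgn, h3]] at this
    rw [this]
    congr 2
    have hNN := S.sgn_sq (F := K) r u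
    field_simp
    linear_combination (-a) * hNN
  rw [mul_assoc, e1, ← mul_assoc (X (S.ng r) _), e2]
  simp only [mul_assoc]
  rw [← mul_assoc (X (S.ng r) (-t⁻¹)) (X u a), (T.comm_cm h4 _ _).eq, mul_assoc (X u a),
    ← mul_assoc (X v _) (X u a), (T.comm_cm h5 _ _).eq, mul_assoc (X u a), ← mul_assoc (X u (-a)),
    ← T.add, neg_add_cancel, T.zero, one_mul]

/-- A conjugating element for a fixed root `r`. -/
theorem adj_fixed {r u v : ℕ} (h : adj1 S r u v = true) (hσ : σ r = r) {l : K} (hl : l + θ l = 1)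
    {a b : K} (ha : θ a = a) (hb : θ b = b) (ha0 : a ≠ 0) (hb0 : b ≠ 0) :
    ∃ s t, zel σ θ e X (S.ng r) s * zel σ θ e X r t * X u a =
      X v b * (zel σ θ e X (S.ng r) s * zel σ θ e X r t) := by
  have hr : r < S.n := by simp only [adj1, Bool.and_eq_true, Nat.blt_eq] at h; exact h.1
  obtain ⟨t, ht⟩ : ∃ t, t = b / (S.sgn K r u * a) := ⟨_, rfl⟩
  have ht0 : t ≠ 0 := by rw [ht]; exact div_ne_zero hb0 (mul_ne_zero (S.sgn_ne r u) ha0)
  have htf : θ t = t := by rw [ht, map_div₀, map_mul, sgn_fix, ha, hb]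
  have hσn : σ (S.ng r) = S.ng r := by rw [← T.σng r hr, hσ]
  refine ⟨-t⁻¹ * l, t * l, ?_⟩
  have hfix : ∀ x : ℕ, σ x = x → ∀ c : K, θ c = c → zel σ θ e X x (c * l) = X x c := fun x hx c hc => by
    rw [T.zel_fix hx, map_mul, hc, ← mul_add, hl, mul_one]
  rw [hfix _ hσn _ (by rw [map_neg, map_inv₀, htf]), hfix _ hσ _ htf, T.adj_conj h ht0]
  congr 2
  have hne := mul_ne_zero (S.sgn_ne (F := K) r u) ha0
  rw [mul_right_comm, ht, mul_div_cancel₀ _ hne]

/-- A conjugating element for an orbit. -/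
theorem adj_pair {r u m v : ℕ} (h : adj2 S σ r u m v = true) (hu : σ u = u)
    (heng : e (S.ng r) = e r) {a b : K} (ha0 : a ≠ 0) (hb0 : b ≠ 0)
    (hnorm : ∃ t, S.sgn K (σ r) m * S.sgn K r u * e r * (t * θ t) * a = b) :
    ∃ s t, zel σ θ e X (S.ng r) s * zel σ θ e X r t * X u a =
      X v b * (zel σ θ e X (S.ng r) s * zel σ θ e X r t) := by
  simp only [adj2, Bool.and_eq_true] at h
  obtain ⟨h1, h2, h3, h4⟩ := h
  have hr : r < S.n := by simp only [adj1, Bool.and_eq_true, Nat.blt_eq] at h1; exact h1.1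
  obtain ⟨t, ht⟩ := hnorm
  have ht0 : t ≠ 0 := by rintro rfl; simp [hb0.symm] at ht
  have ht' : pr θ e r t ≠ 0 := mul_ne_zero
    (fun h => by have := T.ee r; rw [h, mul_zero] at this; exact zero_ne_one this)
    ((map_ne_zero θ).2 ht0)
  refine ⟨-t⁻¹, t, ?_⟩
  have e1 : zel σ θ e X (S.ng r) (-t⁻¹) * zel σ θ e X r t =
      X (S.ng (σ r)) (-(pr θ e r t)⁻¹) * X (σ r) (pr θ e r t) * (X (S.ng r) (-t⁻¹) * X r t) := by
    have hp : pr θ e (S.ng r) (-t⁻¹) = -(pr θ e r t)⁻¹ := by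
      have hinv : (e r)⁻¹ = e r := inv_eq_of_mul_eq_one_right (T.ee r)
      rw [pr, pr, heng, map_neg, map_inv₀, mul_inv, hinv, mul_neg]
    rw [zel, zel, hp, ← T.σng r hr]
    obtain ⟨P, hP⟩ : ∃ P, P = -(pr θ e r t)⁻¹ := ⟨_, rfl⟩
    rw [← hP]
    have c1 : Commute (X (S.ng r) (-t⁻¹)) (X (S.ng (σ r)) P * X (σ r) (pr θ e r t)) :=
      (T.comm_cm h4 _ _).mul_right (T.comm_cm h3 _ _)
    rw [(T.pairComm r t (pr θ e r t)).eq, mul_assoc, ← mul_assoc (X (S.ng (σ r)) P),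
      ← mul_assoc (X (S.ng r) _), c1.eq, mul_assoc]
  rw [e1, mul_assoc, T.adj_conj h1 ht0, ← mul_assoc, T.adj_conj h2 ht', mul_assoc, ← ht]
  congr 2
  simp only [pr]
  ring

/-- The signs of opposite roots. -/
theorem e_ng {r u m : ℕ} (h : adj1 S r u m = true)
    (hsg : S.sg (σ r) (σ u) = S.sg (S.ng (σ r)) (σ m)) : e (S.ng r) = e r := by
  simp only [adj1, Bool.and_eq_true, Nat.blt_eq, beq_iff_eq] at h
  obtain ⟨hr, hu, hm, h1, h2, h3, -, -⟩ := h
  have q1 := T.esum r u hr hu (by rw [h1]; exact hm.ne)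
  have q2 := T.esum (S.ng r) m (T.ng_lt r hr) hm (by rw [h2]; exact hu.ne)
  rw [h1] at q1
  rw [h2, show S.sgn K (S.ng r) m = S.sgn K r u by simp [Sys.sgn, h3], ← T.σng r hr,
    show S.sgn K (S.ng (σ r)) (σ m) = S.sgn K (σ r) (σ u) by simp [Sys.sgn, hsg]] at q2
  obtain ⟨A, hA⟩ : ∃ A, A = S.sgn K r u := ⟨_, rfl⟩
  obtain ⟨B, hB⟩ : ∃ B, B = S.sgn K (σ r) (σ u) := ⟨_, rfl⟩
  rw [← hA, ← hB] at q1 q2
  have hAA : A * A = 1 := hA ▸ S.sgn_sq r u
  have hBB : B * B = 1 := hB ▸ S.sgn_sq _ _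
  linear_combination (B * e u) * q1 - (B * e m) * q2 + (e r * e u * e u) * hBB + e r * T.ee u
    - (e (S.ng r) * e m * e m) * hBB - e (S.ng r) * T.ee m

/-- The commutator of two orbits pairing to a fixed root. -/
theorem pair_rel {p b u : ℕ} (h : pairsTo S σ p b u = true) (s t : K) :
    zel σ θ e X p s * zel σ θ e X b t =
      zel σ θ e X u (S.sgn K p b * s * (if σ b = b then t + θ t else t)) *
        (zel σ θ e X b t * zel σ θ e X p s) := by
  simp only [pairsTo, Bool.and_eq_true, Nat.blt_eq, beq_iff_eq] at h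
  obtain ⟨hp, hb, hu, hun, ⟨h1, h2⟩, h3, h4⟩ := h
  have cj : ∀ {x y : ℕ} (_ : x < S.n) (_ : y < S.n) (_ : S.sm x y = u) (a c : K),
      X x a * X y c = X u (S.sgn K x y * a * c) * (X y c * X x a) := fun {x y} hx hy he a c => by
    have := T.rg.conj x (List.mem_range.2 hx) y (List.mem_range.2 hy) (by rw [he]; exact hun.ne)
      (by rw [he]; exact List.mem_range.2 hun) a c
    rwa [he] at this
  by_cases hσ : σ b = b
  · rw [if_pos (by simpa using hσ)] at h2
    rw [if_pos hσ, T.zel_fix (by simpa using h2), T.zel_fix hσ, T.zel_fix hu, cj hp hb h1]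
    congr 2
    simp only [map_mul, map_add, sgn_fix, T.θθ]
    ring
  · rw [if_neg (by simpa using hσ)] at h2
    simp only [Bool.and_eq_true, beq_iff_eq] at h2
    obtain ⟨k1, k2, k3, k4, k5⟩ := h2
    rw [if_neg hσ, T.zel_fix hu]
    obtain ⟨s', hs⟩ : ∃ s', s' = pr θ e p s := ⟨_, rfl⟩
    obtain ⟨t', ht⟩ : ∃ t', t' = pr θ e b t := ⟨_, rfl⟩
    have hN : S.sgn K (σ p) (σ b) * s' * t' = θ (S.sgn K p b * s * t) := by
      have q1 := T.esum p b hp hb (by rw [h1]; exact hun.ne)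
      rw [h1, T.efix u hu, one_mul] at q1
      simp only [hs, ht, pr, map_mul, sgn_fix]
      linear_combination (-(θ s * θ t)) * q1
    show X p s * X (σ p) (pr θ e p s) * (X b t * X (σ b) (pr θ e b t)) = _
    rw [zel, zel, ← hs, ← ht, mul_assoc (X p s), ← mul_assoc (X (σ p) s'), (T.comm_cm k3 _ _).eq,
      mul_assoc (X b t), cj (T.σlt p hp) (T.σlt b hb) k1, hN, ← mul_assoc (X b t),
      (T.comm_cm h3 _ _).eq, mul_assoc (X u _), ← mul_assoc (X p s), (T.comm_cm k4 _ _).eq,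
      mul_assoc (X u _), ← mul_assoc (X p s), cj hp hb h1]
    obtain ⟨c, hc⟩ : ∃ c, c = S.sgn K p b * s * t := ⟨_, rfl⟩
    rw [← hc]
    obtain ⟨d, hd⟩ : ∃ d, d = θ c := ⟨_, rfl⟩
    rw [← hd]
    simp only [mul_assoc]
    rw [← mul_assoc (X p s) (X (σ b) t'), (T.comm_cm k2 _ _).eq, T.add]
    simp only [mul_assoc]
    rw [← mul_assoc (X u d), (T.commute_self u _ _).eq]
    simp only [mul_assoc]

/-- A fixed root as a commutator. -/
theorem phase_rel {r s a : ℕ} (h : pairsTo S σ r s a = true) (hσs : σ s ≠ s) (t : K) :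
    zel σ θ e X r 1 * zel σ θ e X s (S.sgn K r s * t) =
      zel σ θ e X a t * (zel σ θ e X s (S.sgn K r s * t) * zel σ θ e X r 1) := by
  have := T.pair_rel h 1 (S.sgn K r s * t)
  rwa [if_neg hσs, show S.sgn K r s * 1 * (S.sgn K r s * t) = t by
    rw [mul_one, ← mul_assoc, S.sgn_sq, one_mul]] at this

/-- The fixed root `a` and the orbit of `B`. -/
theorem three_rel {a B A th : ℕ} (h : threeChk S σ a B A th = true) (u s : K) :
    zel σ θ e X a u * zel σ θ e X B s =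
      X th (S.sgn K A (σ B) * S.sgn K a B * (u + θ u) * e B * (s * θ s)) *
        (zel σ θ e X B s * (zel σ θ e X A (S.sgn K a B * (u + θ u) * s) * zel σ θ e X a u)) := by
  simp only [threeChk, Bool.and_eq_true, Nat.blt_eq, beq_iff_eq] at h
  obtain ⟨ha, hB, hA, hth, hσa, -, h1, h2, h3, c1, c2, c3, c4, c5⟩ := h
  have hσB := T.σlt B hB
  have hσA := T.σlt A hA
  obtain ⟨k, hk⟩ : ∃ k, k = S.sgn K a B * (u + θ u) * s := ⟨_, rfl⟩
  have hk' : S.sgn K a (σ B) * (u + θ u) * pr θ e B s = pr θ e A k := by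
    have q1 := T.esum a B ha hB (by rw [h1]; exact hA.ne)
    rw [h1, T.efix a hσa, hσa, mul_one] at q1
    simp only [hk, pr, map_mul, map_add, sgn_fix, T.θθ]
    linear_combination (-((u + θ u) * θ s)) * q1
  have cj : ∀ {x y z : ℕ} (_ : x < S.n) (_ : y < S.n) (_ : S.sm x y = z) (_ : z < S.n) (a c : K),
      X x a * X y c = X z (S.sgn K x y * a * c) * (X y c * X x a) := fun {x y z} hx hy he hz a c => by
    have := T.rg.conj x (List.mem_range.2 hx) y (List.mem_range.2 hy) (by rw [he]; exact hz.ne)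
      (by rw [he]; exact List.mem_range.2 hz) a c
    rwa [he] at this
  rw [T.zel_fix hσa, show zel σ θ e X B s = X B s * X (σ B) (pr θ e B s) from rfl, ← hk]
  have hv : S.sgn K A (σ B) * S.sgn K a B * (u + θ u) * e B * (s * θ s) =
      S.sgn K A (σ B) * k * pr θ e B s := by rw [hk, pr]; ring
  rw [hv, ← mul_assoc, cj ha hB h1 hA, ← hk, mul_assoc, mul_assoc, cj ha hσB h2 hσA, hk',
    show zel σ θ e X A k = X A k * X (σ A) (pr θ e A k) from rfl]
  obtain ⟨k', hk2⟩ : ∃ k', k' = pr θ e A k := ⟨_, rfl⟩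
  obtain ⟨s', hs'⟩ : ∃ s', s' = pr θ e B s := ⟨_, rfl⟩
  rw [← hk2, ← hs']
  simp only [mul_assoc]
  rw [← mul_assoc (X A k) (X B s), (T.comm_cm c1 _ _).eq, mul_assoc (X B s),
    ← mul_assoc (X (σ A) k') (X (σ B) s'), (T.comm_cm c2 _ _).eq, mul_assoc (X (σ B) s'),
    ← mul_assoc (X A k) (X (σ B) s'), cj hA hσB h3 hth, mul_assoc (X th _),
    mul_assoc (X (σ B) s'), ← mul_assoc (X B s) (X th _), ← (T.comm_cm c3 _ _).eq, mul_assoc (X th _)]
  simp only [mul_assoc]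

end Tw

end Cfsg.Agent.SimpleFacts.MinDegTw
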