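import Cfsg.Agent.SimpleFacts.MinDegExc.Sys

/-!
The combinatorial conditions on a radical with an involution, as Boolean checks.
-/

set_option autoImplicit false

namespace Cfsg.Agent.SimpleFacts.MinDegTw

open Cfsg.Agent.SimpleFacts.MinDegExc (Sys)

/-- A fixed root of the radical with the data of its cell: the representatives of the coordinates
cleared at `e`, a killing sequence of moves, the witnesses forcing upper coordinates to vanish, and
two roots with sum `a`. -/
structure Cell where
  e : ℕ
  v1 : List ℕ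
  kill : List (ℕ × ℕ)
  frc : List (ℕ × List ℕ)
  ph : ℕ × ℕ

/-- A radical with a complement. -/
structure TLvl where
  R : List ℕ
  L : List ℕ
  k : ℕ
  key : ℕ → ℕ
  cells : List Cell
  e0 : List (ℕ × ℕ × ℕ × ℕ × List ℕ)

variable (S : Sys) (σ : ℕ → ℕ) (lv : TLvl)

/-- In the radical. -/
def TLvl.inR (x : ℕ) : Bool := lv.R.contains x

/-- The three targets of the move of `r` at `x`. -/
def tgs (r x : ℕ) : List ℕ := [S.sm r x, S.sm (σ r) x, S.sm (σ r) (S.sm r x)]

/-- No target at `x` in the radical. -/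
def TLvl.free (r x : ℕ) : Bool := (tgs S σ r x).all fun t => !lv.inR t

/-- In the radical or absent. -/
def TLvl.rn (x : ℕ) : Bool := x == S.n || lv.inR x

/-- The conditions on a move and a coordinate. -/
def TLvl.stab (r b : ℕ) : Bool :=
  !(b == S.ng r) && (!(b == S.ng (σ r)) && (!(S.sm r b == S.ng (σ r)) &&
    ((tgs S σ r b).all (fun t => lv.rn S t) && (!lv.inR (S.sm r (S.sm r b)) &&
    ((S.sm (σ r) (S.sm r b) == S.sm r (S.sm (σ r) b)) &&
    (!lv.inR (S.sm (σ r) (S.sm r b)) ||
      (Bool.xor (S.sg r b) (S.sg (σ r) (S.sm r b)) ==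
        Bool.xor (S.sg (σ r) b) (S.sg r (S.sm (σ r) b)))))))))

/-- The radical and its complement. -/
def TLvl.baseChk : Bool :=
  (lv.R.all fun x => Nat.blt x S.n && (lv.inR (σ x) && (σ (σ x) == x && lv.key (σ x) == lv.key x))) &&
  ((lv.L.all fun r => Nat.blt r S.n && lv.L.contains (σ r)) &&
  lv.L.all fun r => lv.R.all fun b => lv.stab S σ r b)

/-- The root moving `b` to `e`. -/
def rb (e b : ℕ) : ℕ := S.sm e (S.ng b)

/-- The conditions of one clearing move. -/
def TLvl.isoChk (c : Cell) : Bool :=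
  c.v1.all fun b => lv.inR b && (!(b == c.e) && (lv.L.contains (rb S c.e b) &&
    (lv.free S σ (rb S c.e b) c.e && ((S.sm (rb S c.e b) b == c.e) &&
    ((if σ b == b then σ (rb S c.e b) == rb S c.e b
      else !lv.inR (S.sm (σ (rb S c.e b)) b)) &&
    (!lv.inR (S.sm (σ (rb S c.e b)) (S.sm (rb S c.e b) b)) &&
    c.v1.all fun b' => b' == b ||
      (!(b' == σ b) && (lv.free S σ (rb S c.e b) b' && lv.free S σ (rb S c.e b) (σ b')))))))))

/-- The weight of a list of representatives. -/
def weight (l : List ℕ) : ℕ := (l.map fun b => if σ b == b then 1 else 2).sum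

/-- The known zero coordinates after the killing steps. -/
def TLvl.killSet (c : Cell) : List (ℕ × ℕ) → List ℕ → List ℕ
  | [], Z => Z
  | (r, β) :: l, Z => TLvl.killSet c l (tgs S σ r β ++ (tgs S σ r β).map σ ++ Z)

/-- The killing steps are legitimate. -/
def TLvl.killOK (c : Cell) : List (ℕ × ℕ) → List ℕ → Bool
  | [], _ => true
  | (r, β) :: l, Z =>
    (lv.L.contains r && (lv.inR β &&
      (((c.e :: c.v1).all fun b => (tgs S σ r b).all fun t => !lv.inR t || Z.contains t) &&
      (if σ r == r then !lv.inR (S.sm (σ r) (S.sm r β))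
        else !(S.sm r β == S.sm (σ r) β) || !lv.inR (S.sm r β))))) &&
    TLvl.killOK c l (tgs S σ r β ++ (tgs S σ r β).map σ ++ Z)

/-- All coordinates are killed. -/
def TLvl.killChk (c : Cell) : Bool :=
  lv.killOK S σ c c.kill (c.v1 ++ c.v1.map σ) &&
    lv.R.all fun x => x == c.e || (TLvl.killSet S σ c c.kill (c.v1 ++ c.v1.map σ)).contains x

/-- The representatives below `e`. -/
def TLvl.low (c : Cell) : List ℕ := c.v1.filter fun b => Nat.blt (lv.key b) (lv.key c.e)

/-- The moves below `e` raise. -/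
def TLvl.raiseChk (c : Cell) : Bool :=
  (lv.low c).all fun b => lv.R.all fun x => (tgs S σ (rb S c.e b) x).all fun t =>
    !lv.inR t || Nat.blt (lv.key x) (lv.key t)

/-- The long coordinate controlled by a pair. -/
def gOf (c : Cell) (b : ℕ) : ℕ := S.sm (σ b) (S.ng (rb S c.e b))

/-- The support after one more inverse move. -/
def TLvl.supStep (c : Cell) (supp : List ℕ) (b : ℕ) : List ℕ :=
  lv.R.filter fun x => supp.contains x || (tgs S σ (rb S c.e b) x).any fun t => supp.contains t

/-- The coordinate `g` is not disturbed. -/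
def TLvl.supOK (c : Cell) (g : ℕ) : List ℕ → List ℕ → Bool
  | [], _ => true
  | b :: l, supp =>
    ((tgs S σ (rb S c.e b) g).all fun t => !lv.inR t || !supp.contains t) &&
      TLvl.supOK c g l (lv.supStep S σ c supp b)

/-- A pair forced to vanish with its long coordinate and the coordinates of `Z`. -/
def TLvl.forcedChk (c : Cell) (b : ℕ) (Z : List ℕ) : Bool :=
  c.v1.contains b && (!(σ b == b) && (lv.inR (gOf S σ c b) && ((σ (gOf S σ c b) == gOf S σ c b) &&
  (!(gOf S σ c b == c.e) && (!(S.sm (rb S c.e b) (gOf S σ c b) == c.e) &&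
  (!(S.sm (σ (rb S c.e b)) (gOf S σ c b) == c.e) &&
  ((S.sm (σ (rb S c.e b)) (S.sm (rb S c.e b) (gOf S σ c b)) == c.e) &&
  lv.supOK S σ c (gOf S σ c b) (c.v1.filter fun x => !(x == b) && !Z.contains x)
    (lv.supStep S σ c [c.e] b))))))))

/-- The conditions at one cell. -/
def TLvl.cellChk (c : Cell) : Bool :=
  lv.inR c.e && ((σ c.e == c.e) && (lv.isoChk S σ c && ((weight σ c.v1 == lv.k) &&
    (decide c.v1.Nodup && (lv.killChk S σ c && lv.raiseChk S σ c)))))

/-- The coordinates above `e` are forced to vanish. -/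
def TLvl.upChk (c : Cell) : Bool :=
  c.v1.all fun b => Nat.blt (lv.key b) (lv.key c.e) || (Nat.blt (lv.key c.e) (lv.key b) &&
    (σ b == b || c.frc.any fun p => p.1 == b && (lv.forcedChk S σ c b p.2 &&
      (Nat.blt (lv.key c.e) (lv.key (gOf S σ c b)) &&
        p.2.all fun z => lv.inR z && (σ z == z && Nat.blt (lv.key c.e) (lv.key z))))))

/-- The cells are ordered. -/
def TLvl.ordChk : Bool :=
  decide (lv.cells.Pairwise fun c d => lv.key c.e < lv.key d.e)

/-- The checks of a lower bound. -/
def TLvl.chk : Bool :=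
  lv.baseChk S σ && (lv.ordChk && lv.cells.all fun c => lv.cellChk S σ c)

/-- No non-zero character has all long coordinates zero. -/
def TLvl.e0Chk : Bool :=
  lv.R.all fun x =>
    if σ x == x then lv.cells.any fun c => c.e == x
    else lv.e0.any fun p => (p.2.2.1 == x || p.2.2.1 == σ x) &&
      match lv.cells[p.1]? with
      | none => false
      | some c => lv.L.contains p.2.1 && ((S.sm p.2.1 c.e == p.2.2.1) &&
          (lv.forcedChk S σ c p.2.2.1 p.2.2.2.2 &&
          ((!lv.inR (S.sm (σ p.2.1) (S.sm p.2.1 c.e)) ||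
            σ (S.sm (σ p.2.1) (S.sm p.2.1 c.e)) == S.sm (σ p.2.1) (S.sm p.2.1 c.e)) &&
          ((gOf S σ c p.2.2.1 :: p.2.2.1 :: p.2.2.2.2).all fun z =>
            (tgs S σ p.2.1 z).all fun t => !lv.inR t || σ t == t) &&
          p.2.2.2.2.all fun z => lv.inR z && σ z == z)))

/-- A move carries a coordinate to `e`. -/
def TLvl.moved (a e : ℕ) : Bool := lv.R.any fun b => S.sm a b == e

/-- The fixed root `a` of the complement. -/
def TLvl.actChk (a : ℕ) : Bool :=
  lv.L.contains a && ((σ a == a) && lv.cells.all fun c =>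
    ((lv.low c).all fun b =>
      (S.sm a (rb S c.e b) == S.n) && ((S.sm a (σ (rb S c.e b)) == S.n) &&
      (!(rb S c.e b == S.ng a) && !(σ (rb S c.e b) == S.ng a)))) &&
    (lv.moved S a c.e || (lv.L.contains c.ph.1 && (lv.L.contains c.ph.2 &&
      [c.ph.1, c.ph.2].all fun r => lv.R.all fun x => !(tgs S σ r x).contains c.e))))

end Cfsg.Agent.SimpleFacts.MinDegTw
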