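import Cfsg.Agent.SimpleFacts.MinDegTw.GRoot
import Cfsg.Agent.SimpleFacts.MinDegTw.TLvl
import Cfsg.Agent.SimpleFacts.MinDegExc.Restrict

/-!
The operators of a radical with an involution: characters, their symmetry, and moves.
-/

set_option autoImplicit false
set_option linter.unusedSectionVars false

namespace Cfsg.Agent.SimpleFacts.MinDegTw

open Cfsg.Agent.SimpleFacts.MinDegExc (Sys Fam Moves Eig res res_mul res_one)

variable {K : Type*} [Field K] [Fintype K] {V : Type*} [AddCommGroup V] [Module ℂ V]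
variable [FiniteDimensional ℂ V]

/-- The relations between the operators of a radical and of its complement. -/
structure TRel (S : Sys) (σ : ℕ → ℕ) (θ : K →+* K) (e : ℕ → K) (lv : TLvl)
    (W : ℕ → K → Module.End ℂ V) : Prop where
  zero : ∀ r ∈ lv.R ++ lv.L, W r 0 = 1
  add : ∀ r ∈ lv.R ++ lv.L, ∀ t u, W r (t + u) = W r t * W r u
  out : ∀ t, W S.n t = 1
  sym : ∀ b ∈ lv.R, ∀ t, W (σ b) (pr θ e b t) = W b t
  fix1 : ∀ b ∈ lv.R, σ b = b → ∀ t : K, t + θ t = 0 → W b t = 1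
  ab : ∀ b ∈ lv.R, ∀ c ∈ lv.R, ∀ t u, Commute (W b t) (W c u)
  conj : ∀ r ∈ lv.L, ∀ b ∈ lv.R, ∀ s t, W b t * W r s = W r s *
    (W (S.sm (σ r) (S.sm r b)) (S.sgn K (σ r) (S.sm r b) * pr θ e r s * (S.sgn K r b * s * t)) *
      W (S.sm r b) (-(S.sgn K r b * s * t)) *
      (W (S.sm (σ r) b) (-(S.sgn K (σ r) b * pr θ e r s * t)) * W b t))

/-- The coordinates. -/
abbrev Co (lv : TLvl) := {b : ℕ // b ∈ lv.R}

/-- A coordinate, or `0` outside the radical. -/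
def gv (lv : TLvl) (y : Co lv → K) (u : ℕ) : K := if h : u ∈ lv.R then y ⟨u, h⟩ else 0

theorem gv_mem {lv : TLvl} (y : Co lv → K) {u : ℕ} (h : u ∈ lv.R) : gv lv y u = y ⟨u, h⟩ := dif_pos h

theorem gv_not {lv : TLvl} (y : Co lv → K) {u : ℕ} (h : u ∉ lv.R) : gv lv y u = 0 := dif_neg h

theorem gv_zero {lv : TLvl} (u : ℕ) : gv lv (0 : Co lv → K) u = 0 := by unfold gv; split <;> rfl

theorem ext_gv {lv : TLvl} {y z : Co lv → K} (h : ∀ x ∈ lv.R, gv lv y x = gv lv z x) : y = z :=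
  funext fun b => by rw [← gv_mem y b.2, h b.1 b.2, gv_mem]

/-- One half of a move. -/
def mv1 (S : Sys) (lv : TLvl) (r : ℕ) (s : K) (y : Co lv → K) : Co lv → K :=
  fun b => y b - S.sgn K r b.1 * s * gv lv y (S.sm r b.1)

theorem gv_mv1 {S : Sys} {lv : TLvl} (r : ℕ) (s : K) (y : Co lv → K) {u : ℕ} (hu : u ∈ lv.R) :
    gv lv (mv1 S lv r s y) u = gv lv y u - S.sgn K r u * s * gv lv y (S.sm r u) := by
  rw [gv_mem _ hu, gv_mem _ hu]; rfl

/-- The move of characters by the fixed product at `r`. -/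
def tmv (S : Sys) (σ : ℕ → ℕ) (θ : K →+* K) (e : ℕ → K) (lv : TLvl) (r : ℕ) (s : K)
    (y : Co lv → K) : Co lv → K :=
  mv1 S lv r s (mv1 S lv (σ r) (pr θ e r s) y)

/-- The symmetry of the characters that occur. -/
def Adm (σ : ℕ → ℕ) (θ : K →+* K) (e : ℕ → K) (lv : TLvl) (y : Co lv → K) : Prop :=
  ∀ b ∈ lv.R, gv lv y (σ b) = e b * θ (gv lv y b)

/-- The standing hypotheses. -/
structure TCtx (S : Sys) (σ : ℕ → ℕ) (θ : K →+* K) (e : ℕ → K) (q : ℕ) (lv : TLvl)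
    (ψ : AddChar K ℂ) (l : K) (W : ℕ → K → Module.End ℂ V) : Prop where
  fr : Fr θ q
  chr : Chr θ ψ l
  ee : ∀ r, e r * e r = 1
  θe : ∀ r, θ (e r) = e r
  efix : ∀ r, σ r = r → e r = 1
  sm_out : ∀ r, S.sm r S.n = S.n
  σn : σ S.n = S.n
  base : lv.baseChk S σ = true
  rel : TRel S σ θ e lv W

variable {S : Sys} {σ : ℕ → ℕ} {θ : K →+* K} {e : ℕ → K} {q : ℕ} {lv : TLvl}
variable {W : ℕ → K → Module.End ℂ V} {ψ : AddChar K ℂ} {l : K}

namespace TCtx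

variable (C : TCtx S σ θ e q lv ψ l W)
include C

theorem base' :
    (∀ x ∈ lv.R, x < S.n ∧ σ x ∈ lv.R ∧ σ (σ x) = x ∧ lv.key (σ x) = lv.key x) ∧
      (∀ r ∈ lv.L, r < S.n ∧ σ r ∈ lv.L) ∧ ∀ r ∈ lv.L, ∀ b ∈ lv.R, lv.stab S σ r b = true := by
  have h := C.base
  simp only [TLvl.baseChk, TLvl.inR, Bool.and_eq_true, List.all_eq_true, Nat.blt_eq, beq_iff_eq,
    List.contains_iff_mem] at h
  exact h

theorem ltn {x : ℕ} (hx : x ∈ lv.R) : x < S.n := (C.base'.1 x hx).1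

theorem σR {x : ℕ} (hx : x ∈ lv.R) : σ x ∈ lv.R := (C.base'.1 x hx).2.1

theorem σσ {x : ℕ} (hx : x ∈ lv.R) : σ (σ x) = x := (C.base'.1 x hx).2.2.1

theorem keyσ {x : ℕ} (hx : x ∈ lv.R) : lv.key (σ x) = lv.key x := (C.base'.1 x hx).2.2.2

theorem n_not : S.n ∉ lv.R := fun h => lt_irrefl _ (C.ltn h)

theorem stab' {r b : ℕ} (hr : r ∈ lv.L) (hb : b ∈ lv.R) :
    (∀ t ∈ tgs S σ r b, t = S.n ∨ t ∈ lv.R) ∧ S.sm r (S.sm r b) ∉ lv.R ∧
      S.sm (σ r) (S.sm r b) = S.sm r (S.sm (σ r) b) ∧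
      (S.sm (σ r) (S.sm r b) ∈ lv.R → S.sgn K r b * S.sgn K (σ r) (S.sm r b) =
        S.sgn K (σ r) b * S.sgn K r (S.sm (σ r) b)) := by
  have h := C.base'.2.2 r hr b hb
  simp only [TLvl.stab, TLvl.rn, TLvl.inR, Bool.and_eq_true, Bool.or_eq_true, List.all_eq_true,
    Bool.not_eq_true', beq_iff_eq, beq_eq_false_iff_ne, List.contains_iff_mem,
    ← Bool.not_eq_true] at h
  obtain ⟨-, -, -, h4, h5, h6, h7⟩ := h
  refine ⟨h4, h5, h6, fun hm => ?_⟩
  have h8 := h7.resolve_left (fun hn => hn hm)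
  unfold Sys.sgn
  revert h8
  cases S.sg r b <;> cases S.sg (σ r) (S.sm r b) <;> cases S.sg (σ r) b <;>
    cases S.sg r (S.sm (σ r) b) <;> simp

/-- A coordinate of a moved character. -/
theorem gv_tmv {r : ℕ} (hr : r ∈ lv.L) (s : K) (y : Co lv → K) {b : ℕ} (hb : b ∈ lv.R) :
    gv lv (tmv S σ θ e lv r s y) b = gv lv y b
      - S.sgn K r b * s * gv lv y (S.sm r b)
      - S.sgn K (σ r) b * pr θ e r s * gv lv y (S.sm (σ r) b)
      + S.sgn K r b * S.sgn K (σ r) (S.sm r b) * (s * pr θ e r s) *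
        gv lv y (S.sm (σ r) (S.sm r b)) := by
  rw [tmv, gv_mv1 _ _ _ hb, gv_mv1 _ _ _ hb]
  rcases (C.stab' hr hb).1 (S.sm r b) (by simp [tgs]) with h | h
  · rw [h, C.sm_out, gv_not _ C.n_not, gv_not _ C.n_not]; ring
  · rw [gv_mv1 _ _ _ h]; ring

theorem mv1_inv {r : ℕ} (hr : r ∈ lv.L) (s : K) (y : Co lv → K) :
    mv1 S lv r (-s) (mv1 S lv r s y) = y := by
  refine ext_gv fun b hb => ?_
  rw [gv_mv1 _ _ _ hb, gv_mv1 _ _ _ hb]
  rcases (C.stab' hr hb).1 (S.sm r b) (by simp [tgs]) with h | h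
  · rw [h, gv_not _ C.n_not, gv_not _ C.n_not]; ring
  · rw [gv_mv1 _ _ _ h, gv_not _ (C.stab' hr hb).2.1]; ring

theorem mv1_comm {r : ℕ} (hr : r ∈ lv.L) (s u : K) (y : Co lv → K) :
    mv1 S lv r s (mv1 S lv (σ r) u y) = mv1 S lv (σ r) u (mv1 S lv r s y) := by
  refine ext_gv fun b hb => ?_
  obtain ⟨htg, -, h3, h4⟩ := C.stab' hr hb
  have side : ∀ (x : ℕ) (r' : ℕ) (v : K) (z : Co lv → K), (x = S.n ∨ x ∈ lv.R) →
      gv lv (mv1 S lv r' v z) x = gv lv z x - S.sgn K r' x * v * gv lv z (S.sm r' x) := by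
    intro x r' v z hx
    rcases hx with h | h
    · rw [h, C.sm_out, gv_not _ C.n_not, gv_not _ C.n_not]; ring
    · exact gv_mv1 _ _ _ h
  rw [gv_mv1 _ _ _ hb, gv_mv1 _ _ _ hb, gv_mv1 _ _ _ hb, gv_mv1 _ _ _ hb,
    side _ _ _ _ (htg _ (by simp [tgs])), side _ _ _ _ (htg _ (by simp [tgs])), ← h3]
  by_cases hm : S.sm (σ r) (S.sm r b) ∈ lv.R
  · linear_combination (s * u * gv lv y (S.sm (σ r) (S.sm r b))) * h4 hm
  · rw [gv_not _ hm]; ring

theorem tmv_inv {r : ℕ} (hr : r ∈ lv.L) (s : K) (y : Co lv → K) :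
    tmv S σ θ e lv r (-s) (tmv S σ θ e lv r s y) = y := by
  rw [tmv, tmv, ← C.mv1_comm hr (s := s), show pr θ e r (-s) = -pr θ e r s by simp [pr],
    C.mv1_comm hr, C.mv1_comm hr (s := s), C.mv1_inv (C.base'.2.1 r hr).2, C.mv1_inv hr]

theorem tmv_inv' {r : ℕ} (hr : r ∈ lv.L) (s : K) (y : Co lv → K) :
    tmv S σ θ e lv r s (tmv S σ θ e lv r (-s) y) = y := by
  have := C.tmv_inv hr (-s) y
  rwa [neg_neg] at this

theorem fam : Fam (ι := Co lv) fun b t => W b.1 t where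
  zero b := C.rel.zero _ (List.mem_append_left _ b.2)
  add b := C.rel.add _ (List.mem_append_left _ b.2)
  comm b c := C.rel.ab _ b.2 _ c.2

theorem W_inv {r : ℕ} (hr : r ∈ lv.R ++ lv.L) (s : K) : W r s * W r (-s) = 1 := by
  rw [← C.rel.add r hr, add_neg_cancel, C.rel.zero r hr]

theorem moves {r : ℕ} (hr : r ∈ lv.L) (s : K) :
    Moves C.fam ψ (W r s) (tmv S σ θ e lv r s) := by
  refine ⟨Function.LeftInverse.injective (C.tmv_inv hr s), fun z b t => ?_⟩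
  have hb := b.2
  have hP : ∀ x, (x = S.n ∨ x ∈ lv.R) → ∀ u, W x u * C.fam.P ψ z = ψ (gv lv z x * u) • C.fam.P ψ z := by
    intro x hx u
    rcases hx with h | h
    · rw [h, C.rel.out, one_mul, gv_not _ C.n_not, zero_mul, AddChar.map_zero_eq_one, one_smul]
    · rw [gv_mem _ h]; exact C.fam.X_mul_P z ⟨x, h⟩ u
  have htg := (C.stab' hr hb).1
  show W b.1 t * (W r s * C.fam.P ψ z) = _
  have hassoc : ∀ g a₁ a₂ a₃ a₄ P : Module.End ℂ V,
      g * (a₁ * a₂ * (a₃ * a₄)) * P = g * (a₁ * (a₂ * (a₃ * (a₄ * P)))) := fun _ _ _ _ _ _ => by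
    simp only [mul_assoc]
  rw [← mul_assoc, C.rel.conj r hr b.1 hb, hassoc,
    hP b.1 (Or.inr hb)]
  simp only [mul_smul_comm, hP (S.sm (σ r) b.1) (htg _ (by simp [tgs])),
    hP (S.sm r b.1) (htg _ (by simp [tgs])),
    hP (S.sm (σ r) (S.sm r b.1)) (htg _ (by simp [tgs])), smul_smul, ← AddChar.map_add_eq_mul]
  congr 2
  rw [← gv_mem (tmv S σ θ e lv r s z) hb, C.gv_tmv hr s z hb]
  ring

theorem m_tmv {r : ℕ} (hr : r ∈ lv.L) (s : K) (y : Co lv → K) :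
    C.fam.m ψ (tmv S σ θ e lv r s y) = C.fam.m ψ y :=
  (C.moves hr s).m_eq C.chr.ne (C.W_inv (List.mem_append_right _ hr) s) y

theorem adm_of_m {y : Co lv → K} (hy : C.fam.m ψ y ≠ 0) : Adm σ θ e lv y := by
  intro b hb
  have hP : C.fam.P ψ y ≠ 0 := fun h0 => hy (by rw [Fam.m, h0, LinearMap.range_zero, finrank_bot])
  have key : ∀ t, ψ (gv lv y (σ b) * pr θ e b t) = ψ (gv lv y b * t) := by
    intro t
    have e1 := C.fam.X_mul_P (ψ := ψ) y ⟨σ b, C.σR hb⟩ (pr θ e b t)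
    have e2 := C.fam.X_mul_P (ψ := ψ) y ⟨b, hb⟩ t
    rw [C.rel.sym b hb t, e2] at e1
    rw [gv_mem _ (C.σR hb), gv_mem _ hb]
    exact (smul_left_injective ℂ hP e1).symm
  have h1 : gv lv y b = θ (gv lv y (σ b)) * e b := by
    refine C.chr.inj fun t => ?_
    rw [← key t, ← C.chr.theta C.fr (gv lv y (σ b) * pr θ e b t), pr, map_mul θ, map_mul θ, C.θe,
      C.fr.inv, mul_assoc]
  rw [h1, map_mul, C.fr.inv, C.θe, mul_left_comm, C.ee, mul_one]

theorem P_zero {y : Co lv → K} (hy : C.fam.m ψ y = 0) : C.fam.P ψ y = 0 :=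
  MinDegExc.Fam.P_eq_zero C.fam hy

/-- Multiplicity one times zero. -/
theorem tmv_zero {r : ℕ} (hr : r ∈ lv.L) (s : K) : tmv S σ θ e lv r s (0 : Co lv → K) = 0 :=
  ext_gv fun b hb => by simp [C.gv_tmv hr s _ hb, gv_zero]

theorem commute_fixed {r : ℕ} (hr : r ∈ lv.L) (s : K) : Commute (W r s) (C.fam.P ψ 0) :=
  (C.moves hr s).commute C.chr.ne (C.tmv_zero hr s)

end TCtx

/-- Restriction to the range of an idempotent commuting with the operators. -/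
theorem TRel.res (h : TRel S σ θ e lv W) {E : Module.End ℂ V}
    (hE : ∀ r, (r = S.n ∨ r ∈ lv.R ++ lv.L) → ∀ t, Commute (W r t) E)
    (hst : ∀ b ∈ lv.R, σ b ∈ lv.R)
    (hc : ∀ r ∈ lv.L, ∀ b ∈ lv.R, ∀ t ∈ tgs S σ r b, t = S.n ∨ t ∈ lv.R) :
    TRel S σ θ e lv fun r t => MinDegExc.res E (W r t) where
  zero r hr := by rw [h.zero r hr, res_one]
  add r hr t u := by rw [h.add r hr, res_mul (hE r (Or.inr hr) t) (hE r (Or.inr hr) u)]
  out t := by rw [h.out, res_one]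
  sym b hb t := by rw [h.sym b hb t]
  fix1 b hb hσ t ht := by rw [h.fix1 b hb hσ t ht, res_one]
  ab b hb c hc t u := by
    have h1 := hE b (Or.inr (List.mem_append_left _ hb)) t
    have h2 := hE c (Or.inr (List.mem_append_left _ hc)) u
    show _ * _ = _ * _
    rw [← res_mul h1 h2, ← res_mul h2 h1, (h.ab b hb c hc t u).eq]
  conj r hr b hb s t := by
    have hR : ∀ x, (x = S.n ∨ x ∈ lv.R) → ∀ u, Commute (W x u) E := fun x hx =>
      hE x (hx.imp_right (List.mem_append_left _))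
    have h1 := hR b (Or.inr hb) t
    have h2 := hE r (Or.inr (List.mem_append_right _ hr)) s
    have k1 : ∀ u, Commute (W (S.sm r b) u) E := hR _ (hc r hr b hb _ (by simp [tgs]))
    have k2 : ∀ u, Commute (W (S.sm (σ r) b) u) E := hR _ (hc r hr b hb _ (by simp [tgs]))
    have k3 : ∀ u, Commute (W (S.sm (σ r) (S.sm r b)) u) E := hR _ (hc r hr b hb _ (by simp [tgs]))
    rw [← res_mul h1 h2, ← res_mul (k2 _) h1, ← res_mul (k3 _) (k1 _),
      ← res_mul ((k3 _).mul_left (k1 _)) ((k2 _).mul_left h1),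
      ← res_mul h2 (((k3 _).mul_left (k1 _)).mul_left ((k2 _).mul_left h1)), h.conj r hr b hb s t]

end Cfsg.Agent.SimpleFacts.MinDegTw
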