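import Cfsg.Agent.SimpleFacts.MinDegTw.GOps
import Cfsg.Agent.SimpleFacts.MinDegTw.Rel

/-!
The relations of a radical from the group, modulo the kernel of a homomorphism on the root elements.
-/

set_option autoImplicit false
set_option linter.unusedSectionVars false

namespace Cfsg.Agent.SimpleFacts.MinDegTw

open Cfsg.Agent.SimpleFacts.MinDegExc (Sys)

variable {K : Type*} [Field K] [Fintype K] {G : Type*} [Group G]
variable {S : Sys} {σ : ℕ → ℕ} {θ : K →+* K} {e : ℕ → K} {X : ℕ → K → G}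
variable {V : Type*} [AddCommGroup V] [Module ℂ V] [FiniteDimensional ℂ V]

/-- The operators of a homomorphism. -/
noncomputable def Wof (σ : ℕ → ℕ) (θ : K →+* K) (e : ℕ → K) (X : ℕ → K → G) {G2 : Subgroup G}
    {N : Type*} [Monoid N] (Φ : G2 →* N) (r : ℕ) (t : K) : N :=
  open _root_.Classical in if h : zel σ θ e X r t ∈ G2 then Φ ⟨_, h⟩ else 1

theorem Wof_eq {G2 : Subgroup G} {N : Type*} [Monoid N] (Φ : G2 →* N) {r : ℕ} {t : K}
    (h : zel σ θ e X r t ∈ G2) : Wof σ θ e X Φ r t = Φ ⟨_, h⟩ := dif_pos h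

theorem Wof_mul {G2 : Subgroup G} {N : Type*} [Monoid N] (Φ : G2 →* N) {g : G} (hg : g ∈ G2)
    {r : ℕ} {t : K} (h : zel σ θ e X r t ∈ G2) :
    Φ ⟨g, hg⟩ * Wof σ θ e X Φ r t = Φ ⟨g * zel σ θ e X r t, mul_mem hg h⟩ := by
  rw [Wof_eq Φ h, ← map_mul]; rfl

/-- The relations of a radical. -/
theorem trel_of (T : Tw S σ θ e X) {lv : TLvl} (hbase : lv.baseChk S σ = true)
    (G1 G2 : Subgroup G) {M : Type*} [Monoid M] (π : G1 →* M) (Φ : G2 →* Module.End ℂ V)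
    (h1 : ∀ r, (r = S.n ∨ r ∈ lv.R ++ lv.L) → ∀ t, X r t ∈ G1)
    (h2 : ∀ r, (r = S.n ∨ r ∈ lv.R ++ lv.L) → ∀ t, zel σ θ e X r t ∈ G2)
    (compat : ∀ g h : G, ∀ (g1 : g ∈ G1) (h1 : h ∈ G1) (g2 : g ∈ G2) (h2 : h ∈ G2),
      π ⟨g, g1⟩ = π ⟨h, h1⟩ → Φ ⟨g, g2⟩ = Φ ⟨h, h2⟩)
    (hπ : ∀ x ∈ lv.R, ∀ y ∈ lv.R, ∀ t u, ∀ (hx : X x t ∈ G1) (hy : X y u ∈ G1),
      Commute (π ⟨_, hx⟩) (π ⟨_, hy⟩)) :
    TRel S σ θ e lv (Wof σ θ e X Φ) := by
  have hb := hbase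
  simp only [TLvl.baseChk, TLvl.inR, Bool.and_eq_true, List.all_eq_true, Nat.blt_eq, beq_iff_eq,
    List.contains_iff_mem] at hb
  obtain ⟨hR, hL, hst⟩ := hb
  have σcl : ∀ r, (r = S.n ∨ r ∈ lv.R ++ lv.L) → (σ r = S.n ∨ σ r ∈ lv.R ++ lv.L) := by
    intro r hr
    rcases hr with rfl | hr
    · exact Or.inl (T.σn _ le_rfl)
    · refine Or.inr ?_
      rcases List.mem_append.1 hr with h | h
      · exact List.mem_append_left _ (hR r h).2.1
      · exact List.mem_append_right _ (hL r h).2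
  have z1 : ∀ r, (r = S.n ∨ r ∈ lv.R ++ lv.L) → ∀ t, zel σ θ e X r t ∈ G1 := fun r hr t =>
    mul_mem (h1 r hr t) (h1 _ (σcl r hr) _)
  let P : ∀ r, (r = S.n ∨ r ∈ lv.R ++ lv.L) → K → M := fun r hr t => π ⟨X r t, h1 r hr t⟩
  have Pz : ∀ r (hr : r = S.n ∨ r ∈ lv.R ++ lv.L) t,
      π ⟨_, z1 r hr t⟩ = P r hr t * P (σ r) (σcl r hr) (pr θ e r t) := fun r hr t => by
    simp only [P]; rw [← map_mul]; rfl
  have hc : ∀ x (hx' : x = S.n ∨ x ∈ lv.R) y (hy' : y = S.n ∨ y ∈ lv.R) t u,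
      Commute (P x (hx'.imp_right (List.mem_append_left _)) t)
        (P y (hy'.imp_right (List.mem_append_left _)) u) := by
    intro x hx' y hy' t u
    have hx : x = S.n ∨ x ∈ lv.R ++ lv.L := hx'.imp_right (List.mem_append_left _)
    have hy : y = S.n ∨ y ∈ lv.R ++ lv.L := hy'.imp_right (List.mem_append_left _)
    rcases hx' with h | hx'
    · have : (⟨X x t, h1 x hx t⟩ : G1) = 1 := Subtype.ext (by show X x t = 1; rw [h]; exact T.out _ t le_rfl)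
      simp only [P]; rw [this, map_one]; exact Commute.one_left _
    rcases hy' with h | hy'
    · have : (⟨X y u, h1 y hy u⟩ : G1) = 1 := Subtype.ext (by show X y u = 1; rw [h]; exact T.out _ u le_rfl)
      simp only [P]; rw [this, map_one]; exact Commute.one_right _
    exact hπ x hx' y hy' t u _ _
  refine ⟨fun r hr => ?_, fun r hr t u => ?_, fun t => ?_, fun b hb t => ?_, fun b hb hσ t ht => ?_,
    fun b hb c hc' t u => ?_, fun r hr b hb s t => ?_⟩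
  · rw [Wof_eq Φ (h2 r (Or.inr hr) 0),
      show (⟨_, h2 r (Or.inr hr) 0⟩ : G2) = 1 from Subtype.ext (T.zel_zero r), map_one]
  · rw [Wof_eq Φ (h2 r (Or.inr hr) _), Wof_eq Φ (h2 r (Or.inr hr) t), Wof_eq Φ (h2 r (Or.inr hr) u),
      ← map_mul]
    exact congrArg Φ (Subtype.ext (T.zel_add r t u))
  · rw [Wof_eq Φ (h2 _ (Or.inl rfl) t),
      show (⟨_, h2 S.n (Or.inl rfl) t⟩ : G2) = 1 from Subtype.ext (T.zel_out _ t le_rfl), map_one]
  · have hb' := List.mem_append_left lv.L hb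
    rw [Wof_eq Φ (h2 b (Or.inr hb') t), Wof_eq Φ (h2 _ (σcl b (Or.inr hb')) _)]
    exact congrArg Φ (Subtype.ext (T.zel_symm b t))
  · rw [Wof_eq Φ (h2 b (Or.inr (List.mem_append_left _ hb)) t),
      show (⟨_, h2 b (Or.inr (List.mem_append_left _ hb)) t⟩ : G2) = 1 from
        Subtype.ext (by show zel σ θ e X b t = 1; rw [T.zel_fix hσ, ht, T.zero]), map_one]
  · have rb : b = S.n ∨ b ∈ lv.R ++ lv.L := Or.inr (List.mem_append_left _ hb)
    have rc : c = S.n ∨ c ∈ lv.R ++ lv.L := Or.inr (List.mem_append_left _ hc')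
    show _ * _ = _ * _
    rw [Wof_eq Φ (h2 b rb t), Wof_eq Φ (h2 c rc u), ← map_mul, ← map_mul]
    refine compat _ _ (mul_mem (z1 b rb t) (z1 c rc u)) (mul_mem (z1 c rc u) (z1 b rb t)) _ _ ?_
    show π (⟨_, z1 b rb t⟩ * ⟨_, z1 c rc u⟩) = π (⟨_, z1 c rc u⟩ * ⟨_, z1 b rb t⟩)
    rw [map_mul, map_mul, Pz b rb, Pz c rc]
    have := hR b hb; have := hR c hc'
    exact (((hc b (Or.inr hb) c (Or.inr hc') _ _).mul_left
      (hc _ (Or.inr (hR b hb).2.1) c (Or.inr hc') _ _)).mul_right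
      ((hc b (Or.inr hb) _ (Or.inr (hR c hc').2.1) _ _).mul_left
        (hc _ (Or.inr (hR b hb).2.1) _ (Or.inr (hR c hc').2.1) _ _))).eq
  · have h := hst r hr b hb
    simp only [TLvl.stab, TLvl.rn, TLvl.inR, Bool.and_eq_true, Bool.or_eq_true, List.all_eq_true,
      Bool.not_eq_true', beq_iff_eq, beq_eq_false_iff_ne, List.contains_iff_mem] at h
    obtain ⟨k1, k2, k3, k4, -⟩ := h
    have rr : r = S.n ∨ r ∈ lv.R ++ lv.L := Or.inr (List.mem_append_right _ hr)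
    have rn : ∀ x, (x = S.n ∨ x ∈ lv.R) → (x = S.n ∨ x ∈ lv.R ++ lv.L) := fun x hx =>
      hx.imp_right (List.mem_append_left _)
    have σrn : ∀ x, (x = S.n ∨ x ∈ lv.R) → (σ x = S.n ∨ σ x ∈ lv.R) := fun x hx => by
      rcases hx with rfl | hx
      · exact Or.inl (T.σn _ le_rfl)
      · exact Or.inr (hR x hx).2.1
    have t1 : S.sm r b = S.n ∨ S.sm r b ∈ lv.R := k4 _ (by simp [tgs])
    have t2 : S.sm (σ r) b = S.n ∨ S.sm (σ r) b ∈ lv.R := k4 _ (by simp [tgs])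
    have t3 : S.sm (σ r) (S.sm r b) = S.n ∨ S.sm (σ r) (S.sm r b) ∈ lv.R := k4 _ (by simp [tgs])
    have tb : b = S.n ∨ b ∈ lv.R := Or.inr hb
    have e0 := T.zel_conj (hL r hr).1 (hR b hb).1 k1 k2 k3 s t
    rw [Wof_eq Φ (h2 b (rn _ tb) t), Wof_eq Φ (h2 r rr s), Wof_eq Φ (h2 _ (rn _ t1) _),
      Wof_eq Φ (h2 _ (rn _ t2) _), Wof_eq Φ (h2 _ (rn _ t3) _)]
    simp only [← map_mul]
    refine compat _ _ (mul_mem (z1 b (rn _ tb) t) (z1 r rr s)) (mul_mem (z1 r rr s)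
      (mul_mem (mul_mem (z1 _ (rn _ t3) _) (z1 _ (rn _ t1) _))
        (mul_mem (z1 _ (rn _ t2) _) (z1 b (rn _ tb) t)))) _ _ ?_
    let m : ∀ x, (x = S.n ∨ x ∈ lv.R ++ lv.L) → K → G1 := fun x hx u => ⟨X x u, h1 x hx u⟩
    rw [show (⟨_, mul_mem (z1 b (rn _ tb) t) (z1 r rr s)⟩ : G1) = ⟨_, z1 r rr s⟩ *
        ((m _ (rn _ t3) (S.sgn K (σ r) (S.sm r b) * pr θ e r s * (S.sgn K r b * s * t)) *
            m _ (rn _ t1) (-(S.sgn K r b * s * t)) *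
            (m _ (rn _ t2) (-(S.sgn K (σ r) b * pr θ e r s * t)) * m b (rn _ tb) t)) *
          (m _ (rn _ (σrn _ t3)) (pr θ e (S.sm (σ r) (S.sm r b))
              (S.sgn K (σ r) (S.sm r b) * pr θ e r s * (S.sgn K r b * s * t))) *
            m _ (rn _ (σrn _ t1)) (pr θ e (S.sm r b) (-(S.sgn K r b * s * t))) *
            (m _ (rn _ (σrn _ t2)) (pr θ e (S.sm (σ r) b) (-(S.sgn K (σ r) b * pr θ e r s * t))) *
              m _ (rn _ (σrn _ tb)) (pr θ e b t)))) from Subtype.ext e0, map_mul]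
    simp only [m, map_mul]
    rw [regroup]
    · show π ⟨_, z1 r rr s⟩ * _ = π (⟨_, z1 r rr s⟩ * (⟨_, z1 _ (rn _ t3) _⟩ *
        ⟨_, z1 _ (rn _ t1) _⟩ * (⟨_, z1 _ (rn _ t2) _⟩ * ⟨_, z1 b (rn _ tb) t⟩)))
      rw [map_mul, map_mul, map_mul, map_mul, Pz _ (rn _ t3), Pz _ (rn _ t1), Pz _ (rn _ t2),
        Pz b (rn _ tb)]
    · exact hc _ t2 _ (σrn _ t1) _ _
    · exact hc _ tb _ (σrn _ t1) _ _
    · exact hc _ t2 _ (σrn _ t3) _ _
    · exact hc _ tb _ (σrn _ t3) _ _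
    · exact hc _ t1 _ (σrn _ t3) _ _
    · exact hc _ tb _ (σrn _ t2) _ _

end Cfsg.Agent.SimpleFacts.MinDegTw
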