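import Cfsg.Agent.SimpleFacts.MinDegExc.Sys
import Cfsg.Agent.SimpleFacts.MinDegTw.Chr

/-!
Root elements of a simply laced system with an involution, in a group, and the products fixed by it.
-/

set_option autoImplicit false
set_option linter.unusedSectionVars false

namespace Cfsg.Agent.SimpleFacts.MinDegTw

open Cfsg.Agent.SimpleFacts.MinDegExc (Sys IsRG)

variable {K : Type*} [Field K] {G : Type*} [Group G]

/-- The root elements with the data of the involution. -/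
structure Tw (S : Sys) (σ : ℕ → ℕ) (θ : K →+* K) (e : ℕ → K) (X : ℕ → K → G) : Prop where
  rg : IsRG S (List.range S.n) X
  out : ∀ r t, S.n ≤ r → X r t = 1
  sm_le : ∀ r s, S.sm r s ≤ S.n
  sm_out : ∀ r, S.sm r S.n = S.n
  θθ : ∀ t, θ (θ t) = t
  σn : ∀ r, S.n ≤ r → σ r = r
  σlt : ∀ r, r < S.n → σ r < S.n
  σσ : ∀ r, σ (σ r) = r
  σng : ∀ r, r < S.n → S.ng (σ r) = σ (S.ng r)
  ng_lt : ∀ r, r < S.n → S.ng r < S.n
  σsm : ∀ r s, r < S.n → s < S.n → S.sm (σ r) (σ s) = σ (S.sm r s)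
  ee : ∀ r, e r * e r = 1
  θe : ∀ r, θ (e r) = e r
  eσ : ∀ r, e (σ r) = e r
  efix : ∀ r, σ r = r → e r = 1
  esum : ∀ r s, r < S.n → s < S.n → S.sm r s ≠ S.n →
    e (S.sm r s) * S.sgn K r s = S.sgn K (σ r) (σ s) * e r * e s
  orth : ∀ r, r < S.n → σ r ≠ r → S.sm r (σ r) = S.n ∧ σ r ≠ S.ng r

variable {S : Sys} {σ : ℕ → ℕ} {θ : K →+* K} {e : ℕ → K} {X : ℕ → K → G}

/-- The partner parameter. -/
def pr (θ : K →+* K) (e : ℕ → K) (r : ℕ) (t : K) : K := e r * θ t

/-- The fixed product at a root. -/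
def zel (σ : ℕ → ℕ) (θ : K →+* K) (e : ℕ → K) (X : ℕ → K → G) (r : ℕ) (t : K) : G :=
  X r t * X (σ r) (pr θ e r t)

theorem pr_add (r : ℕ) (t u : K) : pr θ e r (t + u) = pr θ e r t + pr θ e r u := by
  simp only [pr, map_add, mul_add]

theorem sgn_fix (r s : ℕ) : θ (S.sgn K r s) = S.sgn K r s := by
  unfold Sys.sgn; cases S.sg r s <;> simp

namespace Tw

variable (T : Tw S σ θ e X)
include T

theorem pr_pr (r : ℕ) (t : K) : pr θ e (σ r) (pr θ e r t) = t := by
  simp only [pr, map_mul, T.θθ, T.eσ, T.θe, ← mul_assoc, T.ee, one_mul]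

theorem sgn_sq' (r s : ℕ) : S.sgn K r s * S.sgn K r s = 1 := S.sgn_sq r s

theorem zero (r : ℕ) : X r 0 = 1 := by
  by_cases h : r < S.n
  · exact T.rg.zero r (List.mem_range.2 h)
  · exact T.out r 0 (not_lt.1 h)

theorem add (r : ℕ) (t u : K) : X r (t + u) = X r t * X r u := by
  by_cases h : r < S.n
  · exact T.rg.add r (List.mem_range.2 h) t u
  · simp [T.out r _ (not_lt.1 h)]

theorem inv' (r : ℕ) (t : K) : (X r t)⁻¹ = X r (-t) := by
  rw [inv_eq_iff_mul_eq_one, ← T.add, add_neg_cancel, T.zero]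

theorem commute_self (r : ℕ) (t u : K) : Commute (X r t) (X r u) := by
  show X r t * X r u = X r u * X r t
  rw [← T.add, ← T.add, add_comm]

theorem comm {r b : ℕ} (hr : r < S.n) (hb : b < S.n) (hne : b ≠ S.ng r) (hn : S.sm r b = S.n)
    (t u : K) : Commute (X r t) (X b u) :=
  T.rg.comm r (List.mem_range.2 hr) b (List.mem_range.2 hb) hne hn t u

theorem pairComm (r : ℕ) (t u : K) : Commute (X r t) (X (σ r) u) := by
  by_cases h : r < S.n
  · by_cases hσ : σ r = r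
    · rw [hσ]; exact T.commute_self r t u
    · exact T.comm h (T.σlt r h) (T.orth r h hσ).2 (T.orth r h hσ).1 t u
  · rw [T.out r t (not_lt.1 h)]; exact Commute.one_left _

theorem zel_zero (r : ℕ) : zel σ θ e X r 0 = 1 := by
  simp [zel, pr, T.zero]

theorem zel_add (r : ℕ) (t u : K) :
    zel σ θ e X r (t + u) = zel σ θ e X r t * zel σ θ e X r u := by
  rw [zel, zel, zel, pr_add, T.add, T.add, mul_assoc, mul_assoc, ← mul_assoc (X r u),
    (T.pairComm r u (pr θ e r t)).eq]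
  simp only [mul_assoc]

theorem zel_out (r : ℕ) (t : K) (h : S.n ≤ r) : zel σ θ e X r t = 1 := by
  rw [zel, T.σn r h, T.out r _ h, T.out r _ h, one_mul]

theorem zel_symm (r : ℕ) (t : K) : zel σ θ e X (σ r) (pr θ e r t) = zel σ θ e X r t := by
  rw [zel, zel, T.σσ, T.pr_pr]
  exact (T.pairComm r t _).eq.symm

theorem zel_fix {r : ℕ} (h : σ r = r) (t : K) : zel σ θ e X r t = X r (t + θ t) := by
  rw [zel, h, pr, T.efix r h, one_mul, ← T.add]

/-- The relation between two root elements, valid also without a sum. -/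
theorem cj {r b : ℕ} (hr : r < S.n) (hb : b ≤ S.n) (hne : b ≠ S.ng r) (s t : K) :
    X b t * X r s = X r s * (X (S.sm r b) (-(S.sgn K r b * s * t)) * X b t) := by
  rcases eq_or_lt_of_le hb with rfl | hb'
  · rw [T.sm_out, T.out S.n _ le_rfl, T.out S.n _ le_rfl, one_mul, one_mul, mul_one]
  by_cases hn : S.sm r b = S.n
  · rw [hn, T.out S.n _ le_rfl, one_mul, (T.comm hr hb' hne hn s t).eq]
  have e1 := T.rg.conj r (List.mem_range.2 hr) b (List.mem_range.2 hb') hn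
    (List.mem_range.2 (lt_of_le_of_ne (T.sm_le r b) hn)) (-s) t
  rw [mul_neg, neg_mul] at e1
  have e2 : X b t * X r s = X r s * (X r (-s) * X b t) * X r s := by
    rw [← mul_assoc (X r s), ← T.add, add_neg_cancel, T.zero, one_mul]
  rw [e2, e1]
  simp only [mul_assoc]
  rw [← T.add, neg_add_cancel, T.zero, mul_one]

/-- Conjugation by a pair, in the chosen order. -/
theorem cj2 {r r' b : ℕ} (hr : r < S.n) (hr' : r' < S.n) (hb : b ≤ S.n) (h1 : b ≠ S.ng r)
    (h2 : b ≠ S.ng r') (h3 : S.sm r b ≠ S.ng r') (s s' t : K) :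
    X b t * (X r s * X r' s') = X r s * X r' s' *
      (X (S.sm r' (S.sm r b)) (S.sgn K r' (S.sm r b) * s' * (S.sgn K r b * s * t)) *
        X (S.sm r b) (-(S.sgn K r b * s * t)) *
        (X (S.sm r' b) (-(S.sgn K r' b * s' * t)) * X b t)) := by
  rw [← mul_assoc, T.cj hr hb h1, mul_assoc, mul_assoc, T.cj hr' hb h2, ← mul_assoc (X (S.sm r b) _),
    T.cj hr' (T.sm_le r b) h3]
  simp only [mul_assoc, mul_neg, neg_neg]

theorem σ_ne {r b : ℕ} (hr : r < S.n) (h : b ≠ S.ng r) : σ b ≠ S.ng (σ r) := fun he =>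
  h (by rw [← T.σσ b, he, T.σng r hr, T.σσ])

theorem σsm' {r b : ℕ} (hr : r < S.n) (hb : b ≤ S.n) : S.sm (σ r) (σ b) = σ (S.sm r b) := by
  rcases eq_or_lt_of_le hb with rfl | hb'
  · rw [T.σn S.n le_rfl, T.sm_out, T.sm_out, T.σn S.n le_rfl]
  · exact T.σsm r b hr hb'

theorem σle {b : ℕ} (hb : b ≤ S.n) : σ b ≤ S.n := by
  rcases eq_or_lt_of_le hb with rfl | hb'
  · rw [T.σn S.n le_rfl]
  · exact (T.σlt b hb').le

/-- The image of a coefficient. -/
theorem pr_coef {r b : ℕ} (hr : r < S.n) (hb : b ≤ S.n) (s t : K) :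
    X (σ (S.sm r b)) (-(S.sgn K (σ r) (σ b) * pr θ e r s * pr θ e b t)) =
      X (σ (S.sm r b)) (pr θ e (S.sm r b) (-(S.sgn K r b * s * t))) := by
  by_cases hn : S.sm r b = S.n
  · rw [hn, T.σn S.n le_rfl, T.out S.n _ le_rfl, T.out S.n _ le_rfl]
  have hb' : b < S.n := lt_of_le_of_ne hb fun h => hn (by rw [h, T.sm_out])
  congr 1
  simp only [pr, map_neg, map_mul, sgn_fix]
  linear_combination (θ s * θ t) * T.esum r b hr hb' hn

/-- The relation of two fixed products. -/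
theorem zel_conj {r b : ℕ} (hr : r < S.n) (hb : b < S.n) (h1 : b ≠ S.ng r) (h2 : b ≠ S.ng (σ r))
    (h3 : S.sm r b ≠ S.ng (σ r)) (s t : K) :
    zel σ θ e X b t * zel σ θ e X r s = zel σ θ e X r s *
      ((X (S.sm (σ r) (S.sm r b))
            (S.sgn K (σ r) (S.sm r b) * pr θ e r s * (S.sgn K r b * s * t)) *
          X (S.sm r b) (-(S.sgn K r b * s * t)) *
          (X (S.sm (σ r) b) (-(S.sgn K (σ r) b * pr θ e r s * t)) * X b t)) *
        (X (σ (S.sm (σ r) (S.sm r b))) (pr θ e (S.sm (σ r) (S.sm r b))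
            (S.sgn K (σ r) (S.sm r b) * pr θ e r s * (S.sgn K r b * s * t))) *
          X (σ (S.sm r b)) (pr θ e (S.sm r b) (-(S.sgn K r b * s * t))) *
          (X (σ (S.sm (σ r) b)) (pr θ e (S.sm (σ r) b) (-(S.sgn K (σ r) b * pr θ e r s * t))) *
            X (σ b) (pr θ e b t)))) := by
  have hσr := T.σlt r hr
  have k1 : σ b ≠ S.ng (σ r) := T.σ_ne hr h1
  have k2 : σ b ≠ S.ng r := by have := T.σ_ne hσr h2; rwa [T.σσ] at this
  have k3 : S.sm (σ r) (σ b) ≠ S.ng r := by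
    rw [T.σsm' hr hb.le]
    have := T.σ_ne hσr h3
    rwa [T.σσ] at this
  have e1 := T.cj2 hr hσr hb.le h1 h2 h3 s (pr θ e r s) t
  have e2 := T.cj2 hσr hr (T.σlt b hb).le k1 k2 k3 (pr θ e r s) s (pr θ e b t)
  have eb : S.sm r (σ b) = σ (S.sm (σ r) b) := by rw [← T.σsm' hσr hb.le, T.σσ]
  have ec : S.sm r (σ (S.sm r b)) = σ (S.sm (σ r) (S.sm r b)) := by
    rw [← T.σsm' hσr (T.sm_le r b), T.σσ]
  rw [T.σsm' hr hb.le, eb, ec, ← (T.pairComm r s (pr θ e r s)).eq] at e2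
  have p1 := T.pr_coef hr hb.le s t
  have p2 := T.pr_coef hσr hb.le (pr θ e r s) t
  rw [T.σσ, T.pr_pr] at p2
  rw [p1, p2] at e2
  have p3 := T.pr_coef hσr (T.sm_le r b) (pr θ e r s) (-(S.sgn K r b * s * t))
  rw [T.σσ, T.pr_pr] at p3
  have p3' : X (σ (S.sm (σ r) (S.sm r b)))
      (S.sgn K r (σ (S.sm r b)) * s * (S.sgn K (σ r) (σ b) * pr θ e r s * pr θ e b t)) =
      X (σ (S.sm (σ r) (S.sm r b))) (pr θ e (S.sm (σ r) (S.sm r b))
        (S.sgn K (σ r) (S.sm r b) * pr θ e r s * (S.sgn K r b * s * t))) := by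
    by_cases hn : S.sm r b = S.n
    · rw [hn, T.sm_out, T.σn S.n le_rfl, T.out S.n _ le_rfl, T.out S.n _ le_rfl]
    by_cases hn3 : S.sm (σ r) (S.sm r b) = S.n
    · rw [hn3, T.σn S.n le_rfl, T.out S.n _ le_rfl, T.out S.n _ le_rfl]
    congr 1
    have hu := lt_of_le_of_ne (T.sm_le r b) hn
    have q1 := T.esum r b hr hb hn
    have q2 := T.esum (σ r) (S.sm r b) hσr hu hn3
    rw [T.σσ, T.eσ] at q2
    simp only [pr, map_mul, sgn_fix, T.θe, T.θθ]
    linear_combination (-(e r * s * θ s * θ t * S.sgn K r b)) * q2 +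
      (-(e r * e r * s * θ s * θ t * S.sgn K r (σ (S.sm r b)))) * q1 +
      (-(S.sgn K r (σ (S.sm r b)) * s * S.sgn K (σ r) (σ b) * e r * θ s * e b * θ t)) * T.ee r
  rw [p3'] at e2
  show X b t * X (σ b) (pr θ e b t) * (X r s * X (σ r) (pr θ e r s)) =
    X r s * X (σ r) (pr θ e r s) * _
  rw [mul_assoc (X b t), e2, ← mul_assoc (X b t), e1]
  simp only [mul_assoc]

end Tw

/-- Eight commuting factors, regrouped. -/
theorem regroup {M : Type*} [Monoid M] {a a' b b' c c' d d' : M} (hc : Commute c b') (hd : Commute d b')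
    (hca : Commute c a') (hda : Commute d a') (hba : Commute b a') (hdc : Commute d c') :
    a * b * (c * d) * (a' * b' * (c' * d')) = a * a' * (b * b') * (c * c' * (d * d')) := by
  rw [show a * b * (c * d) * (a' * b' * (c' * d')) = a * (b * (c * (d * a'))) * (b' * (c' * d')) by
      simp only [mul_assoc], hda.eq, ← mul_assoc c a', hca.eq, mul_assoc a' c, ← mul_assoc b a', hba.eq]
  simp only [mul_assoc]
  rw [← mul_assoc d b', hd.eq, mul_assoc b' d, ← mul_assoc c b', hc.eq, mul_assoc b' c,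
    ← mul_assoc d c', hdc.eq, mul_assoc c' d]

end Cfsg.Agent.SimpleFacts.MinDegTw
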