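import Cfsg.Agent.SimpleFacts.MinDegTw.GRel
import Cfsg.Agent.SimpleFacts.MinDegTw.Chr

/-!
A homomorphism on a subgroup, restricted to the range of an idempotent, and conjugate fixed root
elements.
-/

set_option autoImplicit false
set_option linter.unusedSectionVars false

namespace Cfsg.Agent.SimpleFacts.MinDegTw

open Cfsg.Agent.SimpleFacts.MinDegExc (Sys res res_mul res_one)

variable {K : Type*} [Field K] [Fintype K] {G : Type*} [Group G]
variable {S : Sys} {σ : ℕ → ℕ} {θ : K →+* K} {e : ℕ → K} {q : ℕ} {X : ℕ → K → G}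
variable {V : Type*} [AddCommGroup V] [Module ℂ V] [FiniteDimensional ℂ V]
variable {H : Subgroup G}

/-- The members whose operator commutes with `E`. -/
def centH (ρ : H →* Module.End ℂ V) (E : Module.End ℂ V) : Subgroup G where
  carrier := {g | ∃ h : g ∈ H, Commute (ρ ⟨g, h⟩) E}
  one_mem' := ⟨one_mem H, by
    rw [show (⟨1, one_mem H⟩ : H) = 1 from rfl, map_one]; exact Commute.one_left E⟩
  mul_mem' := by
    rintro a b ⟨ha, ca⟩ ⟨hb, cb⟩
    refine ⟨mul_mem ha hb, ?_⟩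
    rw [show (⟨a * b, mul_mem ha hb⟩ : H) = ⟨a, ha⟩ * ⟨b, hb⟩ from rfl, map_mul]
    exact ca.mul_left cb
  inv_mem' := by
    rintro a ⟨ha, ca⟩
    refine ⟨inv_mem ha, ?_⟩
    rw [show (⟨a⁻¹, inv_mem ha⟩ : H) = (⟨a, ha⟩ : H)⁻¹ from rfl]
    have h1 : ρ (⟨a, ha⟩ : H)⁻¹ * ρ ⟨a, ha⟩ = 1 := by rw [← map_mul, inv_mul_cancel, map_one]
    have h2 : ρ ⟨a, ha⟩ * ρ (⟨a, ha⟩ : H)⁻¹ = 1 := by rw [← map_mul, mul_inv_cancel, map_one]
    generalize ρ (⟨a, ha⟩ : H)⁻¹ = A' at h1 h2 ⊢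
    show A' * E = E * A'
    calc A' * E = A' * (E * ρ ⟨a, ha⟩) * A' := by rw [mul_assoc A', mul_assoc E, h2, mul_one]
      _ = E * A' := by rw [← ca.eq, ← mul_assoc A', h1, one_mul]

/-- The restricted homomorphism. -/
noncomputable def resHom (ρ : H →* Module.End ℂ V) (E : Module.End ℂ V) :
    centH ρ E →* Module.End ℂ (LinearMap.range E) where
  toFun g := res E (ρ ⟨g.1, g.2.choose⟩)
  map_one' := by
    show res E (ρ ⟨(1 : G), _⟩) = 1
    rw [show (⟨(1 : G), _⟩ : H) = 1 from rfl, map_one, res_one]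
  map_mul' g h := by
    rw [← res_mul g.2.choose_spec h.2.choose_spec, ← map_mul]
    rfl

theorem resHom_apply (ρ : H →* Module.End ℂ V) {E : Module.End ℂ V} {g : G} (h : g ∈ centH ρ E)
    (hg : g ∈ H) : resHom ρ E ⟨g, h⟩ = res E (ρ ⟨g, hg⟩) := rfl

/-- The operators of the restricted homomorphism. -/
theorem Wof_res (ρ : H →* Module.End ℂ V) (E : Module.End ℂ V) :
    Wof σ θ e X (resHom ρ E) = fun r t => res E (Wof σ θ e X ρ r t) := by
  funext r t
  by_cases h : zel σ θ e X r t ∈ H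
  · by_cases hc : Commute (ρ ⟨_, h⟩) E
    · rw [Wof_eq (resHom ρ E) (show zel σ θ e X r t ∈ centH ρ E from ⟨h, hc⟩), Wof_eq ρ h]
      rfl
    · rw [Wof, dif_neg fun hm => hc hm.choose_spec, Wof_eq ρ h, res, dif_neg hc]
  · rw [Wof, dif_neg fun hm => h hm.choose, Wof, dif_neg h, res_one]

theorem mem_centH (ρ : H →* Module.End ℂ V) {E : Module.End ℂ V} {r : ℕ} {t : K}
    (h : zel σ θ e X r t ∈ H) (hc : Commute (Wof σ θ e X ρ r t) E) :
    zel σ θ e X r t ∈ centH ρ E :=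
  ⟨h, by rwa [Wof_eq ρ h] at hc⟩

/-- Fixed root elements of the two orbits are conjugate by members of `H`. -/
def Conn (θ : K →+* K) (X : ℕ → K → G) (H : Subgroup G) (u v : ℕ) : Prop :=
  ∀ a b : K, θ a = a → θ b = b → a ≠ 0 → b ≠ 0 → ∃ g ∈ H, g * X u a = X v b * g

theorem Conn.trans (h : Fr θ q) {u v w : ℕ} (h1 : Conn θ X H u v) (h2 : Conn θ X H v w) :
    Conn θ X H u w := by
  intro a b ha hb ha0 hb0
  obtain ⟨g, hg, e1⟩ := h1 a 1 ha (map_one θ) ha0 one_ne_zero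
  obtain ⟨g', hg', e2⟩ := h2 1 b (map_one θ) hb one_ne_zero hb0
  exact ⟨g' * g, mul_mem hg' hg, by rw [mul_assoc, e1, ← mul_assoc, e2, mul_assoc]⟩

theorem Conn.symm {u v : ℕ} (h1 : Conn θ X H u v) : Conn θ X H v u := by
  intro a b ha hb ha0 hb0
  obtain ⟨g, hg, e1⟩ := h1 b a hb ha hb0 ha0
  refine ⟨g⁻¹, inv_mem hg, ?_⟩
  rw [eq_mul_inv_iff_mul_eq, mul_assoc, inv_mul_eq_iff_eq_mul, e1]

theorem Conn.mono {H' : Subgroup G} {u v : ℕ} (h1 : Conn θ X H u v) (h : H ≤ H') :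
    Conn θ X H' u v := fun a b ha hb ha0 hb0 => by
  obtain ⟨g, hg, e1⟩ := h1 a b ha hb ha0 hb0
  exact ⟨g, h hg, e1⟩

/-- Every fixed element is a norm. -/
theorem Fr.norm_surj (h : Fr θ q) {n : K} (hn : θ n = n) : ∃ s, s * θ s = n := by
  classical
  by_cases hn0 : n = 0
  · exact ⟨0, by rw [zero_mul, hn0]⟩
  obtain ⟨m, rfl⟩ : ∃ m, q = m + 1 := ⟨q - 1, by have := h.two; omega⟩
  obtain ⟨T, hT⟩ : ∃ T, T = ((Finset.univ : Finset K).erase 0).image fun s => s * θ s := ⟨_, rfl⟩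
  have hsub : T ⊆ (fixSet θ).erase 0 := by
    intro x hx
    rw [hT, Finset.mem_image] at hx
    obtain ⟨s, hs, rfl⟩ := hx
    rw [Finset.mem_erase, mem_fixSet, map_mul, h.inv, mul_comm (θ s)]
    exact ⟨mul_ne_zero (Finset.ne_of_mem_erase hs) ((map_ne_zero θ).2 (Finset.ne_of_mem_erase hs)),
      rfl⟩
  have hfib : ∀ x ∈ T,
      (((Finset.univ : Finset K).erase 0).filter fun s => s * θ s = x).card ≤ m + 2 := by
    intro x _
    open Polynomial in
    have hd : (X ^ (m + 2) - Polynomial.C x : K[X]).natDegree = m + 2 := natDegree_X_pow_sub_C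
    refine le_trans (Finset.card_le_card
      (t := (Polynomial.X ^ (m + 2) - Polynomial.C x : Polynomial K).roots.toFinset) ?_)
      ((Multiset.toFinset_card_le _).trans (hd ▸ Polynomial.card_roots' _))
    intro s hs
    rw [Finset.mem_filter] at hs
    rw [Multiset.mem_toFinset, Polynomial.mem_roots fun e => by
      rw [e, Polynomial.natDegree_zero] at hd; omega, Polynomial.IsRoot]
    simp only [Polynomial.eval_sub, Polynomial.eval_pow, Polynomial.eval_X, Polynomial.eval_C,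
      sub_eq_zero]
    rw [← hs.2, h.pow, pow_succ' s (m + 1)]
  have hle := Finset.card_le_mul_card_image (s := (Finset.univ : Finset K).erase 0)
    (f := fun s => s * θ s) (m + 2) (fun x hx => hfib x (hT ▸ hx))
  rw [← hT, Finset.card_erase_of_mem (Finset.mem_univ _), Finset.card_univ, h.card] at hle
  have hc : ((fixSet θ).erase 0).card = m := by
    rw [Finset.card_erase_of_mem (by rw [mem_fixSet, map_zero]), h.card_fix]; rfl
  have hm : m ≤ T.card := by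
    have : (m + 1) ^ 2 = (m + 2) * m + 1 := by ring
    rw [this, Nat.add_sub_cancel] at hle
    exact Nat.le_of_mul_le_mul_left hle (by omega)
  have := Finset.eq_of_subset_of_card_le hsub (by rw [hc]; exact hm)
  have hmem : n ∈ T := by rw [this, Finset.mem_erase, mem_fixSet]; exact ⟨hn0, hn⟩
  rw [hT, Finset.mem_image] at hmem
  obtain ⟨s, -, hs⟩ := hmem
  exact ⟨s, hs⟩

namespace Tw

variable (T : Tw S σ θ e X)
include T

/-- A step along a fixed root. -/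
theorem conn_fixed {r u v : ℕ} (h : adj1 S r u v = true) (hσ : σ r = r) {l : K} (hl : l + θ l = 1)
    (hH : ∀ x, x = r ∨ x = S.ng r → ∀ t, zel σ θ e X x t ∈ H) : Conn θ X H u v := by
  intro a b ha hb ha0 hb0
  obtain ⟨s, t, e1⟩ := T.adj_fixed h hσ hl ha hb ha0 hb0
  exact ⟨_, mul_mem (hH _ (Or.inr rfl) s) (hH _ (Or.inl rfl) t), e1⟩

/-- A step along a pair. -/
theorem conn_pair (hq : Fr θ q) {r u m v : ℕ} (h : adj2 S σ r u m v = true) (hu : σ u = u)
    (heng : e (S.ng r) = e r)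
    (hH : ∀ x, x = r ∨ x = S.ng r → ∀ t, zel σ θ e X x t ∈ H) : Conn θ X H u v := by
  intro a b ha hb ha0 hb0
  obtain ⟨C, hC⟩ : ∃ C, C = S.sgn K (σ r) m * S.sgn K r u * e r := ⟨_, rfl⟩
  have hCf : θ C = C := by rw [hC, map_mul, map_mul, sgn_fix, sgn_fix, T.θe]
  have hC0 : C ≠ 0 := by
    rw [hC]
    refine mul_ne_zero (mul_ne_zero (S.sgn_ne _ _) (S.sgn_ne _ _)) fun h0 => ?_
    have := T.ee r
    rw [h0, mul_zero] at this
    exact zero_ne_one this
  obtain ⟨t0, ht0⟩ := hq.norm_surj (n := b / (C * a)) (by rw [map_div₀, map_mul, hCf, hb, ha])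
  obtain ⟨s, t, e1⟩ := T.adj_pair h hu heng ha0 hb0
    ⟨t0, by rw [← hC, ht0]; field_simp⟩
  exact ⟨_, mul_mem (hH _ (Or.inr rfl) s) (hH _ (Or.inl rfl) t), e1⟩

/-- Conjugate fixed root elements have equal traces. -/
theorem trace_conn (hq : Fr θ q) (ρ : H →* Module.End ℂ V) {u v : ℕ} (hu : σ u = u) (hv : σ v = v)
    (h : Conn θ X H u v) {t t' : K} (ht : t + θ t ≠ 0) (ht' : t' + θ t' ≠ 0)
    (h1 : zel σ θ e X u t ∈ H) (h2 : zel σ θ e X v t' ∈ H) :
    LinearMap.trace ℂ V (Wof σ θ e X ρ u t) = LinearMap.trace ℂ V (Wof σ θ e X ρ v t') := by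
  have hf : ∀ x : K, θ (x + θ x) = x + θ x := fun x => by rw [map_add, hq.inv, add_comm]
  obtain ⟨g, hg, e1⟩ := h _ _ (hf t) (hf t') ht ht'
  rw [← T.zel_fix hu, ← T.zel_fix hv] at e1
  have e2 : ρ ⟨g, hg⟩ * Wof σ θ e X ρ u t = Wof σ θ e X ρ v t' * ρ ⟨g, hg⟩ := by
    rw [Wof_eq ρ h1, Wof_eq ρ h2, ← map_mul, ← map_mul]
    exact congrArg ρ (Subtype.ext e1)
  obtain ⟨g', hg'⟩ : ∃ g', g' = ρ (⟨g, hg⟩ : H)⁻¹ := ⟨_, rfl⟩
  have e3 : Wof σ θ e X ρ v t' = ρ ⟨g, hg⟩ * (Wof σ θ e X ρ u t * g') := by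
    rw [← mul_assoc, e2, mul_assoc, hg', ← map_mul, mul_inv_cancel, map_one, mul_one]
  rw [e3, LinearMap.trace_mul_comm, mul_assoc, hg', ← map_mul ρ, inv_mul_cancel, map_one, mul_one]

end Tw

end Cfsg.Agent.SimpleFacts.MinDegTw
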