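import Cfsg.Agent.SimpleFacts.MinDegTw.Sums

/-!
A polarisation of the radical on the space of a central character: shifts and the functions invariant
under them.
-/

set_option autoImplicit false
set_option linter.unusedSectionVars false

namespace Cfsg.Agent.SimpleFacts.MinDegTw

open scoped BigOperators
open Cfsg.Agent.SimpleFacts.MinDegExc (Sys Fam Moves)

variable {K : Type*} [Field K] [Fintype K] {V : Type*} [AddCommGroup V] [Module ℂ V]
variable [FiniteDimensional ℂ V]
variable {S : Sys} {σ : ℕ → ℕ} {θ : K →+* K} {e : ℕ → K} {q : ℕ} {pv : TLvl}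
variable {W : ℕ → K → Module.End ℂ V} {ψ : AddChar K ℂ} {l : K}

/-- The representatives are legitimate. -/
def repChk (σ : ℕ → ℕ) (pv : TLvl) (rep : List ℕ) : Bool :=
  decide rep.Nodup && ((rep.all fun b => pv.R.contains b) &&
  ((rep.all fun b => σ b == b || !rep.contains (σ b)) &&
  pv.R.all fun d => rep.contains d || rep.contains (σ d)))

/-- The shift by `κ` at the orbit of `b`. -/
def shf (σ : ℕ → ℕ) (θ : K →+* K) (e : ℕ → K) (pv : TLvl) (b : ℕ) (κ : K) : Co pv → K :=
  fun d => if d.1 = b then (if σ b = b then κ + θ κ else κ)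
    else if d.1 = σ b then e b * θ κ else 0

/-- The character with given values at the representatives. -/
def ext (σ : ℕ → ℕ) (θ : K →+* K) (e : ℕ → K) (pv : TLvl) (rep : List ℕ)
    (z : {b // b ∈ rep} → K) : Co pv → K :=
  fun d => if h : d.1 ∈ rep then z ⟨_, h⟩
    else if h' : σ d.1 ∈ rep then e d.1 * θ (z ⟨_, h'⟩) else 0

namespace TCtx

variable (C : TCtx S σ θ e q pv ψ l W)
include C

theorem rep_facts {rep : List ℕ} (h : repChk σ pv rep = true) : rep.Nodup ∧ (∀ b ∈ rep, b ∈ pv.R) ∧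
    (∀ b ∈ rep, σ b ≠ b → σ b ∉ rep) ∧ ∀ d ∈ pv.R, d ∈ rep ∨ σ d ∈ rep := by
  simp only [repChk, Bool.and_eq_true, List.all_eq_true, decide_eq_true_eq, Bool.or_eq_true,
    Bool.not_eq_true', beq_iff_eq, List.contains_iff_mem, ← Bool.not_eq_true] at h
  exact ⟨h.1, h.2.1, fun b hb hne => (h.2.2.1 b hb).resolve_left hne, h.2.2.2⟩

theorem eσR {d : ℕ} (hd : d ∈ pv.R) {y : Co pv → K} (hy : Adm σ θ e pv y) :
    gv pv y d = e (σ d) * θ (gv pv y (σ d)) := by
  have h := hy (σ d) (C.σR hd)
  rwa [C.σσ hd] at h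

/-- The symmetry of the signs on the radical. -/
theorem e_sym {d : ℕ} (hd : d ∈ pv.R) {y : Co pv → K} (hy : Adm σ θ e pv y)
    (hne : gv pv y d ≠ 0) : e (σ d) = e d := by
  have h1 := hy d hd
  have h2 := C.eσR hd hy
  rw [h1, map_mul, C.θe, C.fr.inv, ← mul_assoc] at h2
  have h3 : e (σ d) * e d = 1 := by
    refine mul_right_cancel₀ hne ?_
    rw [one_mul]; exact h2.symm
  calc e (σ d) = e (σ d) * (e d * e d) := by rw [C.ee, mul_one]
    _ = e d := by rw [← mul_assoc, h3, one_mul]

open _root_.Classical in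
/-- A function invariant under the shifts of `J` is constant along them. -/
theorem shf_const {rep : List ℕ} (hrep : repChk σ pv rep = true) {M : Type*}
    (f : (Co pv → K) → M) (J : Finset ℕ) (hJ : ∀ b ∈ J, b ∈ rep)
    (hf : ∀ b ∈ J, ∀ κ z, f (fun d => z d - shf σ θ e pv b κ d) = f z)
    {y : Co pv → K} (hy : Adm σ θ e pv y) :
    f y = f (fun d => if d.1 ∈ J ∨ σ d.1 ∈ J then 0 else y d) := by
  obtain ⟨-, hR, hpair, -⟩ := C.rep_facts hrep
  induction J using Finset.induction with
  | empty => simp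
  | insert b J hbJ ih =>
    rw [ih (fun x hx => hJ x (Finset.mem_insert_of_mem hx))
      (fun x hx => hf x (Finset.mem_insert_of_mem hx))]
    have hb := hJ b (Finset.mem_insert_self _ _)
    have hbR := hR b hb
    have hJσ : σ b ∉ J := fun h => by
      by_cases hσ : σ b = b
      · exact hbJ (hσ ▸ h)
      · exact hpair b hb hσ (hJ _ (Finset.mem_insert_of_mem h))
    obtain ⟨κ, hκ⟩ : ∃ κ, κ = (if σ b = b then l else 1) * gv pv y b := ⟨_, rfl⟩
    conv_lhs => rw [← hf b (Finset.mem_insert_self _ _) κ]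
    congr 1
    funext d
    have hd := d.2
    simp only [shf, Finset.mem_insert]
    by_cases hdb : d.1 = b
    · rw [if_pos hdb, if_pos (Or.inl (Or.inl hdb)),
        if_neg (by rw [hdb]; rintro (h | h); exacts [hbJ h, hJσ h]), ← gv_mem y hd, hdb]
      by_cases hσ : σ b = b
      · have h := hy b hbR
        rw [hσ, C.efix b hσ, one_mul] at h
        rw [if_pos hσ, hκ, if_pos hσ, map_mul, ← h, ← add_mul, C.chr.lam, one_mul, sub_self]
      · rw [if_neg hσ, hκ, if_neg hσ, one_mul, sub_self]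
    rw [if_neg hdb]
    by_cases hdσ : d.1 = σ b
    · have hσd : σ d.1 = b := by rw [hdσ, C.σσ hbR]
      have hne : σ b ≠ b := fun h => hdb (hdσ.trans h)
      rw [if_pos hdσ, if_pos (Or.inr (Or.inl hσd)),
        if_neg (by rw [hσd, hdσ]; rintro (h | h); exacts [hJσ h, hbJ h]), ← gv_mem y hd, hdσ,
        hy b hbR, hκ, if_neg hne, one_mul, sub_self]
    rw [if_neg hdσ, sub_zero]
    have hσd : σ d.1 ≠ b := fun h => hdσ (by rw [← h, C.σσ hd])
    simp only [hdb, hσd, false_or]

theorem gv_ext {rep : List ℕ} (z : {b // b ∈ rep} → K) {d : ℕ} (hd : d ∈ pv.R) :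
    gv pv (ext σ θ e pv rep z) d = if h : d ∈ rep then z ⟨_, h⟩
      else if h' : σ d ∈ rep then e d * θ (z ⟨_, h'⟩) else 0 := by
  rw [gv_mem _ hd]; rfl

open _root_.Classical in
/-- Sums over the symmetric characters. -/
theorem sum_adm {rep : List ℕ} (hrep : repChk σ pv rep = true)
    (hσe : ∀ b ∈ pv.R, e (σ b) = e b) (f : (Co pv → K) → ℂ)
    (hf : ∀ y, f y ≠ 0 → Adm σ θ e pv y) :
    ∑ y, f y = ∑ z ∈ Fintype.piFinset (fun b : {b // b ∈ rep} =>
      if σ b.1 = b.1 then fixSet θ else (Finset.univ : Finset K)), f (ext σ θ e pv rep z) := by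
  obtain ⟨-, hR, hpair, hcov⟩ := C.rep_facts hrep
  rw [← Finset.sum_filter_ne_zero (s := Finset.univ), ← Finset.sum_filter_ne_zero
    (s := Fintype.piFinset _)]
  have hext : ∀ y : Co pv → K, Adm σ θ e pv y →
      ext σ θ e pv rep (fun b => gv pv y b.1) = y := fun y hy => by
    refine ext_gv fun d hd => ?_
    rw [C.gv_ext _ hd]
    split_ifs with h h'
    · rfl
    · rw [C.eσR hd hy, hσe d hd]
    · exact absurd ((hcov d hd).resolve_left h) h'
  refine Finset.sum_bij' (fun y _ b => gv pv y b.1) (fun z _ => ext σ θ e pv rep z) ?_ ?_ ?_ ?_ ?_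
  · intro y hy
    simp only [Finset.mem_filter, Finset.mem_univ, true_and] at hy
    simp only [Finset.mem_filter, Fintype.mem_piFinset]
    refine ⟨fun b => ?_, by rwa [hext y (hf y hy)]⟩
    split_ifs with hσ
    · have h := hf y hy b.1 (hR _ b.2)
      rw [hσ, C.efix _ hσ, one_mul] at h
      rw [mem_fixSet]; exact h.symm
    · exact Finset.mem_univ _
  · intro z hz
    simp only [Finset.mem_filter, Finset.mem_univ, true_and]
    exact (Finset.mem_filter.1 hz).2
  · intro y hy
    exact hext y (hf y (Finset.mem_filter.1 hy).2)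
  · intro z hz
    funext b
    rw [C.gv_ext _ (hR _ b.2), dif_pos b.2]
  · intro y hy
    rw [hext y (hf y (Finset.mem_filter.1 hy).2)]

open _root_.Classical in
theorem weight_prod {rep : List ℕ} (hnd : rep.Nodup) :
    (∏ b : {b // b ∈ rep},
      (if σ b.1 = b.1 then fixSet θ else (Finset.univ : Finset K)).card) = q ^ weight σ rep := by
  have h1 : ∀ b : {b // b ∈ rep},
      (if σ b.1 = b.1 then fixSet θ else (Finset.univ : Finset K)).card =
        q ^ (if σ b.1 == b.1 then 1 else 2) := fun b => by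
    by_cases hσ : σ b.1 = b.1
    · rw [if_pos hσ, C.fr.card_fix, if_pos (by simpa using hσ), pow_one]
    · rw [if_neg hσ, Finset.card_univ, C.fr.card, if_neg (by simpa using hσ)]
  rw [Finset.prod_congr rfl fun b _ => h1 b, Finset.prod_pow_eq_pow_sum, weight,
    ← List.sum_toFinset _ hnd]
  exact congrArg (q ^ ·) (Finset.sum_subtype rep.toFinset (fun x => List.mem_toFinset)
    (fun b => if σ b == b then 1 else 2)).symm

/-- The extensions are symmetric. -/
theorem adm_ext {rep : List ℕ} (hrep : repChk σ pv rep = true) (hσe : ∀ b ∈ pv.R, e (σ b) = e b)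
    {z : {b // b ∈ rep} → K} (hz : ∀ b : {b // b ∈ rep}, σ b.1 = b.1 → θ (z b) = z b) :
    Adm σ θ e pv (ext σ θ e pv rep z) := by
  obtain ⟨-, -, hpair, hcov⟩ := C.rep_facts hrep
  intro d hd
  rw [C.gv_ext _ hd, C.gv_ext _ (C.σR hd)]
  by_cases h : d ∈ rep
  · by_cases hσ : σ d = d
    · simp only [hσ, dif_pos h, C.efix d hσ, one_mul, hz ⟨d, h⟩ hσ]
    · rw [dif_neg (hpair d h hσ), dif_pos h, dif_pos (by rw [C.σσ hd]; exact h), hσe d hd]
      congr 1
      exact congrArg (fun x => θ (z x)) (Subtype.ext (C.σσ hd))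
  · have h' := (hcov d hd).resolve_left h
    rw [dif_pos h', dif_neg h, dif_pos h', map_mul, C.θe, C.fr.inv, ← mul_assoc, C.ee, one_mul]

open _root_.Classical in
/-- The dimension, from the multiplicity at zero. -/
theorem finrank_pol {rep : List ℕ} (hrep : repChk σ pv rep = true)
    (hσe : ∀ b ∈ pv.R, e (σ b) = e b)
    (hinv : ∀ b ∈ rep, ∀ κ z, C.fam.m ψ (fun d => z d - shf σ θ e pv b κ d) = C.fam.m ψ z) :
    q ^ weight σ rep * C.fam.m ψ 0 = Module.finrank ℂ V := by
  obtain ⟨hnd, hR, -, hcov⟩ := C.rep_facts hrep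
  have h0 : ∀ y, Adm σ θ e pv y → C.fam.m ψ y = C.fam.m ψ 0 := fun y hy => by
    rw [C.shf_const hrep (C.fam.m ψ) rep.toFinset (fun b hb => List.mem_toFinset.1 hb)
      (fun b hb => hinv b (List.mem_toFinset.1 hb)) hy]
    congr 1
    funext d
    rw [if_pos (by simpa [List.mem_toFinset] using hcov d.1 d.2)]
    rfl
  have hsum := C.sum_adm hrep hσe (fun y => (C.fam.m ψ y : ℂ))
    (fun y hy => C.adm_of_m fun h => hy (by rw [h, Nat.cast_zero]))
  rw [← Nat.cast_sum, C.fam.sum_m C.chr.ne, Finset.sum_congr rfl (g := fun _ => (C.fam.m ψ 0 : ℂ))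
    fun z hz => ?_, Finset.sum_const, Fintype.card_piFinset, nsmul_eq_mul, C.weight_prod hnd] at hsum
  · exact_mod_cast hsum.symm
  · simp only [Fintype.mem_piFinset] at hz
    norm_cast
    refine h0 _ (C.adm_ext hrep hσe fun b hσ => ?_)
    have hz' := hz b
    rwa [if_pos hσ, mem_fixSet] at hz'

end TCtx

end Cfsg.Agent.SimpleFacts.MinDegTw
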