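import Cfsg.Agent.SimpleFacts.MinDegTw.Pol
import Cfsg.Agent.SimpleFacts.MinDegTw.Hom
import Cfsg.Agent.SimpleFacts.MinDegTw.GOps

/-!
The centre of the radical: its characters, the traces of radical elements and the trace of the root of
the complement on the space of a non-trivial central character.
-/

set_option autoImplicit false
set_option linter.unusedSectionVars false

namespace Cfsg.Agent.SimpleFacts.MinDegTw

open scoped BigOperators
open Cfsg.Agent.SimpleFacts.MinDegExc (Sys Fam Moves res res_mul res_one res_val trace_res)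

/-- The data of a radical with a centre. -/
structure TTop where
  th : ℕ
  a : ℕ
  lv : TLvl
  pv : TLvl
  rep : List ℕ
  free : List ℕ
  xb : ℕ
  ph : ℕ × ℕ

/-- The partner in the radical. -/
def TTop.bs (S : Sys) (P : TTop) (b : ℕ) : ℕ := S.sm P.th (S.ng b)

/-- The conditions at the centre. -/
def TTop.zChk (S : Sys) (σ : ℕ → ℕ) (P : TTop) : Bool :=
  Nat.blt P.th S.n && ((σ P.th == P.th) &&
  (((P.lv.R ++ P.lv.L).all fun r => cmz S σ r P.th) &&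
  ((P.lv.R.all fun x => P.lv.R.all fun y =>
      cm S x y || (Nat.blt x S.n && (Nat.blt y S.n && (S.sm x y == P.th)))) &&
  ((P.lv.R.all fun b => !(σ b == b) || (P.lv.inR (P.bs S b) && pairsTo S σ (P.bs S b) b P.th)) &&
  (P.lv.baseChk S σ && ((σ P.a == P.a) && P.lv.L.contains P.a))))))

/-- The conditions at the polarisation. -/
def TTop.polChk (S : Sys) (σ : ℕ → ℕ) (P : TTop) : Bool :=
  P.pv.baseChk S σ && ((P.pv.R.all fun x => P.lv.inR x) &&
  ((P.pv.L.all fun r => P.lv.L.contains r) &&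
  ((P.pv.R.all fun x => P.pv.R.all fun y => cm S x y) &&
  (repChk σ P.pv P.rep &&
  ((P.rep.all fun b => P.lv.inR (P.bs S b) && (pairsTo S σ (P.bs S b) b P.th &&
      P.pv.R.all fun d => d == b || d == σ b || cmz S σ (P.bs S b) d)) &&
  ((P.free.all fun b => P.rep.contains b && (cmz S σ P.a (P.bs S b) && !(b == P.xb))) &&
  (P.rep.contains P.xb && (!(σ P.xb == P.xb) &&
  (threeChk S σ P.a (P.bs S P.xb) (σ P.xb) P.th &&
  ((P.rep.all fun b => P.free.contains b || b == P.xb || P.pv.R.any fun c => S.sm P.a c == b) &&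
  (P.pv.L.contains P.a && (P.pv.L.contains P.ph.1 && (P.pv.L.contains P.ph.2 &&
  (pairsTo S σ P.ph.1 P.ph.2 P.a && !(σ P.ph.2 == P.ph.2)))))))))))))))

variable {K : Type*} [Field K] [Fintype K] {G : Type*} [Group G]
variable {V : Type*} [AddCommGroup V] [Module ℂ V] [FiniteDimensional ℂ V]
variable {S : Sys} {σ : ℕ → ℕ} {θ : K →+* K} {e : ℕ → K} {q : ℕ} {X : ℕ → K → G}
variable {H : Subgroup G} {ρ : H →* Module.End ℂ V} {ψ : AddChar K ℂ} {l : K} {P : TTop}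

/-- The standing hypotheses at the centre. -/
structure TopCtx (S : Sys) (σ : ℕ → ℕ) (θ : K →+* K) (e : ℕ → K) (q : ℕ) (X : ℕ → K → G)
    (H : Subgroup G) (ψ : AddChar K ℂ) (l : K) (P : TTop) : Prop where
  T : Tw S σ θ e X
  fr : Fr θ q
  chr : Chr θ ψ l
  zchk : P.zChk S σ = true
  pchk : P.polChk S σ = true
  zH : ∀ r t, zel σ θ e X r t ∈ H
  twfix : ∀ u, X P.th u ∈ H → θ u = u
  conn : ∀ b, (b ∈ P.lv.R ∧ σ b = b) ∨ b = P.a → Conn θ X H P.th b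

namespace TopCtx

variable (Z : TopCtx S σ θ e q X H ψ l P)
include Z

theorem z_facts : P.th < S.n ∧ σ P.th = P.th ∧
    (∀ r ∈ P.lv.R ++ P.lv.L, cmz S σ r P.th = true) ∧
    (∀ x ∈ P.lv.R, ∀ y ∈ P.lv.R, cm S x y = true ∨ (x < S.n ∧ y < S.n ∧ S.sm x y = P.th)) ∧
    (∀ b ∈ P.lv.R, σ b = b → P.bs S b ∈ P.lv.R ∧ pairsTo S σ (P.bs S b) b P.th = true) ∧
    P.lv.baseChk S σ = true ∧ σ P.a = P.a ∧ P.a ∈ P.lv.L := by
  have h := Z.zchk
  simp only [TTop.zChk, TLvl.inR, Bool.and_eq_true, Bool.or_eq_true, List.all_eq_true,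
    Bool.not_eq_true', Nat.blt_eq, beq_iff_eq, beq_eq_false_iff_ne, List.contains_iff_mem,
    ← Bool.not_eq_true] at h
  obtain ⟨h1, h2, h3, h4, h5, h6, h7, h8⟩ := h
  exact ⟨h1, h2, h3, h4, fun b hb hσ => (h5 b hb).resolve_left (not_not_intro hσ), h6, h7, h8⟩

theorem p_facts : P.pv.baseChk S σ = true ∧ (∀ x ∈ P.pv.R, x ∈ P.lv.R) ∧
    (∀ r ∈ P.pv.L, r ∈ P.lv.L) ∧ (∀ x ∈ P.pv.R, ∀ y ∈ P.pv.R, cm S x y = true) ∧
    repChk σ P.pv P.rep = true ∧
    (∀ b ∈ P.rep, P.bs S b ∈ P.lv.R ∧ pairsTo S σ (P.bs S b) b P.th = true ∧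
      ∀ d ∈ P.pv.R, d = b ∨ d = σ b ∨ cmz S σ (P.bs S b) d = true) ∧
    (∀ b ∈ P.free, b ∈ P.rep ∧ cmz S σ P.a (P.bs S b) = true ∧ b ≠ P.xb) ∧
    P.xb ∈ P.rep ∧ σ P.xb ≠ P.xb ∧
    threeChk S σ P.a (P.bs S P.xb) (σ P.xb) P.th = true ∧
    (∀ b ∈ P.rep, b ∈ P.free ∨ b = P.xb ∨ ∃ c ∈ P.pv.R, S.sm P.a c = b) ∧
    P.a ∈ P.pv.L ∧ P.ph.1 ∈ P.pv.L ∧ P.ph.2 ∈ P.pv.L ∧
    pairsTo S σ P.ph.1 P.ph.2 P.a = true ∧ σ P.ph.2 ≠ P.ph.2 := by
  have h := Z.pchk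
  simp only [TTop.polChk, TLvl.inR, Bool.and_eq_true, Bool.or_eq_true, List.all_eq_true,
    List.any_eq_true, Bool.not_eq_true', beq_iff_eq, beq_eq_false_iff_ne, List.contains_iff_mem,
    or_assoc, ← Bool.not_eq_true] at h
  exact h

theorem efix_th : e P.th = 1 := Z.T.efix _ Z.z_facts.2.1

theorem W0_eq (r : ℕ) (t : K) : Wof σ θ e X ρ r t = ρ ⟨_, Z.zH r t⟩ := Wof_eq ρ (Z.zH r t)

theorem W0_zero (r : ℕ) : Wof σ θ e X ρ r 0 = 1 := by
  rw [Z.W0_eq, show (⟨_, Z.zH r 0⟩ : H) = 1 from Subtype.ext (Z.T.zel_zero r), map_one]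

theorem W0_add (r : ℕ) (t u : K) :
    Wof σ θ e X ρ r (t + u) = Wof σ θ e X ρ r t * Wof σ θ e X ρ r u := by
  rw [Z.W0_eq, Z.W0_eq, Z.W0_eq, ← map_mul]
  exact congrArg ρ (Subtype.ext (Z.T.zel_add r t u))

theorem W0_inv (r : ℕ) (t : K) : Wof σ θ e X ρ r t * Wof σ θ e X ρ r (-t) = 1 := by
  rw [← Z.W0_add, add_neg_cancel, Z.W0_zero]

theorem W0_inv' (r : ℕ) (t : K) : Wof σ θ e X ρ r (-t) * Wof σ θ e X ρ r t = 1 := by
  rw [← Z.W0_add, neg_add_cancel, Z.W0_zero]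

theorem W0_cmz {r s : ℕ} (h : cmz S σ r s = true) (t u : K) :
    Commute (Wof σ θ e X ρ r t) (Wof σ θ e X ρ s u) := by
  show _ * _ = _ * _
  rw [Z.W0_eq, Z.W0_eq, ← map_mul, ← map_mul]
  exact congrArg ρ (Subtype.ext (Z.T.comm_zel h t u).eq)

theorem W0_pair {p b u : ℕ} (h : pairsTo S σ p b u = true) (s t : K) :
    Wof σ θ e X ρ p s * Wof σ θ e X ρ b t =
      Wof σ θ e X ρ u (S.sgn K p b * s * (if σ b = b then t + θ t else t)) *
        (Wof σ θ e X ρ b t * Wof σ θ e X ρ p s) := by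
  simp only [Z.W0_eq, ← map_mul]
  exact congrArg ρ (Subtype.ext (Z.T.pair_rel h s t))

theorem W0_th_fix {t : K} (ht : t + θ t = 0) : Wof σ θ e X ρ P.th t = 1 := by
  rw [Z.W0_eq, show (⟨_, Z.zH P.th t⟩ : H) = 1 from Subtype.ext (by
    show zel σ θ e X P.th t = 1
    rw [Z.T.zel_fix Z.z_facts.2.1, ht, Z.T.zero]), map_one]

/-- The centre as a family. -/
theorem zfam : Fam (ι := Unit) fun _ t => Wof σ θ e X ρ P.th t where
  zero _ := Z.W0_zero _
  add _ := Z.W0_add _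
  comm _ _ t u := by
    show Wof σ θ e X ρ P.th t * Wof σ θ e X ρ P.th u =
      Wof σ θ e X ρ P.th u * Wof σ θ e X ρ P.th t
    rw [← Z.W0_add, ← Z.W0_add, add_comm]

/-- The projection on a character of the centre. -/
noncomputable def Ec (_Z : TopCtx S σ θ e q X H ψ l P) (ρ : H →* Module.End ℂ V) (c : K) :
    Module.End ℂ V :=
  (_Z.zfam (ρ := ρ)).P ψ fun _ => c

theorem th_mul_Ec (c t : K) :
    Wof σ θ e X ρ P.th t * Z.Ec ρ c = ψ (c * t) • Z.Ec ρ c :=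
  (Z.zfam (ρ := ρ)).X_mul_P (fun _ => c) () t

theorem comm_th {r : ℕ} (h : cmz S σ r P.th = true) (t c : K) :
    Commute (Wof σ θ e X ρ r t) (Z.Ec ρ c) := by
  classical
  refine Moves.commute (f := id) Z.chr.ne ⟨Function.injective_id, fun z b u => ?_⟩ rfl
  show Wof σ θ e X ρ P.th u * (Wof σ θ e X ρ r t * (Z.zfam (ρ := ρ)).P ψ z) = _
  rw [← mul_assoc, ← (Z.W0_cmz h t u).eq, mul_assoc, (Z.zfam (ρ := ρ)).X_mul_P z b u, mul_smul_comm]
  rfl

theorem comm_Ec {r : ℕ} (hr : r = S.n ∨ r ∈ P.lv.R ++ P.lv.L) (t c : K) :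
    Commute (Wof σ θ e X ρ r t) (Z.Ec ρ c) := by
  rcases hr with rfl | hr
  · rw [Z.W0_eq, show (⟨_, Z.zH S.n t⟩ : H) = 1 from Subtype.ext (Z.T.zel_out _ t le_rfl), map_one]
    exact Commute.one_left _
  · exact Z.comm_th (Z.z_facts.2.2.1 r hr) t c

theorem Ec_idem (c : K) : Z.Ec ρ c * Z.Ec ρ c = Z.Ec ρ c :=
  (Z.zfam (ρ := ρ)).P_idem Z.chr.ne _

/-- Only fixed elements give characters of the centre. -/
theorem Ec_zero {c : K} (hc : θ c ≠ c) : Z.Ec ρ c = 0 := by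
  by_contra h0
  refine hc (Z.chr.inj fun t => ?_)
  have e1 := Z.th_mul_Ec (ρ := ρ) c (θ t)
  have e2 := Z.th_mul_Ec (ρ := ρ) c t
  have hz : Wof σ θ e X ρ P.th (θ t) = Wof σ θ e X ρ P.th t := by
    rw [Z.W0_eq, Z.W0_eq]
    refine congrArg ρ (Subtype.ext ?_)
    have := Z.T.zel_symm P.th t
    rwa [Z.z_facts.2.1, pr, Z.efix_th, one_mul] at this
  rw [hz, e2] at e1
  rw [← Z.chr.theta Z.fr (θ c * t), map_mul, Z.fr.inv]
  exact (smul_left_injective ℂ h0 e1).symm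

open _root_.Classical in
/-- The decomposition of a trace. -/
theorem split (A : Module.End ℂ V) :
    LinearMap.trace ℂ V A = ∑ c ∈ fixSet θ, LinearMap.trace ℂ V (A * Z.Ec ρ c) := by
  rw [(Z.zfam (ρ := ρ)).trace_eq Z.chr.ne A,
    Finset.sum_subset (Finset.subset_univ (fixSet θ)) fun c _ hc => by
      rw [Z.Ec_zero (fun h => hc (mem_fixSet.2 h)), mul_zero, map_zero]]
  exact Fintype.sum_equiv (Equiv.funUnique Unit K) _ _ fun y => rfl

theorem lam_ne : l + θ l ≠ 0 := by rw [Z.chr.lam]; exact one_ne_zero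

/-- Fixed roots of the radical and `a` have the trace of the centre. -/
theorem trace_chi {b : ℕ} (hb : (b ∈ P.lv.R ∧ σ b = b) ∨ b = P.a) {t : K} (ht : t + θ t ≠ 0) :
    LinearMap.trace ℂ V (Wof σ θ e X ρ b t) = LinearMap.trace ℂ V (Wof σ θ e X ρ P.th l) := by
  have hσ : σ b = b := by
    rcases hb with ⟨-, h⟩ | rfl
    exacts [h, Z.z_facts.2.2.2.2.2.2.1]
  exact (Z.T.trace_conn Z.fr ρ Z.z_facts.2.1 hσ (Z.conn b hb) Z.lam_ne ht (Z.zH _ _) (Z.zH _ _)).symm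

open _root_.Classical in
/-- The multiplicities of the central characters. -/
theorem mu_eq {c : K} (hc : c ≠ 0) (hcF : θ c = c) :
    (q : ℂ) * (((Z.zfam (ρ := ρ)).m ψ fun _ => c : ℕ) : ℂ) =
      (Module.finrank ℂ V : ℂ) - LinearMap.trace ℂ V (Wof σ θ e X ρ P.th l) := by
  have h := slice (Z.zfam (ρ := ρ)) Z.chr Z.fr () (fun t ht => Z.W0_th_fix ht)
    (D := (Module.finrank ℂ V : ℂ) - LinearMap.trace ℂ V (Wof σ θ e X ρ P.th l))
    (fun t ht => by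
      rw [sub_sub_cancel]
      exact Z.T.trace_conn Z.fr ρ Z.z_facts.2.1 Z.z_facts.2.1
        (Conn.trans Z.fr (Z.conn P.a (Or.inr rfl)) (Z.conn P.a (Or.inr rfl)).symm) ht Z.lam_ne (Z.zH _ _) (Z.zH _ _)) hc hcF
  rw [Finset.sum_eq_single_of_mem (fun _ => c) (by simp) (fun y hy hne => by
    exfalso
    refine hne (funext fun u => ?_)
    simp only [Finset.mem_filter, Finset.mem_univ, true_and] at hy
    cases u
    exact hy)] at h
  exact h

/-- An element of the centre acts by a scalar on the space of a central character. -/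
theorem res_th {c x : K} {A B : Module.End ℂ V} (hA : Commute A (Z.Ec ρ c))
    (hB : Commute B (Z.Ec ρ c)) (h : A = Wof σ θ e X ρ P.th x * B) :
    res (Z.Ec ρ c) A = ψ (c * x) • res (Z.Ec ρ c) B := by
  refine LinearMap.ext fun v => Subtype.ext ?_
  obtain ⟨w, hw⟩ := v.2
  rw [res_val hA, LinearMap.smul_apply, Submodule.coe_smul, res_val hB, h, ← hw]
  have e1 : Wof σ θ e X ρ P.th x * B * Z.Ec ρ c = ψ (c * x) • (B * Z.Ec ρ c) := by
    rw [mul_assoc, hB.eq, ← mul_assoc, Z.th_mul_Ec, smul_mul_assoc]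
  exact LinearMap.congr_fun e1 w

/-- The radical relation on the space of a central character. -/
theorem res_phase {c x : K} {A B : Module.End ℂ V} (hA : Commute A (Z.Ec ρ c))
    (hB : Commute B (Z.Ec ρ c)) (h : A * B = Wof σ θ e X ρ P.th x * (B * A)) :
    res (Z.Ec ρ c) A * res (Z.Ec ρ c) B = ψ (c * x) • (res (Z.Ec ρ c) B * res (Z.Ec ρ c) A) := by
  rw [← res_mul hA hB, ← res_mul hB hA]
  exact Z.res_th (hA.mul_left hB) (hB.mul_left hA) h

/-- Fixed radical elements have trace zero on the non-trivial central characters. -/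
theorem trace_rad {b : ℕ} (hb : b ∈ P.lv.R) (hσ : σ b = b) {c t : K} (hc : c ≠ 0)
    (ht : t + θ t ≠ 0) : LinearMap.trace ℂ V (Wof σ θ e X ρ b t * Z.Ec ρ c) = 0 := by
  obtain ⟨h1, h2⟩ := Z.z_facts.2.2.2.2.1 b hb hσ
  obtain ⟨u, hu⟩ := AddChar.ne_one_iff.1 Z.chr.ne
  obtain ⟨N, hN⟩ : ∃ N, N = S.sgn K (P.bs S b) b := ⟨_, rfl⟩
  obtain ⟨s, hs⟩ : ∃ s, s = u / (c * N * (t + θ t)) := ⟨_, rfl⟩
  have hcn : c * N * (t + θ t) ≠ 0 := mul_ne_zero (mul_ne_zero hc (hN ▸ S.sgn_ne _ _)) ht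
  have hsu : c * (N * s * (t + θ t)) = u := by
    rw [show c * (N * s * (t + θ t)) = s * (c * N * (t + θ t)) by ring, hs, div_mul_cancel₀ _ hcn]
  have e1 := Z.W0_pair (ρ := ρ) h2 s t
  rw [if_pos hσ, ← hN] at e1
  have cA := Z.comm_Ec (ρ := ρ) (Or.inr (List.mem_append_left _ hb)) t c
  have cB := Z.comm_Ec (ρ := ρ) (Or.inr (List.mem_append_left _ h1)) s c
  have e2 := Z.res_phase cB cA e1
  rw [hsu] at e2
  have e3 := congrArg (fun A => LinearMap.trace ℂ _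
    (A * res (Z.Ec ρ c) (Wof σ θ e X ρ (P.bs S b) (-s)))) e2
  simp only [smul_mul_assoc, map_smul, smul_eq_mul] at e3
  have hinv : res (Z.Ec ρ c) (Wof σ θ e X ρ (P.bs S b) s) *
      res (Z.Ec ρ c) (Wof σ θ e X ρ (P.bs S b) (-s)) = 1 := by
    rw [← res_mul cB (Z.comm_Ec (Or.inr (List.mem_append_left _ h1)) _ c), Z.W0_inv, res_one]
  have hinv' : res (Z.Ec ρ c) (Wof σ θ e X ρ (P.bs S b) (-s)) *
      res (Z.Ec ρ c) (Wof σ θ e X ρ (P.bs S b) s) = 1 := by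
    rw [← res_mul (Z.comm_Ec (Or.inr (List.mem_append_left _ h1)) _ c) cB, Z.W0_inv', res_one]
  rw [mul_assoc _ (res (Z.Ec ρ c) (Wof σ θ e X ρ (P.bs S b) s)), hinv, mul_one,
    LinearMap.trace_mul_comm, ← mul_assoc, hinv', one_mul,
    trace_res (E := Z.Ec ρ c) (Z.Ec_idem c) cA] at e3
  by_contra h
  exact hu (mul_right_cancel₀ h (e3.symm.trans (one_mul _).symm))

end TopCtx

end Cfsg.Agent.SimpleFacts.MinDegTw
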