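import Cfsg.Agent.SimpleFacts.MinDegTw.Top

/-!
The polarisation on the space of a non-trivial central character, and the trace of the root of the
complement there.
-/

set_option autoImplicit false
set_option linter.unusedSectionVars false

namespace Cfsg.Agent.SimpleFacts.MinDegTw

open scoped BigOperators
open Cfsg.Agent.SimpleFacts.MinDegExc (Sys Fam Moves res res_mul res_one res_val trace_res)

variable {K : Type*} [Field K] [Fintype K] {G : Type*} [Group G]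
variable {V : Type*} [AddCommGroup V] [Module ℂ V] [FiniteDimensional ℂ V]
variable {S : Sys} {σ : ℕ → ℕ} {θ : K →+* K} {e : ℕ → K} {q : ℕ} {X : ℕ → K → G}
variable {H : Subgroup G} {ρ : H →* Module.End ℂ V} {ψ : AddChar K ℂ} {l : K} {P : TTop}

namespace TopCtx

variable (Z : TopCtx S σ θ e q X H ψ l P)
include Z

/-- The operators on the space of a central character. -/
noncomputable def Wc (_Z : TopCtx S σ θ e q X H ψ l P) (ρ : H →* Module.End ℂ V) (c : K) (r : ℕ)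
    (t : K) : Module.End ℂ (LinearMap.range (_Z.Ec ρ c)) :=
  res (_Z.Ec ρ c) (Wof σ θ e X ρ r t)

theorem pol_mem {r : ℕ} (hr : r = S.n ∨ r ∈ P.pv.R ++ P.pv.L) : r = S.n ∨ r ∈ P.lv.R ++ P.lv.L := by
  obtain ⟨-, hR, hL, -⟩ := Z.p_facts
  refine hr.imp_right fun h => ?_
  rcases List.mem_append.1 h with h | h
  · exact List.mem_append_left _ (hR r h)
  · exact List.mem_append_right _ (hL r h)

theorem trel_pol (c : K) : TRel S σ θ e P.pv (Z.Wc ρ c) := by
  obtain ⟨hb, hR, hL, hcm, -⟩ := Z.p_facts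
  have h : TRel S σ θ e P.pv (Wof σ θ e X (resHom ρ (Z.Ec ρ c))) :=
    trel_of Z.T hb ⊤ (centH ρ (Z.Ec ρ c)) (Subgroup.subtype ⊤) (resHom ρ (Z.Ec ρ c))
      (fun r _ t => Subgroup.mem_top _)
      (fun r hr t => mem_centH ρ (Z.zH r t) (Z.comm_Ec (Z.pol_mem hr) t c))
      (fun g h g1 h1 g2 h2 e1 => congrArg _ (Subtype.ext e1))
      (fun x hx y hy t u hx' hy' => Z.T.comm_cm (hcm x hx y hy) t u)
  rw [Wof_res] at h
  exact h

theorem tctx_pol (c : K) : TCtx S σ θ e q P.pv ψ l (Z.Wc ρ c) where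
  fr := Z.fr
  chr := Z.chr
  ee := Z.T.ee
  θe := Z.T.θe
  efix := Z.T.efix
  sm_out := Z.T.sm_out
  σn := Z.T.σn _ le_rfl
  base := Z.p_facts.1
  rel := Z.trel_pol c

/-- The partner of a representative shifts the characters. -/
theorem shift {b : ℕ} (hb : b ∈ P.rep) (c s : K) :
    Moves (Z.tctx_pol (ρ := ρ) c).fam ψ (Z.Wc ρ c (P.bs S b) s) (fun z d => z d -
      shf σ θ e P.pv b (c * (S.sgn K (P.bs S b) b * s)) d) := by
  classical
  obtain ⟨-, hR, -, -, hrep, hbs, -⟩ := Z.p_facts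
  obtain ⟨hp, hpair, hoth⟩ := hbs b hb
  have C := Z.tctx_pol (ρ := ρ) c
  have hbR := (C.rep_facts hrep).2.1 b hb
  refine ⟨fun z z' h => funext fun d => by simpa using congrFun h d, fun z d t => ?_⟩
  obtain ⟨κ, hκ⟩ : ∃ κ, κ = c * (S.sgn K (P.bs S b) b * s) := ⟨_, rfl⟩
  have cB := Z.comm_Ec (ρ := ρ) (Or.inr (List.mem_append_left _ hp)) s c
  obtain ⟨Pz, hPz⟩ : ∃ Pz, Pz = (Z.tctx_pol (ρ := ρ) c).fam.P ψ z := ⟨_, rfl⟩
  show Z.Wc ρ c d.1 t * (Z.Wc ρ c (P.bs S b) s * _) = _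
  rw [← hPz, ← hκ]
  have hX : Z.Wc ρ c d.1 t * Pz = ψ (z d * t) • Pz :=
    hPz ▸ (Z.tctx_pol (ρ := ρ) c).fam.X_mul_P z d t
  have key : ∀ u : K, Z.Wc ρ c d.1 t = Z.Wc ρ c b u →
      Z.Wc ρ c d.1 t * (Z.Wc ρ c (P.bs S b) s * Pz) =
        ψ (z d * t - κ * (if σ b = b then u + θ u else u)) • (Z.Wc ρ c (P.bs S b) s * Pz) := by
    intro u hu
    have cA := Z.comm_Ec (ρ := ρ) (Or.inr (List.mem_append_left _ (hR b hbR))) u c
    have e1 : Z.Wc ρ c (P.bs S b) s * Z.Wc ρ c b u =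
        ψ (κ * (if σ b = b then u + θ u else u)) •
          (Z.Wc ρ c b u * Z.Wc ρ c (P.bs S b) s) := by
      rw [show κ * (if σ b = b then u + θ u else u) =
        c * (S.sgn K (P.bs S b) b * s * (if σ b = b then u + θ u else u)) by rw [hκ]; ring]
      exact Z.res_phase cB cA (Z.W0_pair hpair s u)
    have e2 : Z.Wc ρ c b u * Z.Wc ρ c (P.bs S b) s =
        ψ (-(κ * (if σ b = b then u + θ u else u))) •
          (Z.Wc ρ c (P.bs S b) s * Z.Wc ρ c b u) := by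
      rw [e1, smul_smul, ← AddChar.map_add_eq_mul, neg_add_cancel, AddChar.map_zero_eq_one, one_smul]
    rw [hu, ← mul_assoc, e2, smul_mul_assoc, mul_assoc, ← hu, hX, mul_smul_comm, smul_smul,
      ← AddChar.map_add_eq_mul]
    congr 2
    ring
  have hθ : ∀ x y : K, ψ (x * θ y) = ψ (θ x * y) := fun x y => by
    rw [← Z.chr.theta Z.fr (x * θ y), map_mul, Z.fr.inv]
  by_cases hdb : d.1 = b
  · rw [key t (by rw [hdb])]
    congr 1
    simp only [shf, if_pos hdb]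
    by_cases hσ : σ b = b
    · rw [if_pos hσ, if_pos hσ, show z d * t - κ * (t + θ t) = (z d * t - κ * t) + -κ * θ t by ring,
        show (z d - (κ + θ κ)) * t = (z d * t - κ * t) + θ (-κ) * t by rw [map_neg]; ring,
        AddChar.map_add_eq_mul, AddChar.map_add_eq_mul, hθ]
    · rw [if_neg hσ, if_neg hσ, sub_mul]
  by_cases hdσ : d.1 = σ b
  · have hne : σ b ≠ b := fun h => hdb (hdσ.trans h)
    have hu : Z.Wc ρ c d.1 t = Z.Wc ρ c b (pr θ e (σ b) t) := by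
      have h := C.rel.sym (σ b) (C.σR hbR) t
      rw [C.σσ hbR] at h
      rw [hdσ, h]
    rw [key _ hu, if_neg hne]
    congr 1
    simp only [shf, if_neg hdb, if_pos hdσ]
    rw [pr, Z.T.eσ, show z d * t - κ * (e b * θ t) = z d * t + -(κ * e b) * θ t by ring,
      show (z d - e b * θ κ) * t = z d * t + θ (-(κ * e b)) * t by
        rw [map_neg, map_mul, Z.T.θe]; ring,
      AddChar.map_add_eq_mul, AddChar.map_add_eq_mul, hθ]
  · have hc := ((hoth d.1 d.2).resolve_left hdb).resolve_left hdσ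
    have cd := Z.comm_Ec (ρ := ρ) (Or.inr (List.mem_append_left _ (hR d.1 d.2))) t c
    have e1 : Commute (Z.Wc ρ c d.1 t) (Z.Wc ρ c (P.bs S b) s) := by
      show res _ _ * res _ _ = res _ _ * res _ _
      rw [← res_mul cd cB, ← res_mul cB cd, (Z.W0_cmz hc s t).eq]
    rw [← mul_assoc, e1.eq, mul_assoc, hX, mul_smul_comm]
    congr 2
    simp only [shf, if_neg hdb, if_neg hdσ, sub_zero]

theorem Wc_inv (c : K) {r : ℕ} (hr : r = S.n ∨ r ∈ P.lv.R ++ P.lv.L) (s : K) :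
    Z.Wc ρ c r s * Z.Wc ρ c r (-s) = 1 := by
  show res _ _ * res _ _ = 1
  rw [← res_mul (Z.comm_Ec hr s c) (Z.comm_Ec hr _ c), Z.W0_inv, res_one]

theorem shift_any {b : ℕ} (hb : b ∈ P.rep) {c : K} (hc : c ≠ 0) (κ : K) :
    ∃ s, c * (S.sgn K (P.bs S b) b * s) = κ :=
  ⟨κ / (c * S.sgn K (P.bs S b) b), by
    rw [← mul_assoc, mul_div_cancel₀ _ (mul_ne_zero hc (S.sgn_ne _ _))]⟩

/-- The dimension of the space of a central character. -/
theorem pol_m {c : K} (hc : c ≠ 0) :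
    q ^ weight σ P.rep * (Z.tctx_pol (ρ := ρ) c).fam.m ψ 0 =
      (Z.zfam (ρ := ρ)).m ψ (fun _ => c) := by
  classical
  obtain ⟨-, -, -, -, hrep, hbs, -⟩ := Z.p_facts
  rw [(Z.tctx_pol (ρ := ρ) c).finrank_pol hrep (fun b _ => Z.T.eσ b) fun b hb κ z => ?_]
  · rfl
  · obtain ⟨s, hs⟩ := Z.shift_any hb hc κ
    have := (Z.shift (ρ := ρ) hb c s).m_eq Z.chr.ne
      (Z.Wc_inv c (Or.inr (List.mem_append_left _ (hbs b hb).1)) s) z
    rwa [hs] at this

/-- The phase at zero. -/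
theorem pol_phase {c : K} (h1 : (Z.tctx_pol (ρ := ρ) c).fam.m ψ 0 = 1) (t : K) :
    LinearMap.trace ℂ _ (Z.Wc ρ c P.a t * (Z.tctx_pol (ρ := ρ) c).fam.P ψ 0) = 1 := by
  classical
  obtain ⟨-, -, hL, -, -, -, -, -, -, -, -, haP, hph1, hph2, hph, hphσ⟩ := Z.p_facts
  obtain ⟨-, -, -, -, -, -, -, haL⟩ := Z.z_facts
  have hψ := Z.chr.ne
  have hca := Z.comm_Ec (ρ := ρ) (Or.inr (List.mem_append_right _ haL)) t c
  have C := Z.tctx_pol (ρ := ρ) c
  obtain ⟨v, hv⟩ : ∃ v, v = S.sgn K P.ph.1 P.ph.2 * t := ⟨_, rfl⟩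
  have c1 := Z.comm_Ec (ρ := ρ) (Or.inr (List.mem_append_right _ (hL _ hph1))) 1 c
  have c2 := Z.comm_Ec (ρ := ρ) (Or.inr (List.mem_append_right _ (hL _ hph2))) v c
  have hNN := S.sgn_sq (F := K) P.ph.1 P.ph.2
  have e1 : Z.Wc ρ c P.ph.1 1 * Z.Wc ρ c P.ph.2 v =
      Z.Wc ρ c P.a t * (Z.Wc ρ c P.ph.2 v * Z.Wc ρ c P.ph.1 1) := by
    show res _ _ * res _ _ = res _ _ * (res _ _ * res _ _)
    rw [← res_mul c1 c2, ← res_mul c2 c1, ← res_mul hca (c2.mul_left c1)]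
    congr 1
    rw [Z.W0_pair hph 1 v, if_neg hphσ, hv]
    congr 2
    linear_combination t * hNN
  have hi : ∀ r ∈ P.pv.L, ∀ u, Z.Wc ρ c r (-u) * Z.Wc ρ c r u = 1 := fun r hr u => by
    have := C.W_inv (List.mem_append_right P.pv.R hr) (-u)
    rwa [neg_neg] at this
  rw [MinDegExc.phase (C.fam.P_idem hψ 0) (by rw [C.fam.trace_P hψ, h1, Nat.cast_one])
    (C.commute_fixed hph1 1) (C.commute_fixed hph2 v) (C.commute_fixed haP t) (hi _ hph1 1)
    (hi _ hph2 v) e1, C.fam.trace_P hψ, h1, Nat.cast_one]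

/-- The coefficient of the norm on the line of the exceptional coordinate. -/
noncomputable def xCoef (_Z : TopCtx S σ θ e q X H ψ l P) (c t : K) : K :=
  (S.sgn K (σ P.xb) (σ (P.bs S P.xb)) * S.sgn K P.a (P.bs S P.xb) * (t + θ t) *
    e (P.bs S P.xb)) / c

theorem xCoef_facts {c t : K} (hc : c ≠ 0) (hcF : θ c = c) (ht : t + θ t ≠ 0) :
    θ (Z.xCoef c t) = Z.xCoef c t ∧ Z.xCoef c t ≠ 0 := by
  constructor
  · rw [xCoef, map_div₀, hcF, map_mul, map_mul, map_mul, sgn_fix, sgn_fix, Z.T.θe, map_add,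
      Z.fr.inv, add_comm (θ t)]
  · refine div_ne_zero
      (mul_ne_zero (mul_ne_zero (mul_ne_zero (S.sgn_ne _ _) (S.sgn_ne _ _)) ht) fun h => ?_) hc
    have := Z.T.ee (P.bs S P.xb)
    rw [h, mul_zero] at this
    exact zero_ne_one this

open _root_.Classical in
/-- The trace on the line of the exceptional coordinate. -/
theorem pol_line {c : K} (hc : c ≠ 0) (hcF : θ c = c)
    (h1 : (Z.tctx_pol (ρ := ρ) c).fam.m ψ 0 = 1) {t : K} (ht : t + θ t ≠ 0) (β : K) :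
    LinearMap.trace ℂ _ (Z.Wc ρ c P.a t * (Z.tctx_pol (ρ := ρ) c).fam.P ψ
      (fun d => (0 : Co P.pv → K) d - shf σ θ e P.pv P.xb (-β) d)) =
        ψ (l * (Z.xCoef c t * (β * θ β))) := by
  obtain ⟨-, hR, -, -, hrep, hbs, -, hxb, -, h3, -, haP, -⟩ := Z.p_facts
  obtain ⟨-, hσth, -, -, -, -, -, haL⟩ := Z.z_facts
  have hψ := Z.chr.ne
  have C := Z.tctx_pol (ρ := ρ) c
  have hrepR := (C.rep_facts hrep).2.1
  obtain ⟨A, hA⟩ : ∃ A, A = Z.Wc ρ c P.a t := ⟨_, rfl⟩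
  have hA0 : Commute A (C.fam.P ψ 0) := hA ▸ C.commute_fixed haP t
  have h0 : LinearMap.trace ℂ _ (A * C.fam.P ψ 0) = 1 := hA ▸ Z.pol_phase h1 t
  rw [← hA]
  obtain ⟨C0, hC0⟩ : ∃ C0, C0 = S.sgn K (σ P.xb) (σ (P.bs S P.xb)) *
      S.sgn K P.a (P.bs S P.xb) * (t + θ t) * e (P.bs S P.xb) := ⟨_, rfl⟩
  have hC0f : θ C0 = C0 := by
    rw [hC0, map_mul, map_mul, map_mul, sgn_fix, sgn_fix, Z.T.θe, map_add, Z.fr.inv, add_comm (θ t)]
  rw [show Z.xCoef c t = C0 / c by rw [xCoef, hC0]]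
  obtain ⟨N, hN⟩ : ∃ N, N = S.sgn K (P.bs S P.xb) P.xb := ⟨_, rfl⟩
  have hNN : N * N = 1 := hN ▸ S.sgn_sq _ _
  have hNf : θ N = N := hN ▸ sgn_fix _ _
  have hN0 : N ≠ 0 := hN ▸ S.sgn_ne _ _
  obtain ⟨s, hs⟩ : ∃ s, s = -β / (c * N) := ⟨_, rfl⟩
  have hκ : c * (N * s) = -β := by rw [← mul_assoc, hs, mul_div_cancel₀ _ (mul_ne_zero hc hN0)]
  obtain ⟨hp, -, -⟩ := hbs _ hxb
  have mS := Z.shift (ρ := ρ) hxb c s
  rw [← hN, hκ] at mS
  obtain ⟨Sh, hSh⟩ : ∃ Sh, Sh = Z.Wc ρ c (P.bs S P.xb) s := ⟨_, rfl⟩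
  obtain ⟨Sh', hSh'⟩ : ∃ Sh', Sh' = Z.Wc ρ c (P.bs S P.xb) (-s) := ⟨_, rfl⟩
  have hinv : Sh * Sh' = 1 := by
    rw [hSh, hSh']; exact Z.Wc_inv c (Or.inr (List.mem_append_left _ hp)) s
  have hinv' : Sh' * Sh = 1 := mul_eq_one_comm.1 hinv
  rw [← hSh] at mS
  have hsh := mS.mul_P hψ 0
  obtain ⟨k, hk⟩ : ∃ k, k = S.sgn K P.a (P.bs S P.xb) * (t + θ t) * s := ⟨_, rfl⟩
  have hσxR : σ P.xb ∈ P.pv.R := C.σR (hrepR _ hxb)
  obtain ⟨RA, hRA⟩ : ∃ RA, RA = Z.Wc ρ c (σ P.xb) k := ⟨_, rfl⟩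
  have hRA0 : RA * C.fam.P ψ 0 = C.fam.P ψ 0 := by
    rw [hRA]
    have := C.fam.X_mul_P (ψ := ψ) 0 ⟨σ P.xb, hσxR⟩ k
    rwa [Pi.zero_apply, zero_mul, AddChar.map_zero_eq_one, one_smul] at this
  have hv0f : θ (C0 * (s * θ s)) = C0 * (s * θ s) := by
    rw [map_mul, map_mul, Z.fr.inv, hC0f, mul_comm (θ s)]
  have hthree : Wof σ θ e X ρ P.a t * Wof σ θ e X ρ (P.bs S P.xb) s =
      Wof σ θ e X ρ P.th (l * (C0 * (s * θ s))) * (Wof σ θ e X ρ (P.bs S P.xb) s *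
        (Wof σ θ e X ρ (σ P.xb) k * Wof σ θ e X ρ P.a t)) := by
    simp only [Z.W0_eq, ← map_mul]
    refine congrArg ρ (Subtype.ext ?_)
    show zel σ θ e X P.a t * zel σ θ e X (P.bs S P.xb) s = zel σ θ e X P.th _ * _
    rw [Z.T.three_rel h3, Z.T.zel_fix hσth, map_mul θ l, hv0f, ← add_mul, Z.chr.lam, one_mul, hC0,
      hk]
    rfl
  have hca := Z.comm_Ec (ρ := ρ) (Or.inr (List.mem_append_right _ haL)) t c
  have cS := Z.comm_Ec (ρ := ρ) (Or.inr (List.mem_append_left _ hp)) s c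
  have cR := Z.comm_Ec (ρ := ρ) (Or.inr (List.mem_append_left _ (hR _ hσxR))) k c
  have e3 : A * Sh = ψ (c * (l * (C0 * (s * θ s)))) • (Sh * (RA * A)) := by
    rw [hA, hSh, hRA]
    show res _ _ * res _ _ = _ • (res _ _ * (res _ _ * res _ _))
    rw [← res_mul hca cS, ← res_mul cR hca, ← res_mul cS (cR.mul_left hca)]
    exact Z.res_th (hca.mul_left cS) (cS.mul_left (cR.mul_left hca)) hthree
  have hN2 : θ s = -θ β / (c * N) := by rw [hs, map_div₀, map_neg, map_mul, hcF, hNf]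
  have hexp : c * (l * (C0 * (s * θ s))) = l * (C0 / c * (β * θ β)) := by
    rw [hN2, hs, show c * (l * (C0 * (-β / (c * N) * (-θ β / (c * N))))) =
      c * l * C0 * β * θ β / (c * c * (N * N)) by ring, hNN]
    field_simp
  have eP : C.fam.P ψ (fun d => (0 : Co P.pv → K) d - shf σ θ e P.pv P.xb (-β) d) =
      Sh * (C.fam.P ψ 0 * Sh') := by
    rw [← mul_assoc, hsh, mul_assoc, hinv, mul_one]
  have e4 : Sh * (RA * A) * (C.fam.P ψ 0 * Sh') = Sh * (RA * (A * C.fam.P ψ 0) * Sh') := by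
    simp only [mul_assoc]
  have e5 : RA * (A * C.fam.P ψ 0) * Sh' * Sh = RA * (A * C.fam.P ψ 0) := by
    rw [mul_assoc _ Sh', hinv', mul_one]
  rw [eP, ← mul_assoc, e3, hexp, smul_mul_assoc, map_smul, smul_eq_mul, e4,
    LinearMap.trace_mul_comm, e5, hA0.eq, ← mul_assoc RA, hRA0, ← hA0.eq, h0, mul_one]

open _root_.Classical in
/-- The value at a symmetric character. -/
theorem pol_val {c : K} (hc : c ≠ 0) (hcF : θ c = c)
    (h1 : (Z.tctx_pol (ρ := ρ) c).fam.m ψ 0 = 1) {t : K} (ht : t + θ t ≠ 0)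
    (z : {b // b ∈ P.rep} → K) (hzf : ∀ b : {b // b ∈ P.rep}, σ b.1 = b.1 → θ (z b) = z b) :
    LinearMap.trace ℂ _ (Z.Wc ρ c P.a t *
        (Z.tctx_pol (ρ := ρ) c).fam.P ψ (ext σ θ e P.pv P.rep z)) =
      ∏ b : {b // b ∈ P.rep}, if b.1 ∈ P.free then (1 : ℂ)
        else if b.1 = P.xb then ψ (l * (Z.xCoef c t * (z b * θ (z b))))
        else if z b = 0 then 1 else 0 := by
  obtain ⟨-, -, -, -, hrep, hbs, hfree, hxb, hσxb, -, hcase, haP, -⟩ := Z.p_facts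
  obtain ⟨-, -, -, -, -, -, hσa, haL⟩ := Z.z_facts
  have hψ := Z.chr.ne
  have hca := Z.comm_Ec (ρ := ρ) (Or.inr (List.mem_append_right _ haL)) t c
  have C := Z.tctx_pol (ρ := ρ) c
  obtain ⟨-, hrepR, hpairs, -⟩ := C.rep_facts hrep
  have hxf : P.xb ∉ P.free := fun h => (hfree _ h).2.2 rfl
  have hadm := C.adm_ext hrep (fun b _ => Z.T.eσ b) hzf
  obtain ⟨y, hy⟩ : ∃ y, y = ext σ θ e P.pv P.rep z := ⟨_, rfl⟩
  rw [← hy] at hadm ⊢
  have hyb : ∀ b : {b // b ∈ P.rep}, gv P.pv y b.1 = z b := fun b => by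
    rw [hy, C.gv_ext _ (hrepR _ b.2), dif_pos b.2]
  by_cases himg : ∀ b : {b // b ∈ P.rep}, b.1 ∉ P.free → b.1 ≠ P.xb → z b = 0
  · rw [Finset.prod_eq_single (⟨P.xb, hxb⟩ : {b // b ∈ P.rep}) (fun b _ hb => by
      by_cases hf : b.1 ∈ P.free
      · rw [if_pos hf]
      · rw [if_neg hf, if_neg (fun h => hb (Subtype.ext h)),
          if_pos (himg b hf fun h => hb (Subtype.ext h))])
      (fun h => absurd (Finset.mem_univ _) h),
      if_neg hxf, if_pos rfl, ← Z.pol_line hc hcF h1 ht,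
      C.shf_const hrep (fun w => LinearMap.trace ℂ _ (Z.Wc ρ c P.a t * C.fam.P ψ w))
        (P.rep.filter fun b => P.free.contains b).toFinset
        (fun b hb => (List.mem_filter.1 (List.mem_toFinset.1 hb)).1) (fun b hb κ w => ?_) hadm]
    · congr 3
      funext d
      have hd := d.2
      have hmem : ∀ x, x ∈ (P.rep.filter fun b => P.free.contains b).toFinset ↔ x ∈ P.free := by
        intro x
        simp only [List.mem_toFinset, List.mem_filter, List.contains_iff_mem]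
        exact ⟨fun h => h.2, fun h => ⟨(hfree x h).1, h⟩⟩
      simp only [hmem, shf, Pi.zero_apply]
      rw [← gv_mem y hd]
      by_cases hdx : d.1 = P.xb
      · have hσd : σ d.1 ∉ P.free := fun h => by
          rw [hdx] at h; exact hpairs _ hxb hσxb (hfree _ h).1
        rw [if_neg (by rintro (h | h); exacts [hxf (hdx ▸ h), hσd h]), if_pos hdx, if_neg hσxb,
          hdx, hyb ⟨P.xb, hxb⟩, zero_sub, neg_neg]
      rw [if_neg hdx]
      by_cases hdσ : d.1 = σ P.xb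
      · have hnr : d.1 ∉ P.rep := hdσ ▸ hpairs _ hxb hσxb
        have hσd : σ d.1 = P.xb := by rw [hdσ, C.σσ (hrepR _ hxb)]
        rw [if_neg (by rintro (h | h); exacts [hnr (hfree _ h).1, hxf (hσd ▸ h)]), if_pos hdσ,
          hy, C.gv_ext _ hd, dif_neg hnr, dif_pos (hσd ▸ hxb), map_neg, mul_neg, zero_sub,
          neg_neg, show e d.1 = e P.xb by rw [hdσ, Z.T.eσ]]
        congr 2
        exact congrArg z (Subtype.ext hσd)
      rw [if_neg hdσ, sub_zero]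
      split_ifs with hJ
      · rfl
      push Not at hJ
      rw [hy, C.gv_ext _ hd]
      split_ifs with k1 k2
      · exact himg ⟨_, k1⟩ hJ.1 hdx
      · rw [himg ⟨_, k2⟩ hJ.2 (fun h => hdσ (by rw [← h, C.σσ hd])), map_zero, mul_zero]
      · rfl
    · obtain ⟨hb1, hb2⟩ := List.mem_filter.1 (List.mem_toFinset.1 hb)
      rw [List.contains_iff_mem] at hb2
      obtain ⟨-, hcz, -⟩ := hfree b hb2
      obtain ⟨hp, -, -⟩ := hbs b hb1
      obtain ⟨s, hs⟩ := Z.shift_any hb1 hc κ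
      have cp := Z.comm_Ec (ρ := ρ) (Or.inr (List.mem_append_left _ hp)) s c
      have hcomm : Commute (Z.Wc ρ c P.a t) (Z.Wc ρ c (P.bs S b) s) := by
        show res _ _ * res _ _ = res _ _ * res _ _
        rw [← res_mul hca cp, ← res_mul cp hca, (Z.W0_cmz hcz t s).eq]
      have := (Z.shift (ρ := ρ) hb1 c s).trace_shift hψ
        (Z.Wc_inv c (Or.inr (List.mem_append_left _ hp)) s) hcomm w
      rwa [hs] at this
  · push Not at himg
    obtain ⟨b, hbf, hbx, hb0⟩ := himg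
    rw [Finset.prod_eq_zero (Finset.mem_univ b) (by rw [if_neg hbf, if_neg hbx, if_neg hb0])]
    obtain ⟨d, hd, hdb⟩ := ((hcase _ b.2).resolve_left hbf).resolve_left hbx
    refine (C.moves haP t).trace_moved hψ fun h => ?_
    have h' := congrArg (fun w => gv P.pv w d) h
    simp only [C.gv_tmv haP t y hd, hσa, hdb, hyb b, pr, Z.T.efix _ hσa] at h'
    have h3' : S.sm P.a b.1 ∉ P.pv.R := by
      have := (C.stab' haP hd).2.1
      rwa [hdb] at this
    rw [gv_not _ h3'] at h'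
    have : S.sgn K P.a d * (t + θ t) * z b = 0 := by linear_combination -h'
    simp [S.sgn_ne, ht, hb0] at this

open _root_.Classical in
/-- The trace of `a` on the space of a central character of multiplicity one. -/
theorem trace_a {c : K} (hc : c ≠ 0) (hcF : θ c = c)
    (h1 : (Z.tctx_pol (ρ := ρ) c).fam.m ψ 0 = 1) {t : K} (ht : t + θ t ≠ 0) :
    LinearMap.trace ℂ V (Wof σ θ e X ρ P.a t * Z.Ec ρ c) =
      -((q : ℂ) ^ (weight σ (P.rep.filter fun b => P.free.contains b) + 1)) := by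
  obtain ⟨-, -, -, -, hrep, -, hfree, hxb, hσxb, -⟩ := Z.p_facts
  obtain ⟨-, -, -, -, -, -, -, haL⟩ := Z.z_facts
  have hca := Z.comm_Ec (ρ := ρ) (Or.inr (List.mem_append_right _ haL)) t c
  rw [← trace_res (E := Z.Ec ρ c) (Z.Ec_idem c) hca]
  change LinearMap.trace ℂ _ (Z.Wc ρ c P.a t) = _
  have C := Z.tctx_pol (ρ := ρ) c
  have hnd := (C.rep_facts hrep).1
  have hxf : P.xb ∉ P.free := fun h => (hfree _ h).2.2 rfl
  rw [C.fam.trace_eq Z.chr.ne (Z.Wc ρ c P.a t),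
    C.sum_adm hrep (fun b _ => Z.T.eσ b)
      (fun y => LinearMap.trace ℂ _ (Z.Wc ρ c P.a t * C.fam.P ψ y))
      fun y hy => C.adm_of_m fun h => hy (by rw [C.P_zero h, mul_zero, map_zero]),
    Finset.sum_congr rfl fun z hz => Z.pol_val hc hcF h1 ht z fun b hσ => by
      have := Fintype.mem_piFinset.1 hz b
      rwa [if_pos hσ, mem_fixSet] at this,
    ← Finset.prod_univ_sum (f := fun (b : {b // b ∈ P.rep}) (x : K) => if b.1 ∈ P.free then (1 : ℂ)
      else if b.1 = P.xb then ψ (l * (Z.xCoef c t * (x * θ x))) else if x = 0 then 1 else 0)]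
  have hfac : ∀ b : {b // b ∈ P.rep},
      (∑ x ∈ (if σ b.1 = b.1 then fixSet θ else (Finset.univ : Finset K)),
        if b.1 ∈ P.free then (1 : ℂ)
        else if b.1 = P.xb then ψ (l * (Z.xCoef c t * (x * θ x))) else if x = 0 then 1 else 0) =
        if b.1 ∈ P.free then (q : ℂ) ^ (if σ b.1 == b.1 then 1 else 2)
        else if b.1 = P.xb then -(q : ℂ) else 1 := by
    intro b
    by_cases hf : b.1 ∈ P.free
    · simp only [if_pos hf, Finset.sum_const, nsmul_eq_mul, mul_one]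
      by_cases hσ : σ b.1 = b.1
      · rw [if_pos hσ, Z.fr.card_fix, if_pos (beq_iff_eq.2 hσ), pow_one]
      · rw [if_neg hσ, Finset.card_univ, Z.fr.card, if_neg (fun h => hσ (beq_iff_eq.1 h)),
          Nat.cast_pow]
    simp only [if_neg hf]
    by_cases hx : b.1 = P.xb
    · simp only [if_pos hx]
      rw [if_neg (by rw [hx]; exact hσxb)]
      exact Z.chr.norm_sum Z.fr (Z.xCoef_facts hc hcF ht).1 (Z.xCoef_facts hc hcF ht).2
    · simp only [if_neg hx]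
      rw [Finset.sum_ite_eq', if_pos]
      split_ifs
      · rw [mem_fixSet, map_zero]
      · exact Finset.mem_univ _
  rw [Finset.prod_congr rfl fun b _ => hfac b, ← Finset.prod_subtype P.rep.toFinset
    (fun x => List.mem_toFinset) (fun b => if b ∈ P.free then (q : ℂ) ^ (if σ b == b then 1 else 2)
      else if b = P.xb then -(q : ℂ) else 1),
    Finset.prod_ite, Finset.prod_pow_eq_pow_sum, Finset.prod_ite_eq',
    if_pos (Finset.mem_filter.2 ⟨List.mem_toFinset.2 hxb, hxf⟩)]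
  have hw : (∑ b ∈ P.rep.toFinset.filter (· ∈ P.free), if σ b == b then 1 else 2) =
      weight σ (P.rep.filter fun b => P.free.contains b) := by
    rw [weight, ← List.sum_toFinset _ (hnd.filter _)]
    refine Finset.sum_congr ?_ fun _ _ => rfl
    ext x
    simp
  rw [hw, pow_succ]
  ring

end TopCtx

end Cfsg.Agent.SimpleFacts.MinDegTw
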